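import Groth.Agent.Ega2.TensPow

/-!
# Calculus of multiplication maps on global sections

`MulSurj M N`: every global section of `M ⊗ N` is a finite sum of products of global sections, i.e. the
multiplication map `H⁰(M) ⊗ H⁰(N) → H⁰(M ⊗ N)` is surjective.
-/

set_option autoImplicit false
universe u
open CategoryTheory CategoryTheory.Limits AlgebraicGeometry Opposite TopologicalSpace

namespace K800.MulMap

open Groth.Agent.Ega2 Groth.Agent.Ega2.Tens

variable {X : Scheme.{u}} {M N M' N' P Q R : X.Modules}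

/-- The additive subgroup of `Γ(M ⊗ N, ⊤)` generated by products of global sections. -/
noncomputable def prods (M N : X.Modules) : AddSubgroup Γ(CohB1.tensorMod M N, ⊤) :=
  AddSubgroup.closure {t | ∃ (m : Γ(M, ⊤)) (n : Γ(N, ⊤)), t = tmul m n}

theorem tmul_mem_prods (m : Γ(M, ⊤)) (n : Γ(N, ⊤)) : tmul m n ∈ prods M N :=
  AddSubgroup.subset_closure ⟨m, n, rfl⟩

/-- The multiplication map on global sections is surjective. -/
def MulSurj (M N : X.Modules) : Prop := ∀ t : Γ(CohB1.tensorMod M N, ⊤), t ∈ prods M N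

theorem eta_mem_prods (p : PT M N ⊤) : (eta M N).app (op ⊤) p ∈ prods M N := by
  obtain ⟨n, m, m', h⟩ := eta_eq_sum p
  rw [h]
  exact AddSubgroup.sum_mem _ fun i _ => tmul_mem_prods _ _

theorem mulSurj_iff : MulSurj M N ↔ Function.Surjective
    ((toSheafify (Opens.grothendieckTopology X) (CohB1.tensorPre M N).presheaf).app (op ⊤)) := by
  constructor
  · intro h t
    have ht : t ∈ prods M N := h t
    induction ht using AddSubgroup.closure_induction with
    | mem x hx =>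
      obtain ⟨m, n, rfl⟩ := hx
      exact ⟨pt m n, rfl⟩
    | zero => exact ⟨0, map_zero _⟩
    | add x y _ _ hx hy =>
      obtain ⟨a, ha⟩ := hx
      obtain ⟨b, hb⟩ := hy
      exact ⟨a + b, (map_add _ a b).trans (by rw [ha, hb]; rfl)⟩
    | neg x _ hx =>
      obtain ⟨a, ha⟩ := hx
      exact ⟨-a, (map_neg _ a).trans (by rw [ha]; rfl)⟩
  · intro h t
    obtain ⟨p, hp⟩ := h t
    have := eta_mem_prods (M := M) (N := N) p
    rwa [show (eta M N).app (op ⊤) p = t from hp] at this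

/-- A morphism on `M ⊗ N` sending products into `S` sends `prods` into `S`. -/
theorem map_mem {K : Type*} [AddCommGroup K] (φ : Γ(CohB1.tensorMod M N, ⊤) →+ K)
    (S : AddSubgroup K) (h : ∀ (m : Γ(M, ⊤)) (n : Γ(N, ⊤)), φ (tmul m n) ∈ S)
    {t : Γ(CohB1.tensorMod M N, ⊤)} (ht : t ∈ prods M N) : φ t ∈ S := by
  induction ht using AddSubgroup.closure_induction with
  | mem x hx => obtain ⟨m, n, rfl⟩ := hx; exact h m n
  | zero => rw [map_zero]; exact S.zero_mem
  | add x y _ _ hx hy => rw [map_add]; exact S.add_mem hx hy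
  | neg x _ hx => rw [map_neg]; exact S.neg_mem hx

/-- The additive map on global sections. -/
noncomputable def gl (φ : M ⟶ N) : Γ(M, ⊤) →+ Γ(N, ⊤) := (φ.app ⊤).hom

theorem gl_apply (φ : M ⟶ N) (m : Γ(M, ⊤)) : gl φ m = φ.app ⊤ m := rfl

theorem MulSurj.congr (h : MulSurj M N) (e : M ≅ M') (f : N ≅ N') : MulSurj M' N' := by
  intro t
  have ht : (Tens.mapT e.hom f.hom).app ⊤ ((Tens.mapT e.inv f.inv).app ⊤ t) = t := by
    have h1 : Tens.mapT e.inv f.inv ≫ Tens.mapT e.hom f.hom = 𝟙 _ := by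
      rw [← Tens.mapT_comp, e.inv_hom_id, f.inv_hom_id, Tens.mapT_id]
    exact congr(($h1).app ⊤ t)
  rw [← ht]
  refine map_mem (gl (Tens.mapT e.hom f.hom)) (prods M' N') (fun m n => ?_) (h _)
  rw [gl_apply, Tens.mapT_tmul]
  exact tmul_mem_prods _ _

theorem MulSurj.congr_iff (e : M ≅ M') (f : N ≅ N') : MulSurj M N ↔ MulSurj M' N' :=
  ⟨fun h => h.congr e f, fun h => h.congr e.symm f.symm⟩

theorem MulSurj.swap (h : MulSurj M N) : MulSurj N M := by
  intro t
  have ht : (Tens.swap M N).hom.app ⊤ ((Tens.swap M N).inv.app ⊤ t) = t :=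
    TensPow.app_symm_app _ t
  rw [← ht]
  refine map_mem (gl (Tens.swap M N).hom) (prods N M) (fun m n => ?_) (h _)
  have h1 : (Tens.swap M N).hom.app ⊤ (tmul m n) = tmul n m := TensPow.swap_tmul m n
  rw [gl_apply, h1]
  exact tmul_mem_prods _ _

/-- If `H⁰(M) ⊗ H⁰(N) → H⁰(M ⊗ N)` and `H⁰(M ⊗ N) ⊗ H⁰(P) → H⁰(M ⊗ N ⊗ P)` are surjective, so is
`H⁰(M) ⊗ H⁰(N ⊗ P) → H⁰(M ⊗ N ⊗ P)`. -/
theorem MulSurj.trans (h : MulSurj M N) (h' : MulSurj (CohB1.tensorMod M N) P) :
    MulSurj M (CohB1.tensorMod N P) := by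
  intro t
  have ht : (Tens.assoc M N P).hom.app ⊤ ((Tens.assoc M N P).inv.app ⊤ t) = t :=
    TensPow.app_symm_app _ t
  rw [← ht]
  refine map_mem (gl (Tens.assoc M N P).hom) (prods M (CohB1.tensorMod N P)) (fun s p => ?_) (h' _)
  let ψ : Γ(CohB1.tensorMod M N, ⊤) →+ Γ(CohB1.tensorMod M (CohB1.tensorMod N P), ⊤) :=
    (gl (Tens.assoc M N P).hom).comp
      ((Tens.tmulHom (CohB1.tensorMod M N) P ⊤).flip p).toAddMonoidHom
  refine map_mem ψ (prods M (CohB1.tensorMod N P)) (fun m n => ?_) (h s)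
  change (Tens.assoc M N P).hom.app ⊤ (tmul (tmul m n) p) ∈ _
  have h1 : (Tens.assoc M N P).hom.app ⊤ (tmul (tmul m n) p) = tmul m (tmul n p) :=
    TensPow.assoc_tmul m n p
  rw [h1]
  exact tmul_mem_prods _ _

/-- Multiplication by the sections of the structure sheaf is surjective. -/
theorem mulSurj_unit (M : X.Modules) : MulSurj M (Coh.structureModule X) := by
  intro t
  have ht : (Tens.runit M).inv.app ⊤ ((Tens.runit M).hom.app ⊤ t) = t :=
    TensPow.symm_app_app _ t
  rw [← ht, Tens.runit_inv_app]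
  exact tmul_mem_prods _ _

end K800.MulMap
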