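import Mathlib.Tactic

/-!
# Gaps between the values of the Hilbert functions (pure arithmetic)

`f : ℤ → ℤ` with constant positive `n`-th difference and the symmetry of Serre duality.
-/

set_option autoImplicit false

namespace K800.Gap

/-- `n = 3`, canonical class ample: `f (1 - p) = - f p`. -/
theorem gap3 (f : ℤ → ℤ) (hD : ∀ p, 0 < f p - f (p - 1) - (f (p - 1) - f (p - 2)) -
      (f (p - 1) - f (p - 2) - (f (p - 2) - f (p - 3))))
    (hZ : ∀ p, f p - f (p - 1) - (f (p - 1) - f (p - 2)) -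
      (f (p - 1) - f (p - 2) - (f (p - 2) - f (p - 3))) - (f (p - 1) - f (p - 2) - (f (p - 2) - f (p - 3)) -
      (f (p - 2) - f (p - 3) - (f (p - 3) - f (p - 4)))) = 0)
    (hS : ∀ p, f (1 - p) = - f p) (h2 : 0 ≤ f 2) :
    5 ≤ f 4 ∧ f 2 + 4 ≤ f 5 ∧ f 3 + 4 ≤ f 5 ∧ ∀ p : ℕ, f (p + 4) + 4 ≤ f (p + 5) := by
  have s1 := hS 1
  have s2 := hS 2
  have s3 := hS 3
  have s4 := hS 4
  norm_num at s1 s2 s3 s4
  have z3 := hZ 3
  have z4 := hZ 4
  have z5 := hZ 5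
  have z2 := hZ 2
  have d2 := hD 2
  norm_num at z2 z3 z4 z5 d2
  refine ⟨by omega, by omega, by omega, ?_⟩
  have key : ∀ p : ℕ, 0 ≤ f (p + 5) - 2 * f (p + 4) + f (p + 3) ∧ f (p + 4) + 4 ≤ f (p + 5) := by
    intro p
    induction p with
    | zero => norm_num; omega
    | succ p ih =>
      have d := hD ((p : ℤ) + 6)
      have e1 : (p : ℤ) + 6 - 1 = p + 5 := by ring
      have e2 : (p : ℤ) + 6 - 2 = p + 4 := by ring
      have e3 : (p : ℤ) + 6 - 3 = p + 3 := by ring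
      rw [e1, e2, e3] at d
      push_cast
      have a5 : (p : ℤ) + 1 + 5 = p + 6 := by ring
      have a4 : (p : ℤ) + 1 + 4 = p + 5 := by ring
      have a3 : (p : ℤ) + 1 + 3 = p + 4 := by ring
      rw [a5, a4, a3]
      omega
  exact fun p => (key p).2

/-- `n = 4`, canonical class ample: `f (1 - p) = f p`. -/
theorem gap4 (f : ℤ → ℤ)
    (hD : ∀ p, 0 < f p - 4 * f (p - 1) + 6 * f (p - 2) - 4 * f (p - 3) + f (p - 4))
    (hZ : ∀ p, f p - 4 * f (p - 1) + 6 * f (p - 2) - 4 * f (p - 3) + f (p - 4) =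
      f (p - 1) - 4 * f (p - 2) + 6 * f (p - 3) - 4 * f (p - 4) + f (p - 5))
    (hS : ∀ p, f (1 - p) = f p) (h2 : 0 ≤ f 2) (h4 : 0 ≤ f 4) (h24 : f 2 = 0 ∨ 2 * f 2 ≤ f 4 + 1) :
    6 ≤ f 5 ∧ f 2 + 5 ≤ f 6 ∧ f 3 + 5 ≤ f 6 ∧ f 4 + 5 ≤ f 6 ∧ ∀ p : ℕ, f (p + 5) + 5 ≤ f (p + 6) := by
  have s1 := hS 1
  have s2 := hS 2
  have s3 := hS 3
  have s4 := hS 4
  norm_num at s1 s2 s3 s4
  have z3 := hZ 3
  have z4 := hZ 4
  have z5 := hZ 5
  have z6 := hZ 6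
  have d2 := hD 2
  norm_num at z3 z4 z5 z6 d2
  refine ⟨by omega, by omega, by omega, by omega, ?_⟩
  have key : ∀ p : ℕ, 0 ≤ f (p + 6) - 3 * f (p + 5) + 3 * f (p + 4) - f (p + 3) ∧
      0 ≤ f (p + 6) - 2 * f (p + 5) + f (p + 4) ∧ f (p + 5) + 5 ≤ f (p + 6) := by
    intro p
    induction p with
    | zero => norm_num; omega
    | succ p ih =>
      have d := hD ((p : ℤ) + 7)
      have e1 : (p : ℤ) + 7 - 1 = p + 6 := by ring
      have e2 : (p : ℤ) + 7 - 2 = p + 5 := by ring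
      have e3 : (p : ℤ) + 7 - 3 = p + 4 := by ring
      have e4 : (p : ℤ) + 7 - 4 = p + 3 := by ring
      rw [e1, e2, e3, e4] at d
      push_cast
      have a6 : (p : ℤ) + 1 + 6 = p + 7 := by ring
      have a5 : (p : ℤ) + 1 + 5 = p + 6 := by ring
      have a4 : (p : ℤ) + 1 + 4 = p + 5 := by ring
      have a3 : (p : ℤ) + 1 + 3 = p + 4 := by ring
      rw [a6, a5, a4, a3]
      omega
  exact fun p => (key p).2.2

/-- `n = 4`, canonical class trivial: `f (- p) = f p`. -/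
theorem gap4' (f : ℤ → ℤ)
    (hD : ∀ p, 0 < f p - 4 * f (p - 1) + 6 * f (p - 2) - 4 * f (p - 3) + f (p - 4))
    (hZ : ∀ p, f p - 4 * f (p - 1) + 6 * f (p - 2) - 4 * f (p - 3) + f (p - 4) =
      f (p - 1) - 4 * f (p - 2) + 6 * f (p - 3) - 4 * f (p - 4) + f (p - 5))
    (hS : ∀ p, f (- p) = f p) (h1 : 0 ≤ f 1) (h12 : f 1 ≤ f 2) :
    6 ≤ f 5 ∧ f 1 + 5 ≤ f 5 ∧ f 2 + 5 ≤ f 5 ∧ f 3 + 5 ≤ f 5 ∧ ∀ p : ℕ, f (p + 4) + 5 ≤ f (p + 5) := by
  have s1 := hS 1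
  have s2 := hS 2
  have s3 := hS 3
  have z3 := hZ 3
  have z4 := hZ 4
  have z5 := hZ 5
  have d2 := hD 2
  norm_num at z3 z4 z5 d2
  refine ⟨by omega, by omega, by omega, by omega, ?_⟩
  have key : ∀ p : ℕ, 0 ≤ f (p + 5) - 3 * f (p + 4) + 3 * f (p + 3) - f (p + 2) ∧
      0 ≤ f (p + 5) - 2 * f (p + 4) + f (p + 3) ∧ f (p + 4) + 5 ≤ f (p + 5) := by
    intro p
    induction p with
    | zero => norm_num; omega
    | succ p ih =>
      have d := hD ((p : ℤ) + 6)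
      have e1 : (p : ℤ) + 6 - 1 = p + 5 := by ring
      have e2 : (p : ℤ) + 6 - 2 = p + 4 := by ring
      have e3 : (p : ℤ) + 6 - 3 = p + 3 := by ring
      have e4 : (p : ℤ) + 6 - 4 = p + 2 := by ring
      rw [e1, e2, e3, e4] at d
      push_cast
      have a6 : (p : ℤ) + 1 + 5 = p + 6 := by ring
      have a5 : (p : ℤ) + 1 + 4 = p + 5 := by ring
      have a4 : (p : ℤ) + 1 + 3 = p + 4 := by ring
      have a3 : (p : ℤ) + 1 + 2 = p + 3 := by ring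
      rw [a6, a5, a4, a3]
      omega
  exact fun p => (key p).2.2

end K800.Gap
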