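import Groth.Agent.AdjLin.K800.Arith

/-!
# Multiplication maps of multiples of one ample class, canonical class a multiple of it
-/

set_option autoImplicit false
universe u

open CategoryTheory CategoryTheory.Limits AlgebraicGeometry Opposite TopologicalSpace

namespace K800.Mult

open K800.MulMap K800.Cls K800.KosCrit K800.Crit K800.Main K800.Arith

variable {X : Scheme.{u}} {k : Type u} [Field k] [X.Over (Spec (CommRingCat.of k))]
  [IsProper (X ↘ Spec (CommRingCat.of k))] {n : ℕ} {κ : P X} (G : Geo k n κ) [IsAlgClosed k] [IsIntegral X]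

include G

/-- `H⁰(ν a) ⊗ H⁰(β a) → H⁰((ν + β) a)` is onto if `β a` is globally generated, `(n - 1) β + e < ν` (`κ = e a`) and
`h⁰((n β + e - ν) a) + n + 1 ≤ h⁰(β a)`. -/
theorem ms_mult (hn : 1 ≤ n) {a : P X} (ha : Amp a) {e : ℕ} (he : κ = e • a) {ν β : ℕ} (hg : GG (β • a))
    (h1 : (n - 1) * β + e + 1 ≤ ν)
    (h2 : ∀ j, ν + j = n * β + e → h0 k (j • a) + (n + 1) ≤ h0 k (β • a)) : MS (ν • a) (β • a) := by
  by_cases h3 : n * β + e + 1 ≤ ν
  · refine msv G hg fun i _ h5 => ?_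
    have h6 : i * β ≤ n * β := Nat.mul_le_mul_right _ h5
    obtain ⟨x, hx, hx'⟩ : ∃ x, ν = i * β + e + x ∧ 0 < x := ⟨ν - (i * β + e), by omega, by omega⟩
    exact ⟨x • a, ampMul k ha hx', by rw [hx, he]; module⟩
  · refine msd G hn hg (fun i _ h5 => ?_) ?_
    · have h6 : i * β ≤ (n - 1) * β := Nat.mul_le_mul_right _ (by omega)
      obtain ⟨x, hx, hx'⟩ : ∃ x, ν = i * β + e + x ∧ 0 < x := ⟨ν - (i * β + e), by omega, by omega⟩
      exact ⟨x • a, ampMul k ha hx', by rw [hx, he]; module⟩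
    · obtain ⟨j, hj⟩ : ∃ j, ν + j = n * β + e := ⟨n * β + e - ν, by omega⟩
      have e1 : κ - ν • a + n • (β • a) = j • a := by
        have e2 : (ν + j) • a = (n * β + e) • a := by rw [hj]
        rw [he]
        have e3 : e • a - ν • a + n • β • a = (n * β + e) • a - ν • a := by module
        rw [e3, ← e2]
        module
      rw [e1]
      exact h2 j hj

/-- The product with `N = q p + r` in `q` steps `p` and a last step `r`. -/
theorem ms_decomp (hn : 1 ≤ n) {a : P X} (ha : Amp a) {e : ℕ} (he : κ = e • a) {N p q r : ℕ} (hN : N = q * p + r)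
    (hgp : GG (p • a)) (hgr : GG (r • a))
    (h1 : (n - 1) * p + e + 1 ≤ N) (h1' : (n - 1) * r + e + 1 ≤ N + q * p)
    (h2 : ∀ ν j, N ≤ ν → ν + j = n * p + e → h0 k (j • a) + (n + 1) ≤ h0 k (p • a))
    (h2' : ∀ ν j, N + q * p ≤ ν → ν + j = n * r + e → h0 k (j • a) + (n + 1) ≤ h0 k (r • a))
    (t : ℕ) (ht : 1 ≤ t) : MS (t • (N • a)) (N • a) := by
  have htN : N ≤ t * N := Nat.le_mul_of_pos_left _ ht
  have hA : MS (t • (N • a)) (q • (p • a)) := by
    refine MS.nsmul q fun j _ => ?_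
    have e1 : t • N • a + j • p • a = (t * N + j * p) • a := by module
    rw [e1]
    exact ms_mult G hn ha he hgp (by omega) fun i hi => h2 _ i (by omega) hi
  have hB : MS (t • (N • a) + q • (p • a)) (r • a) := by
    have e1 : t • N • a + q • p • a = (t * N + q * p) • a := by module
    rw [e1]
    exact ms_mult G hn ha he hgr (by omega) fun i hi => h2' _ i (by omega) hi
  have := hA.trans hB
  have e1 : q • (p • a) + r • a = N • a := by
    rw [hN]
    module
  rwa [e1] at this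

/-- The multiples `β a`, `β ≥ s`, have at least `n + 1` sections more than the smaller multiples. -/
def GapH (k : Type u) [Field k] [X.Over (Spec (CommRingCat.of k))] (n s : ℕ) (a : P X) : Prop :=
  ∀ j β : ℕ, j < β → s ≤ β → h0 k (j • a) + (n + 1) ≤ h0 k (β • a)

/-- Threefolds with `κ` ample. -/
theorem ms56 (hn : n = 3) (ha : Amp κ) (hg : ∀ l : ℕ, 5 ≤ l → GG (l • κ)) (hgap : GapH k n 5 κ)
    (N : ℕ) (hN : 12 ≤ N) (t : ℕ) (ht : 1 ≤ t) : MS (t • (N • κ)) (N • κ) := by
  subst hn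
  have go : ∀ p q r : ℕ, N = q * p + r → 5 ≤ p → 5 ≤ r → 2 * p + 2 ≤ N → 2 * r + 2 ≤ N + q * p →
      MS (t • (N • κ)) (N • κ) := fun p q r h1 h2 h3 h4 h5 =>
    ms_decomp G (by omega) ha (one_smul ℕ κ).symm h1 (hg p h2) (hg r h3) (by omega) (by omega)
      (fun ν j _ _ => hgap j p (by omega) h2) (fun ν j _ _ => hgap j r (by omega) h3) t ht
  rcases Nat.lt_or_ge N 15 with h | h
  · interval_cases N
    · exact go 5 1 7 (by norm_num) (by norm_num) (by norm_num) (by norm_num) (by norm_num)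
    · exact go 5 1 8 (by norm_num) (by norm_num) (by norm_num) (by norm_num) (by norm_num)
    · exact go 6 1 8 (by norm_num) (by norm_num) (by norm_num) (by norm_num) (by norm_num)
  · exact go 5 (N / 5 - 1) (5 + N % 5) (by omega) le_rfl (by omega) (by omega) (by omega)

/-- Fourfolds with `κ` ample. -/
theorem ms57 (hn : n = 4) (ha : Amp κ) (hg : ∀ l : ℕ, 6 ≤ l → GG (l • κ)) (hgap : GapH k n 6 κ)
    (N : ℕ) (hN : 24 ≤ N) (t : ℕ) (ht : 1 ≤ t) : MS (t • (N • κ)) (N • κ) := by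
  subst hn
  exact ms_decomp G (p := 6) (q := N / 6 - 1) (r := 6 + N % 6) (by omega) ha (one_smul ℕ κ).symm (by omega)
    (hg 6 le_rfl) (hg _ (by omega)) (by omega) (by omega)
    (fun ν j _ _ => hgap j 6 (by omega) le_rfl) (fun ν j _ _ => hgap j _ (by omega) (by omega)) t ht

/-- Fourfolds with `κ` trivial. -/
theorem ms54 (hn : n = 4) (hκ : κ = 0) {a : P X} (ha : Amp a) (hg : ∀ l : ℕ, 5 ≤ l → GG (l • a))
    (hgap : GapH k n 5 a) (N : ℕ) (hN : 16 ≤ N) (t : ℕ) (ht : 1 ≤ t) : MS (t • (N • a)) (N • a) := by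
  subst hn
  exact ms_decomp G (p := 5) (q := N / 5 - 1) (r := 5 + N % 5) (by omega) ha (e := 0)
    (by rw [hκ, zero_smul]) (by omega) (hg 5 le_rfl) (hg _ (by omega)) (by omega) (by omega)
    (fun ν j _ _ => hgap j 5 (by omega) le_rfl) (fun ν j _ _ => hgap j _ (by omega) (by omega)) t ht

theorem ms53 (hn : n = 4) (hκ : κ = 0) {a : P X} (ha : Amp a) (hg : ∀ l : ℕ, 5 ≤ l → GG (l • a))
    (hgap : GapH k n 5 a) (N : ℕ) (hN : 5 ≤ N) (t : ℕ) (ht : 1 ≤ t) : MS ((3 * N + t) • a) (N • a) := by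
  subst hn
  exact ms_mult G (by omega) ha (e := 0) (by rw [hκ, zero_smul]) (hg N hN) (by omega)
    (fun j _ => hgap j N (by omega) hN)

end K800.Mult
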