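import Groth.Agent.AdjLin.K800.Diff
import Groth.Agent.AdjLin.K800.Mult
import Groth.Agent.AdjLin.K800.Gap

/-!
# Pluricanonical and trivial canonical threefolds and fourfolds, from the freeness of adjoint bundles

The rows S13853, S13854, S13856, S13857 from Kodaira vanishing and from global generation of `K ⊗ A^l`,
`l ≥ n + 1`, `A` ample.
-/

set_option autoImplicit false
universe u

open CategoryTheory CategoryTheory.Limits AlgebraicGeometry Opposite TopologicalSpace Module

namespace K800.Free4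

open Groth.Agent Groth.Agent.CurvesB Groth.Agent.Ega2
open K800.MulMap K800.Cls K800.KosCrit K800.Crit K800.Main K800.Setup K800.Arith K800.Hopf K800.Stat K800.Diff
open K800.Mult

/-- Freeness of adjoint bundles (Fujita), as a property of `X` and its canonical module `K`. -/
def Free {X : Scheme.{u}} (n : ℕ) (K : X.Modules) : Prop :=
  ∀ A : X.Modules, CohB1.IsAmple A → ∀ l : ℕ, n + 1 ≤ l →
    Curv2.IsGloballyGenerated (CohB1.tensorMod K (CohB1.tensorPow A l))

section

variable {k : Type u} [Field k] {X : Scheme.{u}} [X.Over (Spec (CommRingCat.of k))]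

theorem gap_of_steps {n s : ℕ} {a : P X} (h : ∀ j < s, h0 k (j • a) + (n + 1) ≤ h0 k (s • a))
    (h' : ∀ p : ℕ, s ≤ p → h0 k (p • a) + (n + 1) ≤ h0 k ((p + 1) • a)) : GapH k n s a := by
  intro j β hj hβ
  obtain ⟨i, rfl⟩ : ∃ i, β = s + i := ⟨β - s, by omega⟩
  induction i with
  | zero => exact h j hj
  | succ i ih =>
    rcases Nat.lt_or_ge j (s + i) with h1 | h1
    · have := ih h1 (by omega)
      have h2 := h' (s + i) (by omega)
      have e : s + i + 1 = s + (i + 1) := by omega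
      rw [e] at h2
      omega
    · obtain rfl : j = s + i := by omega
      exact h' _ (by omega)

end

section

variable (k : Type u) [Field k] {X : Scheme.{u}} [X.Over (Spec (CommRingCat.of k))]
  [IsProper (X ↘ Spec (CommRingCat.of k))]

omit [IsProper (X ↘ Spec (CommRingCat.of k))] in
theorem D3 (c a : P X) : D k c 3 a = chi k a - chi k (a - c) - (chi k (a - c) - chi k (a - c - c)) -
    (chi k (a - c) - chi k (a - c - c) - (chi k (a - c - c) - chi k (a - c - c - c))) := rfl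

omit [IsProper (X ↘ Spec (CommRingCat.of k))] in
theorem D4 (c a : P X) : D k c 4 a = D k c 3 a - D k c 3 (a - c) := rfl

omit [IsProper (X ↘ Spec (CommRingCat.of k))] in
theorem D5 (c a : P X) : D k c 5 a = D k c 4 a - D k c 4 (a - c) := rfl

theorem sub_zs (c : P X) (p : ℤ) : p • c - c = (p - 1) • c := by module

variable [IsAlgClosed k] [IsIntegral X]

theorem two_le (a : P X) : h0 k a = 0 ∨ 2 * h0 k a ≤ h0 k (a + a) + 1 := by
  rcases Nat.eq_zero_or_pos (h0 k a) with h | h
  · exact Or.inl h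
  · right
    have := h0_add_le k a a (eff_of_pos k h) (eff_of_pos k h)
    omega

variable {k} in
omit [IsAlgClosed k] [IsIntegral X] in
theorem chi_kod {n : ℕ} {κ : P X} (G : Geo k n κ) {a : P X} (ha : Amp a) (hn : topologicalKrullDim X = n) :
    chi k (κ + a) = h0 k (κ + a) := by
  refine chi_eq_h0 k fun i hi => ?_
  rcases Nat.lt_or_ge n i with h1 | h1
  · exact Groth.Agent.Pic13.H11.Cls.V_of_dim k (co_m k _) (by rw [supp_m, dim_univ, hn]) h1
  · exact G.kod a ha i hi h1

/-- threefolds, `κ` ample -/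
theorem gapH3 [SmoothOfRelativeDimension 3 (X ↘ Spec (CommRingCat.of k))] {K : X.Modules}
    (hK : Canon.IsTopDiff (X ↘ Spec (CommRingCat.of k)) 3 K) (hKi : PicF.IsInvertible K)
    (G : Geo k 3 (cl K hKi)) (ha : Amp (cl K hKi)) : GapH k 3 5 (cl K hKi) := by
  have hd : topologicalKrullDim X = (3 : ℕ) := topologicalKrullDim_eq k (X ↘ Spec (CommRingCat.of k)) 3
  set κ := cl K hKi with hκ
  let f : ℤ → ℤ := fun p => chi k (p • κ)
  have hf : ∀ p : ℕ, f (p + 2) = h0 k ((p + 2) • κ) := by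
    intro p
    have e1 : ((p : ℤ) + 2) • κ = κ + (p + 1) • κ := by module
    have e2 : (p + 2) • κ = κ + (p + 1) • κ := by module
    change chi k (((p : ℤ) + 2) • κ) = _
    rw [e1, e2]
    exact chi_kod G (ampMul k ha (by omega)) hd
  have hg := Gap.gap3 f
    (fun p => by
      have := D_pos k 3 hd κ ha (p • κ)
      rw [D3, sub_zs, sub_zs, sub_zs] at this
      have e1 : p - 1 - 1 = p - 2 := by ring
      have e2 : p - 2 - 1 = p - 3 := by ring
      rw [e1, e2] at this
      exact this)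
    (fun p => by
      have := D_zero k 3 hd κ (p • κ)
      rw [D4, D3, D3, sub_zs, sub_zs, sub_zs, sub_zs] at this
      have e1 : p - 1 - 1 = p - 2 := by ring
      have e2 : p - 2 - 1 = p - 3 := by ring
      have e3 : p - 3 - 1 = p - 4 := by ring
      rw [e1, e2, e3] at this
      exact this)
    (fun p => by
      have := chi_dual k 3 hd hK hKi (p • κ)
      rw [← hκ] at this
      have e1 : (1 - p) • κ = κ - p • κ := by module
      change chi k ((1 - p) • κ) = - chi k (p • κ)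
      rw [e1, this]
      ring)
    (by have := hf 0; norm_num at this; rw [this]; positivity)
  obtain ⟨h4, h25, h35, hs⟩ := hg
  have f2 := hf 0
  have f3 := hf 1
  have f4 := hf 2
  have f5 := hf 3
  norm_num at f2 f3 f4 f5
  have h45 := hs 0
  norm_num at h45
  rw [f4] at h4
  rw [f2, f5] at h25
  rw [f3, f5] at h35
  rw [f4, f5] at h45
  have h00 : h0 k ((0 : ℕ) • κ) = 1 := by rw [zero_smul]; exact G.h0_zero
  have h15 : h0 k ((1 : ℕ) • κ) = 0 ∨ h0 k ((1 : ℕ) • κ) + 4 ≤ h0 k ((5 : ℕ) • κ) := by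
    rcases Nat.eq_zero_or_pos (h0 k ((1 : ℕ) • κ)) with h | h
    · exact Or.inl h
    · right
      have h1 := h0_add_le k ((1 : ℕ) • κ) ((4 : ℕ) • κ) (eff_of_pos k h) (eff_of_pos k (by omega))
      have e : (1 : ℕ) • κ + (4 : ℕ) • κ = (5 : ℕ) • κ := by module
      rw [e] at h1
      omega
  refine gap_of_steps (fun j hj => ?_) (fun p hp => ?_)
  · interval_cases j <;> omega
  · obtain ⟨i, rfl⟩ : ∃ i, p = i + 5 := ⟨p - 5, by omega⟩
    have h1 := hs (i + 1)
    have a1 := hf (i + 3)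
    have a2 := hf (i + 4)
    have e1 : (((i + 1 : ℕ) : ℤ) + 4) = ((i + 3 : ℕ) : ℤ) + 2 := by push_cast; ring
    have e2 : (((i + 1 : ℕ) : ℤ) + 5) = ((i + 4 : ℕ) : ℤ) + 2 := by push_cast; ring
    rw [e1, e2, a1, a2] at h1
    have e3 : i + 3 + 2 = i + 5 := by omega
    have e4 : i + 4 + 2 = i + 5 + 1 := by omega
    rw [e3, e4] at h1
    exact_mod_cast h1

/-- fourfolds, `κ` ample -/
theorem gapH4 [SmoothOfRelativeDimension 4 (X ↘ Spec (CommRingCat.of k))] {K : X.Modules}
    (hK : Canon.IsTopDiff (X ↘ Spec (CommRingCat.of k)) 4 K) (hKi : PicF.IsInvertible K)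
    (G : Geo k 4 (cl K hKi)) (ha : Amp (cl K hKi)) : GapH k 4 6 (cl K hKi) := by
  have hd : topologicalKrullDim X = (4 : ℕ) := topologicalKrullDim_eq k (X ↘ Spec (CommRingCat.of k)) 4
  set κ := cl K hKi with hκ
  let f : ℤ → ℤ := fun p => chi k (p • κ)
  have hf : ∀ p : ℕ, f (p + 2) = h0 k ((p + 2) • κ) := by
    intro p
    have e1 : ((p : ℤ) + 2) • κ = κ + (p + 1) • κ := by module
    have e2 : (p + 2) • κ = κ + (p + 1) • κ := by module
    change chi k (((p : ℤ) + 2) • κ) = _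
    rw [e1, e2]
    exact chi_kod G (ampMul k ha (by omega)) hd
  have f2 := hf 0
  have f3 := hf 1
  have f4 := hf 2
  have f5 := hf 3
  have f6 := hf 4
  norm_num at f2 f3 f4 f5 f6
  have hg := Gap.gap4 f
    (fun p => by
      have := D_pos k 4 hd κ ha (p • κ)
      rw [D4, D3, D3, sub_zs, sub_zs, sub_zs, sub_zs] at this
      have e1 : p - 1 - 1 = p - 2 := by ring
      have e2 : p - 2 - 1 = p - 3 := by ring
      have e3 : p - 3 - 1 = p - 4 := by ring
      rw [e1, e2, e3] at this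
      change 0 < chi k (p • κ) - 4 * chi k ((p - 1) • κ) + 6 * chi k ((p - 2) • κ) - 4 * chi k ((p - 3) • κ) +
        chi k ((p - 4) • κ)
      omega)
    (fun p => by
      have := D_zero k 4 hd κ (p • κ)
      rw [D5, D4, D4, D3, D3, D3, sub_zs, sub_zs, sub_zs, sub_zs, sub_zs] at this
      have e1 : p - 1 - 1 = p - 2 := by ring
      have e2 : p - 2 - 1 = p - 3 := by ring
      have e3 : p - 3 - 1 = p - 4 := by ring
      have e4 : p - 4 - 1 = p - 5 := by ring
      rw [e1, e2, e3, e4] at this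
      change chi k (p • κ) - 4 * chi k ((p - 1) • κ) + 6 * chi k ((p - 2) • κ) - 4 * chi k ((p - 3) • κ) +
        chi k ((p - 4) • κ) = chi k ((p - 1) • κ) - 4 * chi k ((p - 2) • κ) + 6 * chi k ((p - 3) • κ) -
        4 * chi k ((p - 4) • κ) + chi k ((p - 5) • κ)
      omega)
    (fun p => by
      have := chi_dual k 4 hd hK hKi (p • κ)
      rw [← hκ] at this
      have e1 : (1 - p) • κ = κ - p • κ := by module
      change chi k ((1 - p) • κ) = chi k (p • κ)
      rw [e1, this]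
      ring)
    (by rw [f2]; positivity) (by rw [f4]; positivity)
    (by
      rw [f2, f4]
      have e : (4 : ℕ) • κ = (2 : ℕ) • κ + (2 : ℕ) • κ := by module
      rw [e]
      have := two_le k ((2 : ℕ) • κ)
      omega)
  obtain ⟨h5, h26, h36, h46, hs⟩ := hg
  have h56 := hs 0
  norm_num at h56
  rw [f5] at h5
  rw [f2, f6] at h26
  rw [f3, f6] at h36
  rw [f4, f6] at h46
  rw [f5, f6] at h56
  have h00 : h0 k ((0 : ℕ) • κ) = 1 := by rw [zero_smul]; exact G.h0_zero
  have h16 : h0 k ((1 : ℕ) • κ) = 0 ∨ h0 k ((1 : ℕ) • κ) + 5 ≤ h0 k ((6 : ℕ) • κ) := by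
    rcases Nat.eq_zero_or_pos (h0 k ((1 : ℕ) • κ)) with h | h
    · exact Or.inl h
    · right
      have h1 := h0_add_le k ((1 : ℕ) • κ) ((5 : ℕ) • κ) (eff_of_pos k h) (eff_of_pos k (by omega))
      have e : (1 : ℕ) • κ + (5 : ℕ) • κ = (6 : ℕ) • κ := by module
      rw [e] at h1
      omega
  refine gap_of_steps (fun j hj => ?_) (fun p hp => ?_)
  · interval_cases j <;> omega
  · obtain ⟨i, rfl⟩ : ∃ i, p = i + 6 := ⟨p - 6, by omega⟩
    have h1 := hs (i + 1)
    have a1 := hf (i + 4)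
    have a2 := hf (i + 5)
    have e1 : (((i + 1 : ℕ) : ℤ) + 5) = ((i + 4 : ℕ) : ℤ) + 2 := by push_cast; ring
    have e2 : (((i + 1 : ℕ) : ℤ) + 6) = ((i + 5 : ℕ) : ℤ) + 2 := by push_cast; ring
    rw [e1, e2, a1, a2] at h1
    have e3 : i + 4 + 2 = i + 6 := by omega
    have e4 : i + 5 + 2 = i + 6 + 1 := by omega
    rw [e3, e4] at h1
    exact_mod_cast h1

/-- fourfolds, `κ` trivial -/
theorem gapH4' [SmoothOfRelativeDimension 4 (X ↘ Spec (CommRingCat.of k))] {K : X.Modules}
    (hK : Canon.IsTopDiff (X ↘ Spec (CommRingCat.of k)) 4 K) (hKi : PicF.IsInvertible K)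
    (G : Geo k 4 (cl K hKi)) (hκ0 : cl K hKi = 0) {a : P X} (ha : Amp a) : GapH k 4 5 a := by
  have hd : topologicalKrullDim X = (4 : ℕ) := topologicalKrullDim_eq k (X ↘ Spec (CommRingCat.of k)) 4
  let f : ℤ → ℤ := fun p => chi k (p • a)
  have hf : ∀ p : ℕ, f (p + 1) = h0 k ((p + 1) • a) := by
    intro p
    have h1 := chi_kod G (ampMul k ha (show 0 < p + 1 by omega)) hd
    rw [hκ0, zero_add] at h1
    rw [← h1]
    change chi k (((p : ℤ) + 1) • a) = _
    congr 1
  have f1 := hf 0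
  have f2 := hf 1
  have f3 := hf 2
  have f4 := hf 3
  have f5 := hf 4
  norm_num at f1 f2 f3 f4 f5
  have h12 : h0 k a ≤ h0 k ((2 : ℕ) • a) := by
    have e : (2 : ℕ) • a = a + a := two_nsmul a
    rw [e]
    rcases two_le k a with h | h
    · rw [h]; exact Nat.zero_le _
    · omega
  have hg := Gap.gap4' f
    (fun p => by
      have := D_pos k 4 hd a ha (p • a)
      rw [D4, D3, D3, sub_zs, sub_zs, sub_zs, sub_zs] at this
      have e1 : p - 1 - 1 = p - 2 := by ring
      have e2 : p - 2 - 1 = p - 3 := by ring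
      have e3 : p - 3 - 1 = p - 4 := by ring
      rw [e1, e2, e3] at this
      change 0 < chi k (p • a) - 4 * chi k ((p - 1) • a) + 6 * chi k ((p - 2) • a) - 4 * chi k ((p - 3) • a) +
        chi k ((p - 4) • a)
      omega)
    (fun p => by
      have := D_zero k 4 hd a (p • a)
      rw [D5, D4, D4, D3, D3, D3, sub_zs, sub_zs, sub_zs, sub_zs, sub_zs] at this
      have e1 : p - 1 - 1 = p - 2 := by ring
      have e2 : p - 2 - 1 = p - 3 := by ring
      have e3 : p - 3 - 1 = p - 4 := by ring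
      have e4 : p - 4 - 1 = p - 5 := by ring
      rw [e1, e2, e3, e4] at this
      change chi k (p • a) - 4 * chi k ((p - 1) • a) + 6 * chi k ((p - 2) • a) - 4 * chi k ((p - 3) • a) +
        chi k ((p - 4) • a) = chi k ((p - 1) • a) - 4 * chi k ((p - 2) • a) + 6 * chi k ((p - 3) • a) -
        4 * chi k ((p - 4) • a) + chi k ((p - 5) • a)
      omega)
    (fun p => by
      have := chi_dual k 4 hd hK hKi (p • a)
      have e1 : (- p) • a = cl K hKi - p • a := by rw [hκ0]; module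
      change chi k ((- p) • a) = chi k (p • a)
      rw [e1, this]
      ring)
    (by rw [f1]; positivity)
    (by rw [f1, f2]; exact_mod_cast h12)
  obtain ⟨h5, h15, h25, h35, hs⟩ := hg
  have h45 := hs 0
  norm_num at h45
  rw [f5] at h5
  rw [f1, f5] at h15
  rw [f2, f5] at h25
  rw [f3, f5] at h35
  rw [f4, f5] at h45
  have h00 : h0 k ((0 : ℕ) • a) = 1 := by rw [zero_smul]; exact G.h0_zero
  have h01 : h0 k ((1 : ℕ) • a) = h0 k a := by rw [one_smul]
  refine gap_of_steps (fun j hj => ?_) (fun p hp => ?_)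
  · interval_cases j <;> omega
  · obtain ⟨i, rfl⟩ : ∃ i, p = i + 5 := ⟨p - 5, by omega⟩
    have h1 := hs (i + 1)
    have a1 := hf (i + 4)
    have a2 := hf (i + 5)
    have e1 : (((i + 1 : ℕ) : ℤ) + 4) = ((i + 4 : ℕ) : ℤ) + 1 := by push_cast; ring
    have e2 : (((i + 1 : ℕ) : ℤ) + 5) = ((i + 5 : ℕ) : ℤ) + 1 := by push_cast; ring
    rw [e1, e2, a1, a2] at h1
    have e3 : i + 4 + 1 = i + 5 := by omega
    rw [e3] at h1
    exact_mod_cast h1

end

/-! ### Statements -/

section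

variable (k : Type u) [Field k] [IsAlgClosed k] {X : Scheme.{u}} [X.Over (Spec (CommRingCat.of k))]
  [IsProper (X ↘ Spec (CommRingCat.of k))] [IsIntegral X]

omit [IsAlgClosed k] [IsProper (X ↘ Spec (CommRingCat.of k))] [IsIntegral X] [X.Over (Spec (CommRingCat.of k))] in
theorem gg_of_free {n : ℕ} {K : X.Modules} (hfree : Free n K) (hKi : PicF.IsInvertible K) {A : X.Modules}
    (hA : CohB1.IsAmple A) {a : P X} (rA : Nonempty (rep a ≅ A)) (l : ℕ) (hl : n + 1 ≤ l) :
    GG (cl K hKi + l • a) :=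
  (gg_iff (rep_T (rep_cl hKi) (rep_P rA l))).2 (hfree A hA l hl)

theorem s56 [SmoothOfRelativeDimension 3 (X ↘ Spec (CommRingCat.of k))] (hkod : Kod X 3) (hnef : NefAmple k X)
    (K : X.Modules) (hK : Canon.IsTopDiff (X ↘ Spec (CommRingCat.of k)) 3 K) (hfree : Free 3 K)
    (hKa : CohB1.IsAmple K) (m : ℕ) (hm : 12 ≤ m) (L : X.Modules) (hL : Nonempty (L ≅ CohB1.tensorPow K m)) :
    VAPN k X L := by
  have hKi := isInvertible_canon k 3 hK
  have G := geo k 3 hkod hnef hK hKi
  have rK := rep_cl hKi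
  have rL : Nonempty (rep (m • cl K hKi) ≅ L) := by
    obtain ⟨e⟩ := rep_P rK m
    obtain ⟨f⟩ := hL
    exact ⟨e ≪≫ f.symm⟩
  have hLi := inv_of_rep rL
  have hκ := (amp_iff rK).2 hKa
  have hLA : CohB1.IsAmple L := by
    rw [← amp_iff rL]
    exact ampMul k hκ (by omega)
  refine veryAmple_and_projNormal hLi hLA fun t ht => ?_
  rw [cl_eq_of hLi rL ⟨Iso.refl _⟩]
  refine ms56 G rfl hκ (fun l hl => ?_) (gapH3 k hK hKi G hκ) m hm t ht
  have := gg_of_free hfree hKi hKa rK (l - 1) (by omega)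
  have e : cl K hKi + (l - 1) • cl K hKi = l • cl K hKi := by
    obtain ⟨x, rfl⟩ : ∃ x, l = x + 1 := ⟨l - 1, by omega⟩
    rw [Nat.add_sub_cancel]
    module
  rwa [e] at this

theorem s57 [SmoothOfRelativeDimension 4 (X ↘ Spec (CommRingCat.of k))] (hkod : Kod X 4) (hnef : NefAmple k X)
    (K : X.Modules) (hK : Canon.IsTopDiff (X ↘ Spec (CommRingCat.of k)) 4 K) (hfree : Free 4 K)
    (hKa : CohB1.IsAmple K) (m : ℕ) (hm : 24 ≤ m) (L : X.Modules) (hL : Nonempty (L ≅ CohB1.tensorPow K m)) :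
    VAPN k X L := by
  have hKi := isInvertible_canon k 4 hK
  have G := geo k 4 hkod hnef hK hKi
  have rK := rep_cl hKi
  have rL : Nonempty (rep (m • cl K hKi) ≅ L) := by
    obtain ⟨e⟩ := rep_P rK m
    obtain ⟨f⟩ := hL
    exact ⟨e ≪≫ f.symm⟩
  have hLi := inv_of_rep rL
  have hκ := (amp_iff rK).2 hKa
  have hLA : CohB1.IsAmple L := by
    rw [← amp_iff rL]
    exact ampMul k hκ (by omega)
  refine veryAmple_and_projNormal hLi hLA fun t ht => ?_
  rw [cl_eq_of hLi rL ⟨Iso.refl _⟩]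
  refine ms57 G rfl hκ (fun l hl => ?_) (gapH4 k hK hKi G hκ) m hm t ht
  have := gg_of_free hfree hKi hKa rK (l - 1) (by omega)
  have e : cl K hKi + (l - 1) • cl K hKi = l • cl K hKi := by
    obtain ⟨x, rfl⟩ : ∃ x, l = x + 1 := ⟨l - 1, by omega⟩
    rw [Nat.add_sub_cancel]
    module
  rwa [e] at this

theorem s54 [SmoothOfRelativeDimension 4 (X ↘ Spec (CommRingCat.of k))] (hkod : Kod X 4) (hnef : NefAmple k X)
    (hK : Canon.IsTopDiff (X ↘ Spec (CommRingCat.of k)) 4 (Coh.structureModule X))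
    (hfree : Free 4 (Coh.structureModule X))
    (A : X.Modules) (hA : CohB1.IsAmple A) (m : ℕ) (hm : 16 ≤ m) (L : X.Modules)
    (hL : Nonempty (L ≅ CohB1.tensorPow A m)) : VAPN k X L := by
  have hKi := isInvertible_canon k 4 hK
  have G := geo k 4 hkod hnef hK hKi
  have rA := rep_cl hA.1
  have rL : Nonempty (rep (m • cl A hA.1) ≅ L) := by
    obtain ⟨e⟩ := rep_P rA m
    obtain ⟨f⟩ := hL
    exact ⟨e ≪≫ f.symm⟩
  have hLi := inv_of_rep rL
  have hκ := (amp_iff rA).2 hA
  have hκ0 : cl (Coh.structureModule X) hKi = 0 := cl_one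
  have hLA : CohB1.IsAmple L := by
    rw [← amp_iff rL]
    exact ampMul k hκ (by omega)
  refine veryAmple_and_projNormal hLi hLA fun t ht => ?_
  rw [cl_eq_of hLi rL ⟨Iso.refl _⟩]
  refine ms54 G rfl hκ0 hκ (fun l hl => ?_) (gapH4' k hK hKi G hκ0 hκ) m hm t ht
  have := gg_of_free hfree hKi hA rA l (by omega)
  rwa [hκ0, zero_add] at this

theorem s53 [SmoothOfRelativeDimension 4 (X ↘ Spec (CommRingCat.of k))] (hkod : Kod X 4) (hnef : NefAmple k X)
    (hK : Canon.IsTopDiff (X ↘ Spec (CommRingCat.of k)) 4 (Coh.structureModule X))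
    (hfree : Free 4 (Coh.structureModule X))
    (A : X.Modules) (hA : CohB1.IsAmple A) (n : ℕ) (hn : 5 ≤ n) (t : ℕ) (ht : 1 ≤ t) :
    Function.Surjective
      ((toSheafify (Opens.grothendieckTopology X) (CohB1.tensorPre (CohB1.tensorPow A (3 * n + t))
        (CohB1.tensorPow A n)).presheaf).app (Opposite.op ⊤)) := by
  have hKi := isInvertible_canon k 4 hK
  have G := geo k 4 hkod hnef hK hKi
  have rA := rep_cl hA.1
  have hκ := (amp_iff rA).2 hA
  have hκ0 : cl (Coh.structureModule X) hKi = 0 := cl_one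
  refine mulSurj_iff.1 ((ms_iff (rep_P rA _) (rep_P rA _)).1 ?_)
  refine ms53 G rfl hκ0 hκ (fun l hl => ?_) (gapH4' k hK hKi G hκ0 hκ) n hn t ht
  have := gg_of_free hfree hKi hA rA l (by omega)
  rwa [hκ0, zero_add] at this

end

end K800.Free4
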