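import Groth.Agent.AdjLin.K800.KosCrit
import Groth.Agent.PerfB.DualMod
import Groth.Agent.S3635
import Groth.Agent.LoccohB.DQCohBasic
import Groth.Prelude.Def_Canon

/-!
# The canonical module of a smooth proper scheme is dualizing
-/

set_option autoImplicit false
universe u

open CategoryTheory CategoryTheory.Limits AlgebraicGeometry Opposite TopologicalSpace

attribute [local instance] HasDerivedCategory.standard

namespace K800.Duality

open Groth.Agent Groth.Agent.CurvesC Groth.Agent.PerfA K800.KosCrit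

/-- Transport of `IsDual` along an isomorphism. -/
theorem isDual_congr {k : Type u} [Field k] {X : Scheme.{u}} [X.Over (Spec (CommRingCat.of k))] {n : ℕ}
    {ω ω' : X.Modules} (e : ω ≅ ω') (h : IsDual k n ω) : IsDual k n ω' := by
  obtain ⟨t, ht⟩ := h
  have hinv : ∀ x, Groth.Agent.CohqB.HSeqMod.hmap e.inv n (Groth.Agent.CohqB.HSeqMod.hmap e.hom n x) = x := by
    intro x
    rw [← Groth.Agent.CohqB.HSeqMod.hmap_comp_apply, e.hom_inv_id, Groth.Agent.CohqB.HSeqMod.hmap_id_apply]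
  refine ⟨t ∘ₗ Groth.Agent.FormalA.HHLin.HHmap k e.inv n, fun F hF ψ => ?_⟩
  obtain ⟨φ, hφ, hu⟩ := ht F hF ψ
  refine ⟨φ ≫ e.hom, fun x => ?_, fun φ' hφ' => ?_⟩
  · change ψ x = t (Groth.Agent.CohqB.HSeqMod.hmap e.inv n
      (Groth.Agent.CohqB.HSeqMod.hmap (φ ≫ e.hom) n x))
    rw [Groth.Agent.CohqB.HSeqMod.hmap_comp_apply, hinv]
    exact hφ x
  · rw [← hu (φ' ≫ e.inv) fun x => ?_]
    · simp
    · change ψ x = t (Groth.Agent.CohqB.HSeqMod.hmap (φ' ≫ e.inv) n x)
      rw [Groth.Agent.CohqB.HSeqMod.hmap_comp_apply]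
      exact hφ' x

theorem isDual_of_isTopDiff (k : Type u) [Field k] (X : Scheme.{u}) [X.Over (Spec (CommRingCat.of k))]
    [IsProper (X ↘ Spec (CommRingCat.of k))] (n : ℕ)
    [SmoothOfRelativeDimension n (X ↘ Spec (CommRingCat.of k))]
    (hd : topologicalKrullDim X ≤ n) (K : X.Modules)
    (hK : Canon.IsTopDiff (X ↘ Spec (CommRingCat.of k)) n K) : IsDual k n K := by
  have hR := Dcoh.DerSch.hasRpush (X ↘ Spec (CommRingCat.of k))
  have h : DCoh.RpushPreservesQCoh (X ↘ Spec (CommRingCat.of k)) := fun K hK =>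
    S0998.result (X ↘ Spec (CommRingCat.of k)) K hK
  have hc : CompactSpace X := QuasiCompact.compactSpace_of_compactSpace (X ↘ Spec (CommRingCat.of k))
  have hq : QuasiSeparatedSpace X :=
    quasiSeparatedSpace_of_quasiSeparated (X ↘ Spec (CommRingCat.of k))
  have hN : IsLocallyNoetherian X := LocallyOfFiniteType.isLocallyNoetherian (X ↘ Spec (CommRingCat.of k))
  have hN' : IsNoetherian X := ⟨⟩
  have hs : DCoh.HasShriek (X ↘ Spec (CommRingCat.of k)) h :=
    S1766.result X (Spec (CommRingCat.of k)) (X ↘ Spec (CommRingCat.of k)) h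
  have hO : Coh.IsCoh (Coh.structureModule (Spec (CommRingCat.of k))) :=
    CurvesB.UnitCoh.isCoh_structureModule _
  let OY : DCoh.DQCoh (Spec (CommRingCat.of k)) :=
    ⟨DCoh.inD _ (Coh.structureModule (Spec (CommRingCat.of k))), QCohD.isQCohD_inD _ hO.1⟩
  obtain ⟨t, ht⟩ := DualRep.exists_form_mod k X h OY n hd ⟨Iso.refl _⟩
  obtain ⟨e1⟩ := S3635.result (Spec (CommRingCat.of k)) X n (X ↘ Spec (CommRingCat.of k)) h
    (DCoh.shriek (X ↘ Spec (CommRingCat.of k)) h) (DCoh.shriekAdj (X ↘ Spec (CommRingCat.of k)) h)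
    OY ⟨Iso.refl _⟩ K hK
  have e2 : DCoh.HD ((DCoh.inD X K)⟦(n : ℤ)⟧) (-(n : ℤ)) ≅ K :=
    LoccohB.DQCohBasic.homologyShiftIso (DCoh.inD X K) (n : ℤ) (-(n : ℤ)) 0 (by omega) ≪≫
    (DerivedCategory.singleFunctorCompHomologyFunctorIso X.Modules 0).app K
  have e : DCoh.dualizingMod (X ↘ Spec (CommRingCat.of k)) h OY n ≅ K :=
    (DerivedCategory.homologyFunctor X.Modules (-(n : ℤ))).mapIso e1 ≪≫ e2
  refine isDual_congr e ⟨t ∘ₗ (HV.equiv k _ n).symm.toLinearMap, fun F hF ψ => ?_⟩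
  obtain ⟨φ, hφ⟩ := (ht F hF).2 (ψ ∘ₗ (HV.equiv k F n).toLinearMap)
  refine ⟨φ, fun x => ?_, fun φ' hφ' => (ht F hF).1 ?_⟩
  · exact (LinearMap.congr_fun hφ ((HV.equiv k F n).symm x)).symm
  · refine LinearMap.ext fun y => ?_
    refine Eq.trans ?_ (LinearMap.congr_fun hφ y).symm
    exact (hφ' (HV.equiv k F n y)).symm

end K800.Duality
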