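import Groth.Agent.AdjLin.K800.Arith
import Groth.Agent.AdjLin.K800.Duality
import Groth.Agent.Surf.K461.SerreDual
import Groth.Agent.Surf.K455.Canon
import Groth.Agent.VarietyB.DimTop
import Groth.Agent.UnramA.SmoothFibreDim
import Groth.Agent.PerfA.H0AlgClosed
import Groth.Agent.CurvesB.HZero
import Groth.Agent.Fga.EulerLEAdd
import Groth.Prelude.Def_ClSub2

/-!
# The geometric input for a smooth proper variety in characteristic zero
-/

set_option autoImplicit false
universe u

open CategoryTheory CategoryTheory.Limits AlgebraicGeometry Opposite TopologicalSpace Module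

namespace K800.Setup

open Groth.Agent Groth.Agent.CurvesB Groth.Agent.Ega2
open K800.MulMap K800.Cls K800.KosCrit K800.Crit K800.Main

theorem finrank_HH_zero_eq_one (k : Type u) [Field k] [IsAlgClosed k] {Z : Scheme.{u}}
    [Z.Over (Spec (CommRingCat.of k))] [IsProper (Z ↘ Spec (CommRingCat.of k))] [IsReduced Z] [ConnectedSpace Z] :
    finrank k (Coh.HH Z (Coh.structureModule Z) 0) = 1 := by
  have hb := PerfA.H0AlgClosed.bijective_str_of_isAlgClosed (Z ↘ Spec (CommRingCat.of k))
  have h2 : PerfA.CechH0.str (Z ↘ Spec (CommRingCat.of k)) ⊤ = HZero.gl k Z := by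
    have h3 : (Z ↘ Spec (CommRingCat.of k)).appLE ⊤ ⊤ (PerfA.CechH0.le_preimage_top (Z ↘ Spec (CommRingCat.of k)) ⊤) =
        (Z ↘ Spec (CommRingCat.of k)).appTop := by
      rw [Scheme.Hom.appTop, Scheme.Hom.app_eq_appLE]; rfl
    rw [PerfA.CechH0.str, h3]
    rfl
  rw [h2] at hb
  rw [finrank_eq_one_iff']
  refine ⟨(HZero.equivO Z).symm 1, ?_, fun w => ?_⟩
  · intro h
    have h1 : (1 : Γ(Z, ⊤)) = 0 := by
      have := congrArg (HZero.equivO Z) h
      rwa [AddEquiv.apply_symm_apply, map_zero] at this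
    have : Nonempty (⊤ : Z.Opens) := ⟨⟨Classical.arbitrary Z, trivial⟩⟩
    exact one_ne_zero h1
  · obtain ⟨c, hc⟩ := hb.2 (HZero.equivO Z w)
    refine ⟨c, (HZero.equivO Z).injective ?_⟩
    rw [HZero.equivO_smul, AddEquiv.apply_symm_apply, mul_one, hc]

/-- The dimension of a scheme smooth of relative dimension `n`. -/
theorem topologicalKrullDim_eq (K : Type u) [Field K] {X : Scheme.{u}} (g : X ⟶ Spec (CommRingCat.of K)) (n : ℕ)
    [SmoothOfRelativeDimension n g] [Nonempty X] : topologicalKrullDim X = n := by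
  rw [VarietyB.DimTop.topologicalKrullDim_eq_iSup_localDim]
  simp_rw [UnramA.SmoothFibreDim.localDim_eq n g]
  exact ciSup_const

variable (k : Type u) [Field k] [IsAlgClosed k] (X : Scheme.{u}) [X.Over (Spec (CommRingCat.of k))]
  [IsProper (X ↘ Spec (CommRingCat.of k))] [IsIntegral X] (n : ℕ)
  [SmoothOfRelativeDimension n (X ↘ Spec (CommRingCat.of k))]

/-- Kodaira vanishing, as a property of `X`. -/
def Kod : Prop := ∀ (L Linv : X.Modules), CohB1.IsAmple L → ClSub.IsInverseOf Linv L → ∀ b < n,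
  Subsingleton (Coh.HH X Linv b)

omit [IsAlgClosed k] [IsProper (X ↘ Spec (CommRingCat.of k))] [IsIntegral X] in
/-- Nef ⊗ ample is ample, as a property of `X`. -/
def NefAmple : Prop := ∀ (A L : X.Modules), CohB1.IsAmple A → PicF.IsInvertible L →
  (∀ (Y : Scheme.{u}) (i : Y ⟶ X) [IsClosedImmersion i], IsIntegral Y → topologicalKrullDim Y = 1 →
      0 ≤ Pic13.curveDeg k (i ≫ (X ↘ Spec (CommRingCat.of k))) ((Scheme.Modules.pullback i).obj L)) →
  CohB1.IsAmple (CohB1.tensorMod L A)

variable {X}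

omit [IsAlgClosed k] [IsIntegral X] in
theorem isInvertible_canon {K : X.Modules} (hK : Canon.IsTopDiff (X ↘ Spec (CommRingCat.of k)) n K) :
    PicF.IsInvertible K :=
  K455.Canon.isInvertible (X ↘ Spec (CommRingCat.of k)) n hK

theorem geo (hkod : Kod X n) (hnef : NefAmple k X) {K : X.Modules}
    (hK : Canon.IsTopDiff (X ↘ Spec (CommRingCat.of k)) n K) (hKi : PicF.IsInvertible K) :
    Geo k n (cl K hKi) := by
  have hN : IsLocallyNoetherian X := LocallyOfFiniteType.isLocallyNoetherian (X ↘ Spec (CommRingCat.of k))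
  have hc : CompactSpace X := QuasiCompact.compactSpace_of_compactSpace (X ↘ Spec (CommRingCat.of k))
  have hN' : IsNoetherian X := ⟨⟩
  have hd : topologicalKrullDim X = n := topologicalKrullDim_eq k (X ↘ Spec (CommRingCat.of k)) n
  obtain ⟨eK⟩ : Nonempty (rep (cl K hKi) ≅ K) := rep_iso rfl
  refine ⟨fun F => Fga.EulerLEAdd.subsingleton_HH X n hd.le F _ (Nat.lt_succ_self n),
    Duality.isDual_congr eK.symm (Duality.isDual_of_isTopDiff k X n hd.le K hK), ?_, ?_, ?_⟩
  · intro a ha i h1 h2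
    have h3 : Subsingleton (Coh.HH X (rep (-a)) (n - i)) :=
      hkod (rep a) (rep (-a)) ha (rep_neg_tensor a) (n - i) (by omega)
    obtain ⟨e⟩ := K461.SerreDual.nonempty_dual_equiv k n hK (rep_neg_tensor a)
      (Groth.Agent.Ega2.QCohLocal.isQCoh_of_isInvertible (rep_inv (-a))) i (n - i) (by omega)
    have h4 : Subsingleton (Module.Dual k (Coh.HH X (rep (-a)) (n - i))) :=
      ⟨fun f g => LinearMap.ext fun x => by rw [Subsingleton.elim x 0, map_zero, map_zero]⟩
    have h5 : Subsingleton (Coh.HH X (CohB1.tensorMod K (rep a)) i) := e.symm.toEquiv.subsingleton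
    exact (van_iff ((rep_add _ _).map fun e => e ≪≫ Tens.mapTIso eK (Iso.refl _)) i).2 h5
  · intro a c ha hc
    exact (amp_iff (rep_add a c)).2 (hnef (rep c) (rep a) hc (rep_inv a) ha)
  · rw [h0_eq k rep_zero]
    exact finrank_HH_zero_eq_one k

end K800.Setup
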