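import Groth.Agent.AdjLin.K800.Cls
import Groth.Agent.S2327
import Groth.Agent.Ega2.AmpleSec
import Groth.Agent.Ega2.AmpleAff
import Groth.Agent.Ega1.GlobGenPt

/-!
# Ample and nef classes
-/

set_option autoImplicit false
universe u

open CategoryTheory CategoryTheory.Limits AlgebraicGeometry Opposite TopologicalSpace

namespace K800.Cls

open Groth.Agent.Grpsch Groth.Agent.Fdesc.LocGen K800.MulMap Groth.Agent.Ega2 Groth.Agent.Ega2.Weight

variable {X : Scheme.{u}}

/-- The class is ample. -/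
def Amp (a : P X) : Prop := CohB1.IsAmple (rep a)

theorem amp_iff {a : P X} {L : X.Modules} (h : Nonempty (rep a ≅ L)) : Amp a ↔ CohB1.IsAmple L := by
  obtain ⟨e⟩ := h
  exact ⟨fun h => isAmple_of_iso e h, fun h => isAmple_of_iso e.symm h⟩

theorem Amp.add_of {a b : P X} (ha : Amp a) (h : ∀ x : X, ∃ (n : ℕ)
    (s' : Coh.structureModule X ⟶ CohB1.tensorPow (rep b) (n + 1)), x ∈ CohB1.genLocus _ s') :
    Amp (a + b) :=
  (amp_iff (rep_add a b)).2 (isAmple_tensorMod ha (rep_inv b) h)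

theorem Amp.add {a b : P X} (ha : Amp a) (hb : Amp b) : Amp (a + b) :=
  ha.add_of fun x => by
    obtain ⟨-, -, h⟩ := hb
    obtain ⟨n, s, hs, -⟩ := h x
    exact ⟨n, s, hs⟩

theorem genLocus_comp_iso {M N : X.Modules} (e : M ≅ N) (s : Coh.structureModule X ⟶ M) :
    CohB1.genLocus N (s ≫ e.hom) = CohB1.genLocus M s := by
  have key : ∀ V : X.Opens, V ≤ CohB1.genLocus N (s ≫ e.hom) ↔ V ≤ CohB1.genLocus M s := by
    intro V
    rw [le_genLocus_iff, le_genLocus_iff]
    constructor
    · intro h1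
      have h2 := h1.app e.inv
      have h3 : e.inv.app V (sec (s ≫ e.hom) V) = sec s V := TensPow.symm_app_app e _
      rwa [h3] at h2
    · intro h1
      exact h1.app e.hom
  exact le_antisymm ((key _).1 le_rfl) ((key _).2 le_rfl)

theorem Amp.add_gg {a b : P X} (ha : Amp a) (hb : GG b) : Amp (a + b) :=
  ha.add_of fun x => by
    obtain ⟨s, hs⟩ := Groth.Agent.Ega1.GlobGenPt.exists_mem_genLocus (rep_inv b) hb x
    refine ⟨0, s ≫ (Tens.lunit (rep b)).inv, ?_⟩
    have h1 := genLocus_comp_iso (Tens.lunit (rep b)).symm s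
    change x ∈ CohB1.genLocus (CohB1.tensorMod (Coh.structureModule X) (rep b)) (s ≫ (Tens.lunit (rep b)).symm.hom)
    rw [h1]
    exact hs

section Sep

variable [CompactSpace X] [X.IsSeparated]

theorem amp_nsmul_iff {a : P X} {n : ℕ} (hn : 0 < n) : Amp (n • a) ↔ Amp a := by
  rw [amp_iff (rep_nsmul n a)]
  exact (Groth.Agent.S2327.result X (rep a) (rep_inv a) n hn).symm

theorem Amp.nsmul {a : P X} (ha : Amp a) {n : ℕ} (hn : 0 < n) : Amp (n • a) := (amp_nsmul_iff hn).2 ha

end Sep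

/-- The class has non-negative degree on integral closed curves. -/
def Nef (k : Type u) [Field k] [X.Over (Spec (CommRingCat.of k))] (a : P X) : Prop :=
  ∀ (Y : Scheme.{u}) (i : Y ⟶ X) [IsClosedImmersion i], IsIntegral Y → topologicalKrullDim Y = 1 →
      0 ≤ Pic13.curveDeg k (i ≫ (X ↘ Spec (CommRingCat.of k))) ((Scheme.Modules.pullback i).obj (rep a))

end K800.Cls
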