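import Groth.Agent.AdjLin.K800.Main

/-!
# The multiplication maps of adjoint linear series (class form)
-/

set_option autoImplicit false
universe u

open CategoryTheory CategoryTheory.Limits AlgebraicGeometry Opposite TopologicalSpace

namespace K800.Arith

open K800.MulMap K800.Cls K800.KosCrit K800.Crit K800.Main

section Base

variable {X : Scheme.{u}} (k : Type u) [Field k] [X.Over (Spec (CommRingCat.of k))]
  [IsProper (X ↘ Spec (CommRingCat.of k))]

include k in
theorem isSeparated : X.IsSeparated := by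
  have h1 : IsSeparated ((X ↘ Spec (CommRingCat.of k)) ≫ terminal.from _) := inferInstance
  constructor
  have h2 : (X ↘ Spec (CommRingCat.of k)) ≫ terminal.from _ = terminal.from X := Subsingleton.elim _ _
  rwa [h2] at h1

include k in
theorem ampMul {c : P X} (hc : Amp c) {m : ℕ} (hm : 0 < m) : Amp (m • c) := by
  have : CompactSpace X := QuasiCompact.compactSpace_of_compactSpace (X ↘ Spec (CommRingCat.of k))
  have : X.IsSeparated := isSeparated k
  exact hc.nsmul hm

include k in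
theorem ampOfMul {c : P X} {m : ℕ} (hm : 0 < m) (hc : Amp (m • c)) : Amp c := by
  have : CompactSpace X := QuasiCompact.compactSpace_of_compactSpace (X ↘ Spec (CommRingCat.of k))
  have : X.IsSeparated := isSeparated k
  exact (amp_nsmul_iff hm).1 hc

end Base

variable {X : Scheme.{u}} {k : Type u} [Field k] [X.Over (Spec (CommRingCat.of k))]
  [IsProper (X ↘ Spec (CommRingCat.of k))]

section Amp

variable {n : ℕ} {κ : P X} (G : Geo k n κ)

include G

theorem nefAmp {d c : P X} (hd : Nef k d) (hc : Amp c) (m : ℕ) : Amp (m • d + c) := by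
  induction m with
  | zero => rwa [zero_smul, zero_add]
  | succ m ih =>
    have := G.nef d _ hd ih
    have e : (m + 1) • d + c = d + (m • d + c) := by module
    rwa [e]

/-- `p B + q D` is ample for `B` ample, `D` nef, `p > 0`. -/
theorem ampComb {b d : P X} (hb : Amp b) (hd : Nef k d) {p : ℕ} (hp : 0 < p) (q : ℕ) :
    Amp (p • b + q • d) := by
  rw [add_comm]
  exact nefAmp G hd (ampMul k hb hp) q

/-- Criterion, vanishing form. -/
theorem msv {a b : P X} (hb : GG b) (h : ∀ i, 1 ≤ i → i ≤ n → ∃ c, Amp c ∧ a - i • b = κ + c) : MS a b := by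
  refine ms_of_van k n G.hN hb fun i h1 h2 => ?_
  obtain ⟨c, hc, e⟩ := h i h1 h2
  rw [e]
  exact G.kod c hc i h1 h2

variable [IsAlgClosed k] [IsIntegral X]

/-- Criterion, dual form. -/
theorem msd (hn : 1 ≤ n) {a b : P X} (hb : GG b) (h : ∀ i, 1 ≤ i → i < n → ∃ c, Amp c ∧ a - i • b = κ + c)
    (htop : h0 k (κ - a + n • b) + (n + 1) ≤ h0 k b) : MS a b := by
  refine ms_of_dual k n hn G.hN G.dual hb (fun i h1 h2 => ?_) (Or.inr htop)
  obtain ⟨c, hc, e⟩ := h i h1 h2
  rw [e]
  exact G.kod c hc i h1 h2.le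

/-- S13849. -/
theorem ms49 (hn : 1 ≤ n) {b : P X} (hb : Amp b) (hg : GG b) (h : n + 2 ≤ h0 k b) : MS (κ + n • b) b := by
  refine msd G hn hg (fun i h1 h2 => ?_) ?_
  · obtain ⟨j, rfl⟩ : ∃ j, n = i + 1 + j := ⟨n - i - 1, by omega⟩
    exact ⟨(j + 1) • b, ampMul k hb (by omega), by module⟩
  · have e : κ - (κ + n • b) + n • b = 0 := by module
    rw [e, G.h0_zero]
    omega

/-- S13850. -/
theorem ms50 (hn : 1 ≤ n) {b d : P X} (hb : Amp b) (hg : GG (κ + b)) (hc : h0 k κ + n + 1 ≤ h0 k (κ + b))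
    (hd : d + κ = b) (hdn : Nef k d) (hde : Eff d) : MS (κ + (2 * n - 1) • b) (κ + b) := by
  have hκ : κ = b - d := by rw [← hd]; abel
  refine msd G hn hg (fun i h1 h2 => ?_) ?_
  · obtain ⟨j, rfl⟩ : ∃ j, n = i + 1 + j := ⟨n - i - 1, by omega⟩
    refine ⟨(2 * j + 1) • b + i • d, ampComb G hb hdn (by omega) i, ?_⟩
    have e : 2 * (i + 1 + j) - 1 = 2 * i + 1 + 2 * j := by omega
    rw [e, hκ]
    module
  · obtain ⟨m, rfl⟩ : ∃ m, n = m + 1 := ⟨n - 1, by omega⟩
    have e : 2 * (m + 1) - 1 = 2 * m + 1 := by omega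
    have e2 : κ - (κ + (2 * (m + 1) - 1) • b) + (m + 1) • (κ + b) = κ - m • d := by
      rw [e, hκ]
      module
    rw [e2]
    have h1 : ∀ m : ℕ, h0 k (κ - m • d) ≤ h0 k κ := by
      intro m
      induction m with
      | zero => rw [zero_smul, sub_zero]
      | succ m ih =>
        have e3 : κ - (m + 1) • d = κ - m • d - d := by module
        rw [e3]
        exact (h0_sub_le k _ d hde).trans ih
    have := h1 m
    omega

/-- S13852. -/
theorem ms52 (hn : 2 ≤ n) {b d : P X} (hb : Amp b) (hg : GG (κ + b)) (hc : h0 k κ + n + 1 ≤ h0 k (κ + b))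
    (hd : d + (n - 1) • κ = (n - 2) • b) (hdn : Nef k d) (hde : Eff d) :
    MS (κ + (2 * n - 2) • b) (κ + b) := by
  refine msd G (by omega) hg (fun i h1 h2 => ?_) ?_
  · obtain ⟨i, rfl⟩ : ∃ i', i = i' + 1 := ⟨i - 1, by omega⟩
    obtain ⟨j, rfl⟩ : ∃ j, n = i + 1 + j + 1 := ⟨n - i - 2, by omega⟩
    have e1 : i + 1 + j + 1 - 1 = i + 1 + j := by omega
    have e2 : i + 1 + j + 1 - 2 = i + j := by omega
    have e3 : 2 * (i + 1 + j + 1) - 2 = 2 * (i + 1 + j) := by omega
    rw [e1, e2] at hd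
    rw [e3]
    refine ⟨(2 * (i + 1 + j)) • b - (i + 1) • (κ + b), ?_, by module⟩
    refine ampOfMul k (m := i + 1 + j) (by omega) ?_
    have key : (i + 1 + j) • ((2 * (i + 1 + j)) • b - (i + 1) • (κ + b)) =
        (2 * (i + 1 + j) * j + (i + 1)) • b + (i + 1) • d := by
      have h : (i + 1 + j) • κ = (i + j) • b - d := by rw [← hd]; abel
      have h2 : (i + 1) • ((i + 1 + j) • κ) = (i + 1) • ((i + j) • b - d) := by rw [h]
      have h3 : (i + 1 + j) • ((2 * (i + 1 + j)) • b - (i + 1) • (κ + b)) =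
          (i + 1 + j) • ((2 * (i + 1 + j)) • b - (i + 1) • b) - (i + 1) • ((i + 1 + j) • κ) := by module
      rw [h3, h2]
      module
    rw [key]
    exact ampComb G hb hdn (by omega) _
  · obtain ⟨m, rfl⟩ : ∃ m, n = m + 2 := ⟨n - 2, by omega⟩
    have e1 : m + 2 - 1 = m + 1 := by omega
    have e2 : m + 2 - 2 = m := by omega
    have e3 : 2 * (m + 2) - 2 = 2 * (m + 1) := by omega
    rw [e1, e2] at hd
    have e4 : κ - (κ + (2 * (m + 2) - 2) • b) + (m + 2) • (κ + b) = κ - d := by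
      have h : d = m • b - (m + 1) • κ := by rw [← hd]; abel
      rw [e3, h]
      module
    rw [e4]
    have := h0_sub_le k κ d hde
    omega

/-- S13851. -/
theorem ms51 (hn : 2 ≤ n) {b d : P X} (hb : Amp b) (hbg : GG b) (hκ : Nef k κ) (hg : GG (κ + b))
    (h : n + 2 ≤ h0 k b) (hc : h0 k κ + n + 1 ≤ h0 k (κ + b))
    (hd : d + κ = b) (hdn : Nef k d) (hde : Eff d) (l : ℕ) (hl : n ≤ l) (m : ℕ) (hm : 1 ≤ m) :
    MS (m • (κ + l • b)) (κ + l • b) := by
  obtain ⟨l, rfl⟩ : ∃ l', l = l' + 1 := ⟨l - 1, by omega⟩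
  obtain ⟨m, rfl⟩ : ∃ m', m = m' + 1 := ⟨m - 1, by omega⟩
  have hA : MS ((m + 1) • (κ + (l + 1) • b)) (l • b) := by
    refine MS.nsmul l fun j hj => ?_
    by_cases h1 : m = 0 ∧ l + 1 = n ∧ j = 0
    · obtain ⟨rfl, rfl, rfl⟩ := h1
      have e : (0 + 1) • (κ + (l + 1) • b) + 0 • b = κ + (l + 1) • b := by module
      rw [e]
      exact ms49 G (by omega) hb hbg h
    · refine msv G hbg fun i h2 h3 => ?_
      obtain ⟨x, hx, hx'⟩ : ∃ x, (m + 1) * (l + 1) + j = i + x ∧ 0 < x := by
        refine ⟨(m + 1) * (l + 1) + j - i, ?_, ?_⟩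
        · have : l + 1 ≤ (m + 1) * (l + 1) := Nat.le_mul_of_pos_left _ (by omega)
          omega
        · rcases Nat.eq_zero_or_pos m with rfl | hm0
          · have : l + 1 ≤ (0 + 1) * (l + 1) := by omega
            have h4 : n < (0 + 1) * (l + 1) + j := by
              by_contra h5
              exact h1 ⟨rfl, by omega, by omega⟩
            omega
          · have : (1 + 1) * (l + 1) ≤ (m + 1) * (l + 1) := Nat.mul_le_mul_right _ (by omega)
            omega
      refine ⟨x • b + m • κ, ampComb G hb hκ hx' m, ?_⟩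
      have e : (m + 1) • (κ + (l + 1) • b) + j • b - i • b =
          (m + 1) • κ + ((m + 1) * (l + 1) + j) • b - i • b := by module
      rw [e, hx]
      module
  have hB : MS ((m + 1) • (κ + (l + 1) • b) + l • b) (κ + b) := by
    by_cases h1 : m = 0 ∧ l + 1 = n
    · obtain ⟨rfl, rfl⟩ := h1
      have e : (0 + 1) • (κ + (l + 1) • b) + l • b = κ + (2 * (l + 1) - 1) • b := by
        have : 2 * (l + 1) - 1 = 2 * l + 1 := by omega
        rw [this]
        module
      rw [e]
      exact ms50 G (by omega) hb hg hc hd hdn hde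
    · refine msv G hg fun i h2 h3 => ?_
      obtain ⟨x, hx, hx'⟩ : ∃ x, (m + 1) * (l + 1) + l = 2 * i + x ∧ 0 < x := by
        have h4 : 2 * n < (m + 1) * (l + 1) + l := by
          rcases Nat.eq_zero_or_pos m with rfl | hm0
          · have h5 : l + 1 ≠ n := fun h6 => h1 ⟨rfl, h6⟩
            omega
          · have : (1 + 1) * (l + 1) ≤ (m + 1) * (l + 1) := Nat.mul_le_mul_right _ (by omega)
            omega
        exact ⟨(m + 1) * (l + 1) + l - 2 * i, by omega, by omega⟩
      refine ⟨(x • b + m • κ) + i • d, ?_, ?_⟩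
      · rw [add_comm]
        exact nefAmp G hdn (ampComb G hb hκ hx' m) i
      · have e : (m + 1) • (κ + (l + 1) • b) + l • b - i • (κ + b) =
            (m + 1) • κ + ((m + 1) * (l + 1) + l) • b - i • (κ + b) := by module
        have hd' : d = b - κ := by rw [← hd]; abel
        rw [e, hx, hd']
        module
  have := hA.trans hB
  have e : l • b + (κ + b) = κ + (l + 1) • b := by module
  rwa [e] at this

/-- S13855. -/
theorem ms55 (hn : 2 ≤ n) {b c e f g : P X} (hb : Amp b) (hbg : GG b) (hc : Nef k c)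
    (he : e + κ + (n - 1) • c = (n - 1) • b) (hea : Amp e) (hf : f + κ = b) (hfa : Amp f)
    (hbc : GG (b + c)) (hg : g + c = κ) (h : h0 k g + n + 1 ≤ h0 k b) (m : ℕ) (hm : 1 ≤ m) :
    MS (m • (n • b + c)) (n • b + c) := by
  obtain ⟨n, rfl⟩ : ∃ n', n = n' + 1 := ⟨n - 1, by omega⟩
  obtain ⟨m, rfl⟩ : ∃ m', m = m' + 1 := ⟨m - 1, by omega⟩
  have en : n + 1 - 1 = n := by omega
  rw [en] at he
  have hf' : κ = b - f := by rw [← hf]; abel
  have hge : ∀ {a : P X} (_ : Amp a) (p : ℕ), Amp (p • b + a) := by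
    intro a ha p
    rcases Nat.eq_zero_or_pos p with rfl | hp
    · rwa [zero_smul, zero_add]
    · exact (ampMul k hb hp).add ha
  have hA : MS ((m + 1) • ((n + 1) • b + c)) (n • b) := by
    refine MS.nsmul n fun j hj => ?_
    by_cases h1 : m = 0 ∧ j = 0
    · obtain ⟨rfl, rfl⟩ := h1
      have e0 : (0 + 1) • ((n + 1) • b + c) + 0 • b = (n + 1) • b + c := by module
      rw [e0]
      refine msd G (by omega) hbg (fun i h2 h3 => ?_) ?_
      · obtain ⟨x, rfl⟩ : ∃ x, n = i + x := ⟨n - i, by omega⟩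
        refine ⟨x • b + (1 • c + f), hge (nefAmp G hc hfa 1) x, ?_⟩
        rw [hf']
        module
      · have e2 : κ - ((n + 1) • b + c) + (n + 1) • b = g := by
          rw [← hg]; module
        rw [e2]
        omega
    · refine msv G hbg fun i h2 h3 => ?_
      obtain ⟨x, hx⟩ : ∃ x, (m + 1) * (n + 1) + j = i + 1 + x := by
        refine ⟨(m + 1) * (n + 1) + j - (i + 1), ?_⟩
        rcases Nat.eq_zero_or_pos m with rfl | hm0
        · have h5 : j ≠ 0 := fun h6 => h1 ⟨rfl, h6⟩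
          omega
        · have : (1 + 1) * (n + 1) ≤ (m + 1) * (n + 1) := Nat.mul_le_mul_right _ (by omega)
          omega
      refine ⟨x • b + ((m + 1) • c + f), hge (nefAmp G hc hfa _) x, ?_⟩
      have e2 : (m + 1) • ((n + 1) • b + c) + j • b - i • b =
          (m + 1) • c + ((m + 1) * (n + 1) + j) • b - i • b := by module
      rw [e2, hx, hf']
      module
  have hB : MS ((m + 1) • ((n + 1) • b + c) + n • b) (b + c) := by
    refine msv G hbc fun i h2 h3 => ?_
    obtain ⟨x, hx⟩ : ∃ x, (m + 1) * (n + 1) = i + x := by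
      refine ⟨(m + 1) * (n + 1) - i, ?_⟩
      have : 1 * (n + 1) ≤ (m + 1) * (n + 1) := Nat.mul_le_mul_right _ (by omega)
      omega
    obtain ⟨y, hy⟩ : ∃ y, m + 1 + n = i + y := ⟨m + 1 + n - i, by omega⟩
    refine ⟨x • b + (y • c + e), hge (nefAmp G hc hea _) x, ?_⟩
    have e2 : (m + 1) • ((n + 1) • b + c) + n • b - i • (b + c) =
        ((m + 1) * (n + 1)) • b + (m + 1 + n) • c - i • (b + c) + (n • b - n • c) := by module
    have e3 : n • b - n • c = e + κ := by rw [← he]; abel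
    rw [e2, hx, hy, e3]
    module
  have := hA.trans hB
  have e0 : n • b + (b + c) = (n + 1) • b + c := by module
  rwa [e0] at this

/-- S19539. -/
theorem ms39 (hn : 3 ≤ n) (hκ : Amp κ) (hg : ∀ l : ℕ, n + 2 ≤ l → GG (l • κ)) (m : ℕ) (hm : 2 ≤ m)
    (t : ℕ) (ht : 1 ≤ t) :
    MS (t • ((n * (n + 2) + m) • κ)) ((n * (n + 2) + m) • κ) := by
  obtain ⟨q, r, hN, hr, hqr⟩ : ∃ q r, n * (n + 2) + m = q * (n + 2) + r ∧ n + 2 ≤ r ∧
      n * r + 2 ≤ 2 * (q * (n + 2)) + r := by
    by_cases h1 : m ≤ n + 1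
    · refine ⟨n - 1, n + 2 + m, ?_, by omega, ?_⟩
      · obtain ⟨a, rfl⟩ : ∃ a, n = a + 1 := ⟨n - 1, by omega⟩
        simp only [Nat.add_sub_cancel]
        ring
      · obtain ⟨a, rfl⟩ : ∃ a, n = a + 1 := ⟨n - 1, by omega⟩
        simp only [Nat.add_sub_cancel]
        nlinarith
    · have hp : n + 1 ≤ (n * (n + 2) + m) / (n + 2) := by
        rw [Nat.le_div_iff_mul_le (by omega)]
        nlinarith
      have hmod := Nat.mod_lt (n * (n + 2) + m) (show 0 < n + 2 by omega)
      have hdm := Nat.div_add_mod (n * (n + 2) + m) (n + 2)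
      obtain ⟨p, hp'⟩ : ∃ p, (n * (n + 2) + m) / (n + 2) = p + 1 :=
        ⟨(n * (n + 2) + m) / (n + 2) - 1, by omega⟩
      rw [hp'] at hdm hp
      refine ⟨p, n + 2 + (n * (n + 2) + m) % (n + 2), ?_, by omega, ?_⟩
      · nlinarith
      · have : n ≤ p := by omega
        nlinarith
  set N := n * (n + 2) + m with hNdef
  have hNb : n * (n + 2) + 2 ≤ N := by omega
  have htN : N ≤ t * N := Nat.le_mul_of_pos_left _ ht
  have hA : MS (t • (N • κ)) (q • ((n + 2) • κ)) := by
    refine MS.nsmul q fun j _ => msv G (hg _ le_rfl) fun i _ h3 => ?_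
    obtain ⟨x, hx, hx'⟩ : ∃ x, t * N + j * (n + 2) = i * (n + 2) + 1 + x ∧ 0 < x := by
      have h4 : i * (n + 2) ≤ n * (n + 2) := Nat.mul_le_mul_right _ h3
      exact ⟨t * N + j * (n + 2) - (i * (n + 2) + 1), by omega, by omega⟩
    refine ⟨x • κ, ampMul k hκ hx', ?_⟩
    have e : t • (N • κ) + j • ((n + 2) • κ) - i • ((n + 2) • κ) =
        (t * N + j * (n + 2)) • κ - i • ((n + 2) • κ) := by module
    rw [e, hx]
    module
  have hB : MS (t • (N • κ) + q • ((n + 2) • κ)) (r • κ) := by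
    refine msv G (hg r hr) fun i _ h3 => ?_
    obtain ⟨x, hx, hx'⟩ : ∃ x, t * N + q * (n + 2) = i * r + 1 + x ∧ 0 < x := by
      have h4 : i * r ≤ n * r := Nat.mul_le_mul_right _ h3
      exact ⟨t * N + q * (n + 2) - (i * r + 1), by omega, by omega⟩
    refine ⟨x • κ, ampMul k hκ hx', ?_⟩
    have e : t • (N • κ) + q • ((n + 2) • κ) - i • (r • κ) =
        (t * N + q * (n + 2)) • κ - i • (r • κ) := by module
    rw [e, hx]
    module
  have := hA.trans hB
  have e : q • ((n + 2) • κ) + r • κ = N • κ := by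
    rw [hN]
    module
  rwa [e] at this

end Amp

end K800.Arith
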