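import Groth.Agent.Grpsch.PicGrp
import Groth.Agent.AdjLin.K800.MulMap
import Groth.Agent.FormalB.HHLes
import Groth.Prelude.Def_Curv2
import Groth.Prelude.Def_Pic13

/-!
# Properties of classes of invertible modules

`P X = Additive (Pic X)`; `rep a` a representative of the class `a`; the predicates `Van`, `MS`, `GG`, `Amp`,
`Nef`, `Eff` and the number `h0` of a class.
-/

set_option autoImplicit false
universe u

open CategoryTheory CategoryTheory.Limits AlgebraicGeometry Opposite TopologicalSpace

namespace K800.Cls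

open Groth.Agent.Grpsch Groth.Agent.Fdesc.LocGen K800.MulMap Groth.Agent.Ega2

/-- The Picard group, written additively. -/
abbrev P (X : Scheme.{u}) := Additive (PicGrp.Pic X)

variable {X : Scheme.{u}}

/-- The class of an invertible module. -/
noncomputable def cl (L : X.Modules) (hL : PicF.IsInvertible L) : P X := Additive.ofMul (PicGrp.mk L hL)

/-- A representative of a class. -/
noncomputable def rep (a : P X) : X.Modules := (Quotient.out (Additive.toMul a)).1

theorem rep_inv (a : P X) : PicF.IsInvertible (rep a) := (Quotient.out (Additive.toMul a)).2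

theorem cl_rep (a : P X) : cl (rep a) (rep_inv a) = a := by
  unfold cl rep
  exact congrArg Additive.ofMul (Quotient.out_eq (Additive.toMul a))

theorem cl_eq_iff {L M : X.Modules} (hL : PicF.IsInvertible L) (hM : PicF.IsInvertible M) :
    cl L hL = cl M hM ↔ Nonempty (L ≅ M) := by
  rw [← PicGrp.mk_eq_iff hL hM]
  exact Additive.ofMul.injective.eq_iff

theorem cl_congr {L M : X.Modules} {hL : PicF.IsInvertible L} {hM : PicF.IsInvertible M} (e : L ≅ M) :
    cl L hL = cl M hM := (cl_eq_iff hL hM).2 ⟨e⟩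

theorem rep_iso {a : P X} {L : X.Modules} {hL : PicF.IsInvertible L} (h : a = cl L hL) :
    Nonempty (rep a ≅ L) := by
  rw [← cl_eq_iff (rep_inv a) hL, cl_rep, h]

theorem cl_tensor {L M : X.Modules} (hL : PicF.IsInvertible L) (hM : PicF.IsInvertible M)
    (h : PicF.IsInvertible (CohB1.tensorMod L M)) :
    cl (CohB1.tensorMod L M) h = cl L hL + cl M hM := rfl

theorem cl_pow {L : X.Modules} (hL : PicF.IsInvertible L) (n : ℕ)
    (h : PicF.IsInvertible (CohB1.tensorPow L n)) :
    cl (CohB1.tensorPow L n) h = n • cl L hL :=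
  congrArg Additive.ofMul (PicGrp.mk_tensorPow hL n)

theorem cl_one : cl (Coh.structureModule X) isInvertible_structureModule = 0 := rfl

theorem rep_zero : Nonempty (rep (0 : P X) ≅ Coh.structureModule X) := rep_iso cl_one.symm

theorem rep_add (a b : P X) : Nonempty (rep (a + b) ≅ CohB1.tensorMod (rep a) (rep b)) :=
  rep_iso (hL := isInvertible_tensorMod (rep_inv a) (rep_inv b)) (by
    rw [cl_tensor (rep_inv a) (rep_inv b), cl_rep, cl_rep])

theorem rep_neg_tensor (a : P X) :
    Nonempty (CohB1.tensorMod (rep (-a)) (rep a) ≅ Coh.structureModule X) := by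
  obtain ⟨e⟩ := rep_add (-a) a
  obtain ⟨e'⟩ := rep_iso (X := X) (a := -a + a) (hL := isInvertible_structureModule)
    (by rw [neg_add_cancel]; rfl)
  exact ⟨e.symm ≪≫ e'⟩

theorem rep_nsmul (n : ℕ) (a : P X) : Nonempty (rep (n • a) ≅ CohB1.tensorPow (rep a) n) :=
  rep_iso (hL := isInvertible_tensorPow (rep_inv a) n) (by rw [cl_pow (rep_inv a), cl_rep])

/-! ### Vanishing and dimensions -/

/-- `H^i` of the class vanishes. -/
def Van (a : P X) (i : ℕ) : Prop := Subsingleton (Coh.HH X (rep a) i)

theorem subsingleton_of_iso {M N : X.Modules} (e : M ≅ N) {i : ℕ} (h : Subsingleton (Coh.HH X M i)) :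
    Subsingleton (Coh.HH X N i) := by
  refine ⟨fun a b => ?_⟩
  have key : ∀ z : Coh.HH X N i, z = 0 := by
    intro z
    have h1 : Groth.Agent.CohqB.HSeqMod.hmap (e.inv ≫ e.hom) i z = z := by
      rw [e.inv_hom_id, Groth.Agent.CohqB.HSeqMod.hmap_id_apply]
    rw [← h1, Groth.Agent.CohqB.HSeqMod.hmap_comp_apply,
      Subsingleton.elim (Groth.Agent.CohqB.HSeqMod.hmap e.inv i z) 0, map_zero]
  rw [key a, key b]

theorem van_iff {a : P X} {L : X.Modules} (h : Nonempty (rep a ≅ L)) (i : ℕ) :
    Van a i ↔ Subsingleton (Coh.HH X L i) := by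
  obtain ⟨e⟩ := h
  exact ⟨fun h => subsingleton_of_iso e h, fun h => subsingleton_of_iso e.symm h⟩

section Field

variable (k : Type u) [Field k] [X.Over (Spec (CommRingCat.of k))]

/-- Cohomology of isomorphic modules. -/
noncomputable def HHcongr {M N : X.Modules} (e : M ≅ N) (i : ℕ) : Coh.HH X M i ≃ₗ[k] Coh.HH X N i :=
  LinearEquiv.ofLinearMap (Groth.Agent.FormalA.HHLin.HHmap k e.hom i) (Groth.Agent.FormalA.HHLin.HHmap k e.inv i)
    (LinearMap.ext fun x => by
      change Groth.Agent.CohqB.HSeqMod.hmap e.hom i (Groth.Agent.CohqB.HSeqMod.hmap e.inv i x) = x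
      rw [← Groth.Agent.CohqB.HSeqMod.hmap_comp_apply, e.inv_hom_id,
        Groth.Agent.CohqB.HSeqMod.hmap_id_apply])
    (LinearMap.ext fun x => by
      change Groth.Agent.CohqB.HSeqMod.hmap e.inv i (Groth.Agent.CohqB.HSeqMod.hmap e.hom i x) = x
      rw [← Groth.Agent.CohqB.HSeqMod.hmap_comp_apply, e.hom_inv_id,
        Groth.Agent.CohqB.HSeqMod.hmap_id_apply])

/-- The dimension of the space of global sections of a class. -/
noncomputable def h0 (a : P X) : ℕ := Module.finrank k (Coh.HH X (rep a) 0)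

theorem h0_eq {a : P X} {L : X.Modules} (h : Nonempty (rep a ≅ L)) :
    h0 k a = Module.finrank k (Coh.HH X L 0) := by
  obtain ⟨e⟩ := h
  exact (HHcongr k e 0).finrank_eq

end Field

/-! ### Multiplication maps -/

/-- Surjectivity of the multiplication map of two classes. -/
def MS (a b : P X) : Prop := MulSurj (rep a) (rep b)

theorem ms_iff {a b : P X} {L M : X.Modules} (h : Nonempty (rep a ≅ L)) (h' : Nonempty (rep b ≅ M)) :
    MS a b ↔ MulSurj L M := by
  obtain ⟨e⟩ := h
  obtain ⟨e'⟩ := h'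
  exact MulSurj.congr_iff e e'

theorem MS.comm {a b : P X} (h : MS a b) : MS b a := MulSurj.swap h

theorem MS.trans {a b c : P X} (h : MS a b) (h' : MS (a + b) c) : MS a (b + c) := by
  rw [ms_iff (rep_add a b) ⟨Iso.refl _⟩] at h'
  rw [ms_iff ⟨Iso.refl _⟩ (rep_add b c)]
  exact MulSurj.trans h h'

theorem MS.zero (a : P X) : MS a 0 := by
  rw [ms_iff ⟨Iso.refl _⟩ rep_zero]
  exact mulSurj_unit _

/-- Iterated form: multiplication by `n` copies of `b`. -/
theorem MS.nsmul {a b : P X} (n : ℕ) (h : ∀ i < n, MS (a + i • b) b) : MS a (n • b) := by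
  induction n with
  | zero => rw [zero_smul]; exact MS.zero a
  | succ n ih =>
    rw [succ_nsmul]
    exact (ih fun i hi => h i (by omega)).trans (h n (by omega))

/-! ### Other properties -/

/-- The class is globally generated. -/
def GG (a : P X) : Prop := Curv2.IsGloballyGenerated (rep a)

theorem isGloballyGenerated_of_iso {M N : X.Modules} (e : M ≅ N) (h : Curv2.IsGloballyGenerated M) :
    Curv2.IsGloballyGenerated N := by
  obtain ⟨ι, p, hp⟩ := h
  exact ⟨ι, p ≫ e.hom, inferInstance⟩

theorem gg_iff {a : P X} {L : X.Modules} (h : Nonempty (rep a ≅ L)) : GG a ↔ Curv2.IsGloballyGenerated L := by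
  obtain ⟨e⟩ := h
  exact ⟨fun h => isGloballyGenerated_of_iso e h, fun h => isGloballyGenerated_of_iso e.symm h⟩

/-- The class has a non-zero section. -/
def Eff (a : P X) : Prop := ∃ s : Coh.structureModule X ⟶ rep a, s ≠ 0

theorem eff_iff {a : P X} {L : X.Modules} (h : Nonempty (rep a ≅ L)) :
    Eff a ↔ ∃ s : Coh.structureModule X ⟶ L, s ≠ 0 := by
  obtain ⟨e⟩ := h
  constructor
  · rintro ⟨s, hs⟩
    exact ⟨s ≫ e.hom, fun h => hs (by rw [← cancel_mono e.hom, h, zero_comp])⟩
  · rintro ⟨s, hs⟩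
    exact ⟨s ≫ e.inv, fun h => hs (by rw [← cancel_mono e.inv, h, zero_comp])⟩

end K800.Cls
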