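import Groth.Agent.AdjLin.K800.AmpCls
import Groth.Agent.Fga.PicMon

/-!
# Passing between modules and classes
-/

set_option autoImplicit false
universe u

open CategoryTheory CategoryTheory.Limits AlgebraicGeometry Opposite TopologicalSpace

namespace K800.Cls

open Groth.Agent.Grpsch Groth.Agent.Fdesc.LocGen K800.MulMap Groth.Agent.Ega2

variable {X : Scheme.{u}}

theorem rep_cl {L : X.Modules} (hL : PicF.IsInvertible L) : Nonempty (rep (cl L hL) ≅ L) := rep_iso rfl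

theorem rep_T {a b : P X} {L M : X.Modules} (ha : Nonempty (rep a ≅ L)) (hb : Nonempty (rep b ≅ M)) :
    Nonempty (rep (a + b) ≅ CohB1.tensorMod L M) := by
  obtain ⟨e⟩ := ha
  obtain ⟨e'⟩ := hb
  exact (rep_add a b).map fun f => f ≪≫ Tens.mapTIso e e'

theorem nonempty_pow_iso {L M : X.Modules} (e : L ≅ M) (n : ℕ) :
    Nonempty (CohB1.tensorPow L n ≅ CohB1.tensorPow M n) := by
  induction n with
  | zero => exact ⟨Iso.refl _⟩
  | succ n ih => exact ih.map fun f => Tens.mapTIso f e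

theorem rep_P {a : P X} {L : X.Modules} (ha : Nonempty (rep a ≅ L)) (n : ℕ) :
    Nonempty (rep (n • a) ≅ CohB1.tensorPow L n) := by
  obtain ⟨e⟩ := ha
  obtain ⟨f⟩ := rep_nsmul n a
  obtain ⟨g⟩ := nonempty_pow_iso e n
  exact ⟨f ≪≫ g⟩

theorem inv_of_rep {a : P X} {L : X.Modules} (ha : Nonempty (rep a ≅ L)) : PicF.IsInvertible L := by
  obtain ⟨e⟩ := ha
  have hL := rep_inv a
  rw [isInvertible_iff] at hL ⊢
  intro x
  obtain ⟨U, m, hx, hm⟩ := hL x
  exact ⟨U, e.hom.app U m, hx, hm.app e.hom⟩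

theorem eq_of_rep {a b : P X} {L M : X.Modules} (ha : Nonempty (rep a ≅ L)) (hb : Nonempty (rep b ≅ M))
    (h : Nonempty (L ≅ M)) : a = b := by
  rw [← cl_rep a, ← cl_rep b, cl_eq_iff]
  obtain ⟨e⟩ := ha
  obtain ⟨f⟩ := hb
  obtain ⟨g⟩ := h
  exact ⟨e ≪≫ g ≪≫ f.symm⟩

theorem cl_eq_of {a : P X} {L M : X.Modules} (hL : PicF.IsInvertible L) (ha : Nonempty (rep a ≅ M))
    (h : Nonempty (L ≅ M)) : cl L hL = a := eq_of_rep (rep_cl hL) ha h

/-- `D ⊗ K ≅ B` determines the class of `D`. -/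
theorem rep_of_tensor {κ b : P X} {D K B : X.Modules} (hK : Nonempty (rep κ ≅ K)) (hB : Nonempty (rep b ≅ B))
    (h : Nonempty (CohB1.tensorMod D K ≅ B)) : Nonempty (rep (b - κ) ≅ D) := by
  obtain ⟨eK⟩ := hK
  obtain ⟨eB⟩ := hB
  obtain ⟨e⟩ := h
  obtain ⟨e0⟩ := rep_neg_tensor κ
  obtain ⟨e1⟩ := rep_add b (-κ)
  have e2 : CohB1.tensorMod K (rep (-κ)) ≅ Coh.structureModule X :=
    Tens.mapTIso eK.symm (Iso.refl _) ≪≫ Tens.swap _ _ ≪≫ e0
  rw [sub_eq_add_neg]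
  exact ⟨e1 ≪≫ Tens.mapTIso (eB ≪≫ e.symm) (Iso.refl _) ≪≫ Tens.assoc _ _ _ ≪≫
    Tens.mapTIso (Iso.refl _) e2 ≪≫ Tens.runit _⟩

theorem curveDeg_congr (k : Type u) [Field k] {Y : Scheme.{u}} (p : Y ⟶ Spec (CommRingCat.of k)) {L M : Y.Modules}
    (e : L ≅ M) : Pic13.curveDeg k p L = Pic13.curveDeg k p M := by
  unfold Pic13.curveDeg
  rw [@Groth.Agent.Fga.PicMon.euler_iso k _ Y ⟨p⟩ L M e 1]

theorem nef_iff (k : Type u) [Field k] [X.Over (Spec (CommRingCat.of k))] {a : P X} {L : X.Modules}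
    (h : Nonempty (rep a ≅ L)) : Nef k a ↔
    ∀ (Y : Scheme.{u}) (i : Y ⟶ X) [IsClosedImmersion i], IsIntegral Y → topologicalKrullDim Y = 1 →
      0 ≤ Pic13.curveDeg k (i ≫ (X ↘ Spec (CommRingCat.of k))) ((Scheme.Modules.pullback i).obj L) := by
  obtain ⟨e⟩ := h
  refine forall_congr' fun Y => forall_congr' fun i => forall_congr' fun _ => forall_congr' fun _ =>
    forall_congr' fun _ => ?_
  rw [curveDeg_congr k _ ((Scheme.Modules.pullback i).mapIso e)]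

end K800.Cls
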