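import Mathlib

/-!
# A vanishing theorem of Green type (pure algebra)

`A` a domain over a field `k` with enough `k`-points (every non-zero element is non-zero at some
`k`-point; e.g. a finitely generated domain over an algebraically closed field).  `V`, `F` finite
dimensional subspaces of `A`.  A multilinear map `α : V^p → F` with
`∑_j (-1)^j v_j · α(v without v_j) = 0` vanishes as soon as `dim F + p ≤ dim V`.
-/

set_option autoImplicit false

namespace K800.Green

open Module

variable {k : Type*} [Field k] {A : Type*} [CommRing A] [IsDomain A] [Algebra k A]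

/-- the points `χ` with `χ ∘ jF ≠ 0` restrict to a spanning set of the dual of `V`. -/
theorem span_points (hpt : ∀ a : A, a ≠ 0 → ∃ χ : A →ₐ[k] k, χ a ≠ 0)
    {V F : Type*} [AddCommGroup V] [Module k V] [FiniteDimensional k V] [AddCommGroup F] [Module k F]
    (jV : V →ₗ[k] A) (hjV : Function.Injective jV) (jF : F →ₗ[k] A) (hjF : Function.Injective jF)
    [Nontrivial F] :
    Submodule.span k {e : Dual k V | ∃ χ : A →ₐ[k] k, (∃ f, χ (jF f) ≠ 0) ∧
      e = χ.toLinearMap ∘ₗ jV} = ⊤ := by
  rw [← Subspace.dualCoannihilator_dualAnnihilator_eq (W := Submodule.span k _)]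
  suffices h : (Submodule.span k {e : Dual k V | ∃ χ : A →ₐ[k] k, (∃ f, χ (jF f) ≠ 0) ∧
      e = χ.toLinearMap ∘ₗ jV}).dualCoannihilator = ⊥ by
    rw [h, Submodule.dualAnnihilator_bot]
  rw [eq_bot_iff]
  intro v hv
  rw [Submodule.mem_bot]
  by_contra hne
  obtain ⟨f, hf⟩ := exists_ne (0 : F)
  have h1 : jV v * jF f ≠ 0 := by
    refine mul_ne_zero ?_ ?_
    · intro h
      exact hne (hjV (by rw [h, map_zero]))
    · intro h
      exact hf (hjF (by rw [h, map_zero]))
  obtain ⟨χ, hχ⟩ := hpt _ h1
  rw [map_mul] at hχ
  have h2 : χ (jF f) ≠ 0 := right_ne_zero_of_mul hχ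
  have h3 : χ (jV v) ≠ 0 := left_ne_zero_of_mul hχ
  apply h3
  rw [Submodule.mem_dualCoannihilator] at hv
  exact hv (χ.toLinearMap ∘ₗ jV) (Submodule.subset_span ⟨χ, ⟨f, h2⟩, rfl⟩)

theorem eq_zero (hpt : ∀ a : A, a ≠ 0 → ∃ χ : A →ₐ[k] k, χ a ≠ 0) (m : ℕ) :
    ∀ {V F : Type*} [AddCommGroup V] [Module k V] [FiniteDimensional k V]
      [AddCommGroup F] [Module k F] [FiniteDimensional k F]
    (jV : V →ₗ[k] A) (_ : Function.Injective jV) (jF : F →ₗ[k] A) (_ : Function.Injective jF)
    (p : ℕ) (α : MultilinearMap k (fun _ : Fin p => V) F)
    (_ : ∀ v : Fin (p + 1) → V,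
      ∑ j : Fin (p + 1), (-1 : A) ^ (j : ℕ) * (jV (v j) * jF (α (fun t => v (j.succAbove t)))) = 0)
    (_ : finrank k F = m) (_ : m = 0 ∨ m + p ≤ finrank k V), α = 0 := by
  induction m with
  | zero =>
    intro V F _ _ _ _ _ _ jV hjV jF hjF p α h hm _
    have : Subsingleton F := finrank_zero_iff.mp hm
    ext v
    exact Subsingleton.elim _ _
  | succ m ih =>
    intro V F _ _ _ _ _ _ jV hjV jF hjF p α h hm hmp
    have hmp' : m + 1 + p ≤ finrank k V := by
      rcases hmp with h0 | h0
      · omega
      · exact h0
    have : Nontrivial F := nontrivial_of_finrank_pos (R := k) (by omega)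
    have hspan := span_points hpt jV hjV jF hjF
    -- a basis of the dual made of points
    obtain ⟨s, hs, hspan', hli⟩ := exists_linearIndependent k
      {e : Dual k V | ∃ χ : A →ₐ[k] k, (∃ f, χ (jF f) ≠ 0) ∧ e = χ.toLinearMap ∘ₗ jV}
    rw [hspan] at hspan'
    let B : Basis s k (Dual k V) := Basis.mk hli (by rw [Subtype.range_coe, hspan'])
    have : Finite s := hli.finite_of_isNoetherian
    have : Fintype s := Fintype.ofFinite s
    have : DecidableEq s := Classical.decEq _
    -- dual basis of V
    let b : Basis s k V := B.dualBasis.map (evalEquiv k V).symm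
    have hb : ∀ i j : s, (i : Dual k V) (b j) = if i = j then 1 else 0 := by
      intro i j
      have h1 : (i : Dual k V) = B i := by simp [B]
      rw [h1]
      have h2 : b j = (evalEquiv k V).symm (B.dualBasis j) := by simp [b]
      rw [h2]
      have h3 : (B i) ((evalEquiv k V).symm (B.dualBasis j)) = (B.dualBasis j) (B i) := by
        have := Module.apply_evalEquiv_symm_apply (R := k) (M := V) (B i) (B.dualBasis j)
        exact this
      rw [h3, Basis.dualBasis_apply_self]
      
    have hcard : Fintype.card s = finrank k V := by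
      rw [Module.finrank_eq_card_basis b]
    -- vanishing on each hyperplane
    have key : ∀ i : s, ∀ v : Fin p → V, (∀ t, (i : Dual k V) (v t) = 0) → α v = 0 := by
      intro i v hv
      obtain ⟨χ, ⟨f, hf⟩, hχ⟩ := hs i.2
      have hF' : ∀ w : Fin p → V, (∀ t, (i : Dual k V) (w t) = 0) →
          χ (jF (α w)) = 0 := by
        intro w hw
        have h4 := h (Fin.cons (b i) w)
        rw [Fin.sum_univ_succ] at h4
        have h5 := congrArg χ h4
        rw [map_add, map_zero, map_sum] at h5
        rw [Finset.sum_eq_zero, add_zero] at h5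
        · simp only [Fin.val_zero, pow_zero, one_mul, Fin.cons_zero, map_mul] at h5
          have h6 : χ (jV (b i)) = 1 := by
            have := hb i i
            rw [if_pos rfl] at this
            rw [hχ] at this
            exact this
          rw [h6, one_mul] at h5
          have h7 : (fun t : Fin p => (Fin.cons (b i) w : Fin (p + 1) → V) ((0 : Fin (p + 1)).succAbove t)) = w := by
            ext t
            simp
          rw [h7] at h5
          exact h5
        · intro t _
          rw [map_mul, map_mul]
          have h8 : χ (jV ((Fin.cons (b i) w : Fin (p + 1) → V) t.succ)) = 0 := by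
            rw [Fin.cons_succ]
            have := hw t
            rw [hχ] at this
            exact this
          rw [h8, zero_mul, mul_zero]
      -- apply the induction hypothesis
      let V' : Submodule k V := LinearMap.ker (i : Dual k V)
      let F' : Submodule k F := LinearMap.ker (χ.toLinearMap ∘ₗ jF)
      let α₁ : MultilinearMap k (fun _ : Fin p => V') F := α.compLinearMap (fun _ => V'.subtype)
      let α' : MultilinearMap k (fun _ : Fin p => V') F' :=
        α₁.codRestrict F' (fun w => by
          simp only [F', LinearMap.mem_ker]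
          exact hF' (fun t => (w t : V)) (fun t => (w t).2))
      have hfin1 : finrank k V' + 1 = finrank k V := by
        have h9 := LinearMap.finrank_range_add_finrank_ker (i : Dual k V)
        have h10 : finrank k (LinearMap.range (i : Dual k V)) = 1 := by
          have hne : (i : Dual k V) ≠ 0 := by
            intro h0
            have := hb i i
            rw [if_pos rfl, h0] at this
            simp at this
          rw [LinearMap.range_eq_top.mpr (LinearMap.surjective_of_ne_zero hne), finrank_top,
            finrank_self]
        change finrank k (LinearMap.ker (i : Dual k V)) + 1 = _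
        omega
      have hfin2 : finrank k F' + 1 = finrank k F := by
        have h9 := LinearMap.finrank_range_add_finrank_ker (χ.toLinearMap ∘ₗ jF)
        have h10 : finrank k (LinearMap.range (χ.toLinearMap ∘ₗ jF)) = 1 := by
          have hne : (χ.toLinearMap ∘ₗ jF) ≠ 0 := by
            intro h0
            apply hf
            have := LinearMap.congr_fun h0 f
            exact this
          rw [LinearMap.range_eq_top.mpr (LinearMap.surjective_of_ne_zero hne), finrank_top,
            finrank_self]
        change finrank k (LinearMap.ker (χ.toLinearMap ∘ₗ jF)) + 1 = _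
        omega
      have h11 : α' = 0 := by
        refine ih (jV ∘ₗ V'.subtype) (hjV.comp V'.subtype_injective) (jF ∘ₗ F'.subtype)
          (hjF.comp F'.subtype_injective) p α' ?_ (by omega) (Or.inr (by omega))
        intro w
        exact h (fun t => (w t : V))
      have h12 := congrArg (fun β : MultilinearMap k (fun _ : Fin p => V') F' =>
        ((β (fun t => ⟨v t, hv t⟩) : F') : F)) h11
      exact h12
    refine Module.Basis.ext_multilinear (fun _ => b) (fun u => ?_)
    rw [zero_apply]
    have h13 : ∃ i : s, ∀ t, u t ≠ i := by
      by_contra hcon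
      push Not at hcon
      have h14 : Function.Surjective u := hcon
      have h15 := Fintype.card_le_of_surjective u h14
      rw [Fintype.card_fin] at h15
      omega
    obtain ⟨i, hi⟩ := h13
    refine key i _ (fun t => ?_)
    rw [hb, if_neg (hi t).symm]

/-- a finitely generated algebra over an algebraically closed field has enough points off a
non-nilpotent element. -/
theorem exists_point {k : Type*} [Field k] [IsAlgClosed k] {A : Type*} [CommRing A] [IsDomain A]
    [Algebra k A] [Algebra.FiniteType k A] (a : A) (ha : a ≠ 0) : ∃ χ : A →ₐ[k] k, χ a ≠ 0 := by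
  let S := Localization.Away a
  have hS : Nontrivial S := by
    have hinj := IsLocalization.injective S (powers_le_nonZeroDivisors_of_noZeroDivisors ha)
    exact hinj.nontrivial
  have hfin : Algebra.FiniteType A S := IsLocalization.finiteType_of_monoid_fg (Submonoid.powers a) S
  have hfin2 : Algebra.FiniteType k S := Algebra.FiniteType.trans (S := A) inferInstance hfin
  obtain ⟨m, hm⟩ := Ideal.exists_maximal S
  letI : Field (S ⧸ m) := Ideal.Quotient.field m
  have hfin3 : Algebra.FiniteType k (S ⧸ m) :=
    hfin2.of_surjective (Ideal.Quotient.mkₐ k m) (Ideal.Quotient.mkₐ_surjective k m)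
  have hfin4 : Module.Finite k (S ⧸ m) := finite_of_finite_type_of_isJacobsonRing k (S ⧸ m)
  have hbij : Function.Bijective (algebraMap k (S ⧸ m)) :=
    IsAlgClosed.algebraMap_bijective_of_isIntegral
  let e : k ≃ₐ[k] (S ⧸ m) := AlgEquiv.ofBijective (Algebra.ofId k (S ⧸ m)) hbij
  refine ⟨e.symm.toAlgHom.comp ((Ideal.Quotient.mkₐ k m).comp (IsScalarTower.toAlgHom k A S)), ?_⟩
  intro h
  have h1 : IsUnit (algebraMap A S a) := IsLocalization.Away.algebraMap_isUnit a
  have h2 := h1.map (e.symm.toAlgHom.comp (Ideal.Quotient.mkₐ k m))
  exact h2.ne_zero h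

end K800.Green
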