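import Groth.Agent.AdjLin.K800.Tower
import Groth.Agent.AdjLin.K800.Green
import Mathlib.CategoryTheory.Linear.Basic

/-!
# The ordered Koszul complex and multilinear maps

In a linear category: the multilinear family of maps `incv p T v : T p ⟶ K p T`, its behaviour under the
differential, and the vanishing theorem for maps `ψ : K p T ⟶ W` with `d ≫ ψ = 0`.
-/

set_option autoImplicit false
universe w v v' u u'

open CategoryTheory CategoryTheory.Limits

namespace K800.Incv

open K800.Tower

variable {C : Type u} [Category.{v} C] [Preadditive C] [HasFiniteBiproducts C]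
variable {ι : Type} [Fintype ι] {k : Type w} [Field k] [Linear k C]

/-- The map `T (n+1) ⟶ T n` attached to a linear combination. -/
noncomputable def mapV (T : Tow C ι) (n : ℕ) (v : ι → k) : T.obj (n + 1) ⟶ T.obj n :=
  ∑ i, v i • T.map n i

theorem mapV_nat {T U : Tow C ι} (f : THom T U) (n : ℕ) (v : ι → k) :
    mapV T n v ≫ f.app n = f.app (n + 1) ≫ mapV U n v := by
  unfold mapV
  rw [Preadditive.sum_comp, Preadditive.comp_sum]
  refine Finset.sum_congr rfl fun i _ => ?_
  rw [Linear.smul_comp, Linear.comp_smul, f.nat]

/-- The inclusion `T p ⟶ K p T` attached to `p` vectors. -/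
noncomputable def incv : (p : ℕ) → (T : Tow C ι) → (v : Fin p → ι → k) → (T.obj p ⟶ K p T)
  | 0, _, _ => 𝟙 _
  | p + 1, T, v => ∑ i, v 0 i • (incv p T.shift (fun t => v t.succ) ≫ inc p T i)

/-- `incv` of the shifted tower. -/
noncomputable def sincv (p : ℕ) (T : Tow C ι) (v : Fin p → ι → k) : T.obj (p + 1) ⟶ K p T.shift :=
  incv p T.shift v

theorem incv_succ (p : ℕ) (T : Tow C ι) (v : Fin (p + 1) → ι → k) :
    incv (p + 1) T v = ∑ i, v 0 i • (sincv p T (fun t => v t.succ) ≫ inc p T i) := rfl

theorem incv_nat (p : ℕ) : ∀ {T U : Tow C ι} (f : THom T U) (v : Fin p → ι → k),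
    incv p T v ≫ Kmap p f = f.app p ≫ incv p U v := by
  induction p with
  | zero =>
    intro T U f v
    exact (Category.id_comp (f.app 0)).trans (Category.comp_id (f.app 0)).symm
  | succ p ih =>
    intro T U f v
    have ih' : ∀ w : Fin p → ι → k, sincv p T w ≫ Kmap p f.shift = f.app (p + 1) ≫ sincv p U w :=
      fun w => ih f.shift w
    rw [incv_succ, incv_succ, Preadditive.sum_comp, Preadditive.comp_sum]
    refine Finset.sum_congr rfl fun i _ => ?_
    rw [Linear.smul_comp, Linear.comp_smul, Category.assoc, inc_Kmap, ← Category.assoc, ih',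
      Category.assoc]

/-- `incv` and the differential. -/
theorem incv_d (p : ℕ) : ∀ (T : Tow C ι) (v : Fin (p + 1) → ι → k),
    incv (p + 1) T v ≫ d p T =
      ∑ j : Fin (p + 1), ((-1 : k) ^ (j : ℕ)) • (mapV T p (v j) ≫ incv p T (fun t => v (j.succAbove t))) := by
  induction p with
  | zero =>
    intro T v
    rw [Fin.sum_univ_one, incv_succ, Preadditive.sum_comp]
    simp only [Fin.val_zero, pow_zero, one_smul]
    have h1 : ∀ w : Fin 0 → ι → k, mapV T 0 (v 0) ≫ incv 0 T w = mapV T 0 (v 0) :=
      fun w => Category.comp_id (mapV T 0 (v 0))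
    rw [h1]
    unfold mapV
    refine Finset.sum_congr rfl fun i _ => ?_
    rw [Linear.smul_comp, Category.assoc, inc_d_zero]
    exact congrArg (fun z => v 0 i • z) (Category.id_comp (T.map 0 i))
  | succ p ih =>
    intro T v
    have ih' : ∀ w : Fin (p + 1) → ι → k, sincv (p + 1) T w ≫ d p T.shift =
        ∑ j : Fin (p + 1), ((-1 : k) ^ (j : ℕ)) •
          (mapV T (p + 1) (w j) ≫ sincv p T (fun t => w (j.succAbove t))) :=
      fun w => ih T.shift w
    have hn : ∀ (w : Fin (p + 1) → ι → k) (i : ι), sincv (p + 1) T w ≫ Kmap (p + 1) (T.shiftHom i) =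
        T.map (p + 1) i ≫ incv (p + 1) T w :=
      fun w i => incv_nat (p + 1) (T.shiftHom i) w
    rw [Fin.sum_univ_succ]
    simp only [Fin.val_zero, pow_zero, one_smul]
    rw [incv_succ, Preadditive.sum_comp]
    have h1 : ∀ i, (v 0 i • (sincv (p + 1) T (fun t => v t.succ) ≫ inc (p + 1) T i)) ≫ d (p + 1) T =
        v 0 i • (T.map (p + 1) i ≫ incv (p + 1) T (fun t => v t.succ)) -
        v 0 i • ((sincv (p + 1) T (fun t => v t.succ) ≫ d p T.shift) ≫ inc p T i) := by
      intro i
      rw [Linear.smul_comp, Category.assoc, inc_d_succ, Preadditive.comp_sub, smul_sub, hn,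
        Category.assoc]
    rw [Finset.sum_congr rfl (fun i _ => h1 i), Finset.sum_sub_distrib, sub_eq_add_neg]
    congr 1
    · unfold mapV
      rw [Preadditive.sum_comp]
      refine Finset.sum_congr rfl fun i _ => ?_
      rw [Linear.smul_comp]
      rfl
    · have h2 : ∀ i, v 0 i • ((sincv (p + 1) T (fun t => v t.succ) ≫ d p T.shift) ≫ inc p T i) =
          ∑ j : Fin (p + 1), ((-1 : k) ^ (j : ℕ)) • (v 0 i • (mapV T (p + 1) (v j.succ) ≫
            (sincv p T (fun t => v (j.succAbove t).succ) ≫ inc p T i))) := by
        intro i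
        rw [ih', Preadditive.sum_comp, Finset.smul_sum]
        refine Finset.sum_congr rfl fun j _ => ?_
        rw [Linear.smul_comp, smul_comm, Category.assoc]
      rw [Finset.sum_congr rfl (fun i _ => h2 i), Finset.sum_comm, ← Finset.sum_neg_distrib]
      refine Finset.sum_congr rfl fun j _ => ?_
      rw [incv_succ, Preadditive.comp_sum, ← Finset.smul_sum, Fin.val_succ, pow_succ, mul_neg, mul_one,
        neg_smul]
      congr 2
      refine Finset.sum_congr rfl fun i _ => ?_
      rw [Linear.comp_smul]
      simp only [Fin.succ_succAbove_zero, Fin.succ_succAbove_succ]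

/-- Maps out of `K p T` are determined by their composites with `incv`. -/
theorem hom_ext_incv (p : ℕ) : ∀ (T : Tow C ι) {W : C} (f g : K p T ⟶ W)
    (_ : ∀ v : Fin p → ι → k, incv p T v ≫ f = incv p T v ≫ g), f = g := by
  induction p with
  | zero =>
    intro T W f g h
    have h1 : ∀ f : K 0 T ⟶ W, incv 0 T (fun _ _ => (0 : k)) ≫ f = f := fun f =>
      Category.id_comp (show T.obj 0 ⟶ W from f)
    rw [← h1 f, ← h1 g, h]
  | succ p ih =>
    intro T W f g h
    classical
    refine K_hom_ext p f g fun i => ih T.shift _ _ fun v => ?_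
    have h1 : ∀ f : K (p + 1) T ⟶ W, incv (p + 1) T (Fin.cons (Pi.single i (1 : k)) v) ≫ f =
        sincv p T v ≫ inc p T i ≫ f := by
      intro f
      rw [incv_succ, Preadditive.sum_comp, Finset.sum_eq_single i]
      · simp
      · intro j _ hj
        simp [hj]
      · intro hi
        exact absurd (Finset.mem_univ i) hi
    change sincv p T v ≫ inc p T i ≫ f = sincv p T v ≫ inc p T i ≫ g
    rw [← h1, ← h1, h]

/-- `incv` is multilinear. -/
theorem incv_update_add (p : ℕ) : ∀ (T : Tow C ι) (v : Fin p → ι → k) (j : Fin p) (x y : ι → k),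
    incv p T (Function.update v j (x + y)) =
      incv p T (Function.update v j x) + incv p T (Function.update v j y) := by
  induction p with
  | zero => intro T v j; exact j.elim0
  | succ p ih =>
    intro T v j x y
    have ih' : ∀ (v : Fin p → ι → k) (j : Fin p) (x y : ι → k),
      sincv p T (Function.update v j (x + y)) =
      sincv p T (Function.update v j x) + sincv p T (Function.update v j y) := ih T.shift
    rw [incv_succ, incv_succ, incv_succ, ← Finset.sum_add_distrib]
    refine Finset.sum_congr rfl fun i _ => ?_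
    refine Fin.cases ?_ (fun j' => ?_) j
    · have h1 : ∀ z : ι → k, (fun t : Fin p => Function.update v 0 z t.succ) = fun t => v t.succ := by
        intro z
        ext t
        simp
      simp only [h1, Function.update_self, Pi.add_apply, add_smul]
    · have h1 : ∀ z : ι → k, (fun t : Fin p => Function.update v j'.succ z t.succ) =
          Function.update (fun t : Fin p => v t.succ) j' z := by
        intro z
        ext t : 1
        by_cases h : t = j'
        · subst h; simp
        · rw [Function.update_of_ne h, Function.update_of_ne (fun h' => h (Fin.succ_injective _ h'))]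
      have h2 : ∀ z : ι → k, Function.update v j'.succ z 0 = v 0 := by
        intro z
        rw [Function.update_of_ne (Fin.succ_ne_zero j').symm]
      simp only [h1, h2, ih', Preadditive.add_comp, smul_add]

theorem incv_update_smul (p : ℕ) : ∀ (T : Tow C ι) (v : Fin p → ι → k) (j : Fin p) (c : k) (x : ι → k),
    incv p T (Function.update v j (c • x)) = c • incv p T (Function.update v j x) := by
  induction p with
  | zero => intro T v j; exact j.elim0
  | succ p ih =>
    intro T v j c x
    have ih' : ∀ (v : Fin p → ι → k) (j : Fin p) (c : k) (x : ι → k),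
      sincv p T (Function.update v j (c • x)) = c • sincv p T (Function.update v j x) := ih T.shift
    rw [incv_succ, incv_succ, Finset.smul_sum]
    refine Finset.sum_congr rfl fun i _ => ?_
    refine Fin.cases ?_ (fun j' => ?_) j
    · have h1 : ∀ z : ι → k, (fun t : Fin p => Function.update v 0 z t.succ) = fun t => v t.succ := by
        intro z
        ext t
        simp
      simp only [h1, Function.update_self, Pi.smul_apply, smul_eq_mul, mul_smul]
    · have h1 : ∀ z : ι → k, (fun t : Fin p => Function.update v j'.succ z t.succ) =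
          Function.update (fun t : Fin p => v t.succ) j' z := by
        intro z
        ext t : 1
        by_cases h : t = j'
        · subst h; simp
        · rw [Function.update_of_ne h, Function.update_of_ne (fun h' => h (Fin.succ_injective _ h'))]
      have h2 : ∀ z : ι → k, Function.update v j'.succ z 0 = v 0 := by
        intro z
        rw [Function.update_of_ne (Fin.succ_ne_zero j').symm]
      simp only [h1, h2, ih', Linear.smul_comp]
      rw [smul_comm]

/-- The multilinear map of a map out of `K p T`. -/
noncomputable def alpha (p : ℕ) (T : Tow C ι) {W : C} (ψ : K p T ⟶ W) :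
    MultilinearMap k (fun _ : Fin p => ι → k) (T.obj p ⟶ W) where
  toFun v := incv p T v ≫ ψ
  map_update_add' := by
    intro inst v j x y
    have : inst = instDecidableEqFin p := Subsingleton.elim _ _
    subst this
    rw [incv_update_add, Preadditive.add_comp]
  map_update_smul' := by
    intro inst v j c x
    have : inst = instDecidableEqFin p := Subsingleton.elim _ _
    subst this
    rw [incv_update_smul, Linear.smul_comp]

theorem alpha_apply (p : ℕ) (T : Tow C ι) {W : C} (ψ : K p T ⟶ W) (v : Fin p → ι → k) :
    alpha p T ψ v = incv p T v ≫ ψ := rfl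

/-- **Vanishing.**  Embed the relevant spaces in a domain `A` with enough points. -/
theorem eq_zero_of_d_comp {A : Type*} [CommRing A] [IsDomain A] [Algebra k A]
    (hpt : ∀ a : A, a ≠ 0 → ∃ χ : A →ₐ[k] k, χ a ≠ 0)
    (p : ℕ) (T : Tow C ι) {W : C} (ψ : K p T ⟶ W) (hψ : d p T ≫ ψ = 0)
    [FiniteDimensional k (T.obj p ⟶ W)]
    (jV : (ι → k) →ₗ[k] A) (hjV : Function.Injective jV)
    (jF : (T.obj p ⟶ W) →ₗ[k] A) (hjF : Function.Injective jF)
    (jF' : (T.obj (p + 1) ⟶ W) →ₗ[k] A)
    (hj : ∀ (v : ι → k) (φ : T.obj p ⟶ W), jF' (mapV T p v ≫ φ) = jV v * jF φ)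
    (hdim : Module.finrank k (T.obj p ⟶ W) = 0 ∨ Module.finrank k (T.obj p ⟶ W) + p ≤ Fintype.card ι) :
    ψ = 0 := by
  have h0 : alpha p T ψ (k := k) = 0 := by
    refine K800.Green.eq_zero hpt (Module.finrank k (T.obj p ⟶ W)) jV hjV jF hjF p (alpha p T ψ) ?_ rfl
      (by rw [Module.finrank_fintype_fun_eq_card]; exact hdim)
    intro v
    have h1 : incv (p + 1) T v ≫ d p T ≫ ψ = 0 := by rw [hψ, comp_zero]
    rw [← Category.assoc, incv_d, Preadditive.sum_comp] at h1
    have h2 := congrArg jF' h1
    rw [map_zero, map_sum] at h2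
    rw [← h2]
    refine Finset.sum_congr rfl fun j _ => ?_
    rw [Linear.smul_comp, map_smul, Category.assoc, hj, Algebra.smul_def, map_pow, map_neg, map_one]
    rfl
  refine hom_ext_incv (k := k) p T ψ 0 fun v => ?_
  rw [comp_zero]
  exact congrArg (fun β : MultilinearMap k (fun _ : Fin p => ι → k) (T.obj p ⟶ W) => β v) h0

end K800.Incv
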