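import Groth.Agent.AdjLin.K800.SheafTower
import Groth.Agent.AdjLin.K800.Incv
import Groth.Agent.CurvesC.LinMod
import Groth.Agent.CurvesC.InvSec
import Groth.Agent.VarietyB.DimSch

/-!
# Vanishing of the maps `ψ : K p T ⟶ ω` with `d ≫ ψ = 0`, by the theorem of Green type
-/

set_option autoImplicit false
universe u

open CategoryTheory CategoryTheory.Limits AlgebraicGeometry Opposite TopologicalSpace

namespace K800.Embed

open K800.Tower K800.SheafTower K800.Incv
open Groth.Agent.Ega2 Groth.Agent.Ega2.Tens Groth.Agent.Fdesc.LocGen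
open Groth.Agent.CurvesC Groth.Agent.VarietyB.DimSch

attribute [local instance] LinMod.linearModules Abelian.hasFiniteBiproducts secAlgebra

variable {X : Scheme.{u}}

theorem hom_eq_zero_of_gen [IsIntegral X] {M N : X.Modules} (hN : PicF.IsInvertible N) {U : X.Opens}
    (hU : (U : Set X).Nonempty) {t : Γ(M, U)} (ht : IsGen t) (φ : M ⟶ N) (h : φ.app U t = 0) : φ = 0 := by
  apply Scheme.Modules.hom_ext
  intro V
  ext m
  change φ.app V m = 0
  by_cases hV : (V : Set X).Nonempty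
  · have hne : ((V ⊓ U : X.Opens) : Set X).Nonempty := nonempty_preirreducible_inter V.2 U.2 hV hU
    refine InvSec.eq_zero_of_res_eq_zero hN (inf_le_left : V ⊓ U ≤ V) hne _ ?_
    change res N (inf_le_left : V ⊓ U ≤ V) (φ.app V m) = 0
    rw [← Groth.Agent.Fdesc.LocGen.app_res]
    obtain ⟨a, ha⟩ := (ht.res (inf_le_right : V ⊓ U ≤ U)).exists_eq (res M (inf_le_left : V ⊓ U ≤ V) m)
    rw [ha, Scheme.Modules.Hom.app_smul, Groth.Agent.Fdesc.LocGen.app_res, h, map_zero, smul_zero]
  · refine InvSec.section_eq_of_locally_eq _ _ fun x hx => ?_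
    exact absurd ⟨x, hx⟩ hV

/-- The coefficient with respect to a generator. -/
noncomputable def coef {N : X.Modules} {U : X.Opens} {w : Γ(N, U)} (hw : IsGen w) :
    Γ(N, U) ≃ₗ[Γ(X, U)] Γ(X, U) :=
  (LinearEquiv.ofBijective (LinearMap.toSpanSingleton Γ(X, U) Γ(N, U) w) hw.bijective).symm

theorem coef_smul_self {N : X.Modules} {U : X.Opens} {w : Γ(N, U)} (hw : IsGen w) (m : Γ(N, U)) :
    coef hw m • w = m :=
  (LinearEquiv.ofBijective (LinearMap.toSpanSingleton Γ(X, U) Γ(N, U) w) hw.bijective).apply_symm_apply m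

variable (k : Type u) [Field k] [X.Over (Spec (CommRingCat.of k))]

/-- The scalar `c` as a function on `U`. -/
noncomputable def coefK (U : X.Opens) (c : k) : Γ(X, U) := algebraMap k Γ(X, U) c

theorem smul_app {M N : X.Modules} (c : k) (φ : M ⟶ N) (U : X.Opens) (m : Γ(M, U)) :
    (c • φ).app U m = (algebraMap k Γ(X, U) c) • φ.app U m := rfl

/-- The embedding of a space of homomorphisms. -/
noncomputable def jF {M N : X.Modules} {U : X.Opens} (t : Γ(M, U)) {w : Γ(N, U)} (hw : IsGen w) :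
    (M ⟶ N) →ₗ[k] Γ(X, U) where
  toFun φ := coef hw (φ.app U t)
  map_add' φ ψ := map_add (coef hw) (φ.app U t) (ψ.app U t)
  map_smul' c φ := by
    rw [smul_app, map_smul, smul_eq_mul, RingHom.id_apply, Algebra.smul_def]

theorem jF_injective [IsIntegral X] {M N : X.Modules} (hN : PicF.IsInvertible N) {U : X.Opens}
    (hU : (U : Set X).Nonempty) {t : Γ(M, U)} (ht : IsGen t) {w : Γ(N, U)} (hw : IsGen w) :
    Function.Injective (jF k t hw (M := M)) := by
  rw [injective_iff_map_eq_zero]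
  intro φ hφ
  refine hom_eq_zero_of_gen hN hU ht φ ?_
  exact (map_eq_zero_iff (coef hw) (coef hw).injective).1 hφ

variable {L L' : X.Modules} (e : CohB1.tensorMod L' L ≅ Coh.structureModule X)
variable {ι : Type} [Fintype ι]

/-- The embedding of the space of sections. -/
noncomputable def jV (σ : ι → (L' ⟶ Coh.structureModule X)) {U : X.Opens} (l : Γ(L', U)) :
    (ι → k) →ₗ[k] Γ(X, U) :=
  Fintype.linearCombination k (fun i => ev (σ i) l)

theorem jV_apply (σ : ι → (L' ⟶ Coh.structureModule X)) {U : X.Opens} (l : Γ(L', U)) (v : ι → k) :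
    jV k σ l v = ∑ i, algebraMap k Γ(X, U) (v i) * ev (σ i) l := by
  unfold jV
  rw [Fintype.linearCombination_apply]
  exact Finset.sum_congr rfl fun i _ => Algebra.smul_def _ _

theorem sum_app {M N : X.Modules} (φ : ι → (M ⟶ N)) (U : X.Opens) (m : Γ(M, U)) :
    (∑ i, φ i : M ⟶ N).app U m = ∑ i, (φ i).app U m := by
  classical
  induction (Finset.univ : Finset ι) using Finset.induction_on with
  | empty => simp
  | insert a s ha ih =>
    rw [Finset.sum_insert ha, Finset.sum_insert ha, ← ih]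
    rfl

theorem ev_sum_sig (s : ι → (Coh.structureModule X ⟶ L)) {U : X.Opens} (l : Γ(L', U)) (v : ι → k) :
    jV k (fun i => sig e (s i)) l v =
      ofFun.symm (e.hom.app U (Tens.tmul l (sec (∑ i, v i • s i) U))) := by
  rw [jV_apply]
  have h1 : sec (∑ i, v i • s i) U = ∑ i, algebraMap k Γ(X, U) (v i) • sec (s i) U := by
    unfold sec
    rw [sum_app]
    rfl
  have h2 : ∀ i : ι, e.hom.app U (Tens.tmul l (algebraMap k Γ(X, U) (v i) • sec (s i) U)) =
      algebraMap k Γ(X, U) (v i) • (sig e (s i)).app U l := by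
    intro i
    rw [Tens.tmul_smul, Scheme.Modules.Hom.app_smul, ← sig_app]
  rw [h1, Tens.tmul_sum, map_sum, map_sum]
  refine Finset.sum_congr rfl fun i _ => ?_
  rw [h2]
  rfl

theorem jV_injective [IsIntegral X] (hL : PicF.IsInvertible L) (s : ι → (Coh.structureModule X ⟶ L))
    (hs : LinearIndependent k s) {U : X.Opens} (hU : (U : Set X).Nonempty) {l : Γ(L', U)} (hl : IsGen l)
    {m : Γ(L, U)} (hm : IsGen m) :
    Function.Injective (jV k (fun i => sig e (s i)) l) := by
  rw [injective_iff_map_eq_zero]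
  intro v hv
  rw [ev_sum_sig] at hv
  have h1 : e.hom.app U (Tens.tmul l (sec (∑ i, v i • s i) U)) = 0 := hv
  have h2 : Function.Injective (e.hom.app U) := (ConcreteCategory.bijective_of_isIso (e.hom.app U)).1
  have h3 : Tens.tmul l (sec (∑ i, v i • s i) U) = 0 := h2 (by rw [h1, map_zero])
  obtain ⟨a, ha⟩ := hm.exists_eq (sec (∑ i, v i • s i) U)
  have h4 : a • Tens.tmul l m = (0 : Γ(X, U)) • Tens.tmul l m := by
    rw [zero_smul, ← Tens.tmul_smul, ← ha, h3]
  have h5 : a = 0 := (IsGen.tmul hl hm).ext h4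
  rw [h5, zero_smul] at ha
  have h6 : ∑ i, v i • s i = 0 := hom_eq_zero_of_gen hL hU (isGen_one U) _ ha
  rw [Fintype.linearIndependent_iff] at hs
  exact funext fun i => hs v h6 i

theorem mapV_app (G : X.Modules) (hL' : PicF.IsInvertible L') (σ : ι → (L' ⟶ Coh.structureModule X))
    (p : ℕ) (v : ι → k) {U : X.Opens} (t : Γ(towObj G L' p, U)) (l : Γ(L', U)) :
    (mapV (tow G hL' σ) p v).app U (Tens.tmul t l) = jV k σ l v • t := by
  unfold mapV
  rw [sum_app, jV_apply, Finset.sum_smul]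
  refine Finset.sum_congr rfl fun i _ => ?_
  rw [smul_app, mul_smul]
  congr 1
  exact mulBy_tmul _ _ _ _

/-- **The vanishing theorem.** -/
theorem eq_zero_of_d_comp [IsAlgClosed k] [IsIntegral X]
    [LocallyOfFiniteType (X ↘ Spec (CommRingCat.of k))]
    {G : X.Modules} (hG : PicF.IsInvertible G) (hL : PicF.IsInvertible L) (hL' : PicF.IsInvertible L')
    (s : ι → (Coh.structureModule X ⟶ L)) (hs : LinearIndependent k s)
    {W : X.Modules} (hW : PicF.IsInvertible W) (p : ℕ)
    (ψ : K p (tow G hL' (fun i => sig e (s i))) ⟶ W) (hψ : d p _ ≫ ψ = 0)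
    [FiniteDimensional k (towObj G L' p ⟶ W)]
    (hdim : Module.finrank k (towObj G L' p ⟶ W) = 0 ∨
      Module.finrank k (towObj G L' p ⟶ W) + p ≤ Fintype.card ι) :
    ψ = 0 := by
  obtain ⟨x⟩ : Nonempty X := inferInstance
  obtain ⟨U₁, t₁, hx₁, ht₁⟩ := (isInvertible_iff _).1 (isInvertible_towObj hG hL' p) x
  obtain ⟨U₂, l₂, hx₂, hl₂⟩ := (isInvertible_iff _).1 hL' x
  obtain ⟨U₃, w₃, hx₃, hw₃⟩ := (isInvertible_iff _).1 hW x
  obtain ⟨U₄, m₄, hx₄, hm₄⟩ := (isInvertible_iff _).1 hL x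
  obtain ⟨U, hU, hxU, hUle⟩ := exists_isAffineOpen_mem_and_subset (U := U₁ ⊓ U₂ ⊓ (U₃ ⊓ U₄)) (x := x)
    ⟨⟨hx₁, hx₂⟩, ⟨hx₃, hx₄⟩⟩
  have le₁ : U ≤ U₁ := fun y hy => (hUle hy).1.1
  have le₂ : U ≤ U₂ := fun y hy => (hUle hy).1.2
  have le₃ : U ≤ U₃ := fun y hy => (hUle hy).2.1
  have le₄ : U ≤ U₄ := fun y hy => (hUle hy).2.2
  have hne : (U : Set X).Nonempty := ⟨x, hxU⟩
  have : Nonempty U := ⟨⟨x, hxU⟩⟩
  have : Algebra.FiniteType k Γ(X, U) := toSections_finiteType k X hU
  have ht := ht₁.res le₁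
  have hl := hl₂.res le₂
  have hw := hw₃.res le₃
  have hm := hm₄.res le₄
  have hfd : FiniteDimensional k ((tow G hL' (fun i => sig e (s i))).obj p ⟶ W) := ‹_›
  refine K800.Incv.eq_zero_of_d_comp (k := k) (A := Γ(X, U)) (fun a ha => K800.Green.exists_point a ha)
    p (tow G hL' (fun i => sig e (s i))) ψ hψ
    (jV k (fun i => sig e (s i)) (res L' le₂ l₂)) (jV_injective k e hL s hs hne hl hm)
    (jF k (res (towObj G L' p) le₁ t₁) hw) (jF_injective k hW hne ht hw)
    (jF k (Tens.tmul (res (towObj G L' p) le₁ t₁) (res L' le₂ l₂) : Γ(towObj G L' (p + 1), U)) hw)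
    (fun v φ => ?_) hdim
  have key : ∀ φ : towObj G L' p ⟶ W,
      coef hw (φ.app U (jV k (fun i => sig e (s i)) (res L' le₂ l₂) v • res (towObj G L' p) le₁ t₁)) =
      jV k (fun i => sig e (s i)) (res L' le₂ l₂) v * jF k (res (towObj G L' p) le₁ t₁) hw φ := by
    intro φ
    rw [Scheme.Modules.Hom.app_smul, map_smul]
    rfl
  change coef hw (φ.app U ((mapV (tow G hL' (fun i => sig e (s i))) p v).app U
    (Tens.tmul (res (towObj G L' p) le₁ t₁) (res L' le₂ l₂)))) = _
  rw [mapV_app]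
  exact key φ

end K800.Embed
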