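import Groth.Agent.AdjLin.K800.SheafTower
import Groth.Agent.CurvesC.LinMod
import Groth.Agent.FormalB.HHLes

/-!
# `Hom(A, B) = H⁰(A⁻¹ ⊗ B)`, linearly
-/

set_option autoImplicit false
universe u

open CategoryTheory CategoryTheory.Limits AlgebraicGeometry Opposite TopologicalSpace

namespace K800.HomDim

open Groth.Agent.Ega2 Groth.Agent.Ega2.Tens Groth.Agent.Fdesc.LocGen
open Groth.Agent.CurvesC Groth.Agent.CohqB.HSeqMod Groth.Agent.Ega3B.SectExact

attribute [local instance] LinMod.linearModules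

variable {X : Scheme.{u}}

/-- `A ⊗ (A' ⊗ B) ≅ B`. -/
noncomputable def al {A A' : X.Modules} (e : CohB1.tensorMod A A' ≅ Coh.structureModule X) (B : X.Modules) :
    CohB1.tensorMod A (CohB1.tensorMod A' B) ≅ B :=
  (Tens.assoc A A' B).symm ≪≫ mapTIso e (Iso.refl B) ≪≫ lunit B

theorem al_tmul {A A' : X.Modules} (e : CohB1.tensorMod A A' ≅ Coh.structureModule X) (B : X.Modules)
    {U : X.Opens} (a : Γ(A, U)) (a' : Γ(A', U)) (b : Γ(B, U)) :
    (al e B).hom.app U (Tens.tmul a (Tens.tmul a' b)) =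
      (ofFun.symm (e.hom.app U (Tens.tmul a a')) : Γ(X, U)) • b := by
  have h1 : (al e B).hom.app U (Tens.tmul a (Tens.tmul a' b)) =
      (lunit B).hom.app U ((mapT e.hom (𝟙 B)).app U ((assocInv A A' B).app U (Tens.tmul a (Tens.tmul a' b)))) := rfl
  rw [h1, assocInv_tmul, mapT_tmul]
  exact lunit_hom_tmul (ofFun.symm (e.hom.app U (Tens.tmul a a'))) b

theorem al_nat {A A' : X.Modules} (e : CohB1.tensorMod A A' ≅ Coh.structureModule X) {B C : X.Modules}
    (φ : B ⟶ C) : mapT (𝟙 A) (mapT (𝟙 A') φ) ≫ (al e C).hom = (al e B).hom ≫ φ := by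
  refine hom_ext₃' _ _ fun U a a' b => ?_
  change (al e C).hom.app U ((mapT (𝟙 A) (mapT (𝟙 A') φ)).app U (Tens.tmul a (Tens.tmul a' b))) =
    φ.app U ((al e B).hom.app U (Tens.tmul a (Tens.tmul a' b)))
  rw [mapT_tmul, mapT_tmul, al_tmul, al_tmul, Scheme.Modules.Hom.app_smul]
  rfl

theorem mapT_injective {A A' : X.Modules} (e : CohB1.tensorMod A A' ≅ Coh.structureModule X)
    {B C : X.Modules} : Function.Injective (fun φ : B ⟶ C => mapT (𝟙 A') φ) := by
  intro φ ψ h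
  have h' : mapT (𝟙 A') φ = mapT (𝟙 A') ψ := h
  have h1 := al_nat e φ
  rw [h', al_nat e ψ] at h1
  exact ((cancel_epi _).1 h1).symm

theorem mapT_bijective {A A' : X.Modules} (e : CohB1.tensorMod A A' ≅ Coh.structureModule X)
    (B C : X.Modules) : Function.Bijective (fun φ : B ⟶ C => mapT (𝟙 A') φ) := by
  refine ⟨mapT_injective e, fun ψ => ⟨(al e B).inv ≫ mapT (𝟙 A) ψ ≫ (al e C).hom, ?_⟩⟩
  refine mapT_injective (A := A') (A' := A) ((Tens.swap A' A) ≪≫ e) ?_
  change mapT (𝟙 A) (mapT (𝟙 A') ((al e B).inv ≫ mapT (𝟙 A) ψ ≫ (al e C).hom)) = mapT (𝟙 A) ψ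
  have h1 := al_nat e ((al e B).inv ≫ mapT (𝟙 A) ψ ≫ (al e C).hom)
  rw [Iso.hom_inv_id_assoc, cancel_mono] at h1
  exact h1

variable (k : Type u) [Field k] [X.Over (Spec (CommRingCat.of k))]

theorem smul_app' {M N : X.Modules} (c : k) (φ : M ⟶ N) : c • φ = φ ≫ Formal.smulMod k N c := rfl

theorem mapT_smul (A : X.Modules) {B C : X.Modules} (c : k) (φ : B ⟶ C) :
    mapT (𝟙 A) (c • φ) = c • mapT (𝟙 A) φ := by
  refine hom_ext _ _ fun U a b => ?_
  rw [mapT_tmul]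
  have h1 : ∀ {M N : X.Modules} (φ : M ⟶ N) (m : Γ(M, U)), (c • φ).app U m =
      Groth.Agent.FormalB.ModPow.resΓ X U (Coh.toGlobal (X ↘ Spec (CommRingCat.of k)) c) • φ.app U m :=
    fun _ _ => rfl
  rw [h1, h1, mapT_tmul, Tens.tmul_smul]

theorem mapT_add (A : X.Modules) {B C : X.Modules} (φ ψ : B ⟶ C) :
    mapT (𝟙 A) (φ + ψ) = mapT (𝟙 A) φ + mapT (𝟙 A) ψ := by
  refine hom_ext _ _ fun U a b => ?_
  have h1 : ∀ {M N : X.Modules} (φ ψ : M ⟶ N) (m : Γ(M, U)), (φ + ψ).app U m = φ.app U m + ψ.app U m :=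
    fun _ _ _ => rfl
  rw [h1, mapT_tmul, mapT_tmul, mapT_tmul, h1, Tens.tmul_add]

/-- Morphisms out of the structure sheaf are global sections. -/
noncomputable def secHom (N : X.Modules) : (Coh.structureModule X ⟶ N) ≃ₗ[k] Coh.HH X N 0 where
  toFun s := (secEquiv N).symm (sec s ⊤)
  invFun x := homOf (secEquiv N x)
  left_inv s := by
    change homOf (secEquiv N ((secEquiv N).symm (sec s ⊤))) = s
    rw [AddEquiv.apply_symm_apply, homOf_sec]
  right_inv x := by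
    change (secEquiv N).symm (sec (homOf (secEquiv N x)) ⊤) = x
    rw [sec_homOf, res_refl, AddEquiv.symm_apply_apply]
  map_add' s t := by
    rw [← map_add]
    rfl
  map_smul' c s := by
    rw [RingHom.id_apply, AddEquiv.symm_apply_eq]
    have h1 : c • ((secEquiv N).symm (sec s ⊤)) = hmap (Formal.smulMod k N c) 0 ((secEquiv N).symm (sec s ⊤)) := rfl
    rw [h1, secEquiv_hmap, AddEquiv.apply_symm_apply]
    rfl

/-- `Hom(A, B) = H⁰(A' ⊗ B)`. -/
noncomputable def homEquiv {A A' : X.Modules} (e : CohB1.tensorMod A A' ≅ Coh.structureModule X)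
    (B : X.Modules) : (A ⟶ B) ≃ₗ[k] Coh.HH X (CohB1.tensorMod A' B) 0 :=
  (LinearEquiv.ofBijective
    ({ toFun := fun φ => ((Tens.swap A' A) ≪≫ e).inv ≫ mapT (𝟙 A') φ
       map_add' := fun φ ψ => by rw [mapT_add, Preadditive.comp_add]
       map_smul' := fun c φ => by rw [mapT_smul, RingHom.id_apply, Linear.comp_smul] } :
      (A ⟶ B) →ₗ[k] (Coh.structureModule X ⟶ CohB1.tensorMod A' B))
    (by
      have h1 : Function.Bijective (fun ψ : CohB1.tensorMod A' A ⟶ CohB1.tensorMod A' B =>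
          ((Tens.swap A' A) ≪≫ e).inv ≫ ψ) :=
        ⟨fun a b h => (cancel_epi _).1 h, fun ψ => ⟨((Tens.swap A' A) ≪≫ e).hom ≫ ψ, by simp⟩⟩
      exact h1.comp (mapT_bijective e A B))).trans (secHom k (CohB1.tensorMod A' B))

end K800.HomDim
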