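import Groth.Agent.CurvesC.ProjMap
import Groth.Agent.Ega2.AmpleSec
import Groth.Agent.Ega2.ImmCrit
import Groth.Agent.AdjLin.K800.MulMap
import Groth.Agent.VarietyB.DimSch
import Groth.Agent.VarietyB.ProjSpaceProper
import Mathlib.AlgebraicGeometry.QuasiAffine
import Mathlib.AlgebraicGeometry.ZariskisMainTheorem

/-!
# Very ampleness from ampleness and generation of the section ring in degree one
-/

set_option autoImplicit false
universe u

open CategoryTheory CategoryTheory.Limits AlgebraicGeometry Opposite TopologicalSpace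

namespace K800.VeryAmple

open K800.MulMap
open Groth.Agent.Ega2 Groth.Agent.Ega2.Tens Groth.Agent.Fdesc.LocGen
open Groth.Agent.CurvesC.ProjMap Groth.Agent.CurvesC.ProjSpaceBasic

variable {X : Scheme.{u}}

/-- The global sections of `M` with coefficient in `R` with respect to `f`. -/
noncomputable def good {U : X.Opens} (R : NonUnitalSubring Γ(X, U)) {M : X.Modules} (f : Γ(M, U)) :
    AddSubgroup Γ(M, ⊤) where
  carrier := {w | ∃ b ∈ R, res M le_top w = b • f}
  add_mem' := by
    rintro x y ⟨b, hb, hbe⟩ ⟨b', hb', hbe'⟩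
    exact ⟨b + b', R.add_mem hb hb', by rw [map_add, hbe, hbe', add_smul]⟩
  zero_mem' := ⟨0, R.zero_mem, by rw [map_zero, zero_smul]⟩
  neg_mem' := by
    rintro x ⟨b, hb, hbe⟩
    exact ⟨-b, R.neg_mem hb, by rw [map_neg, hbe, neg_smul]⟩

theorem good_tmul {U : X.Opens} {R : NonUnitalSubring Γ(X, U)} {M N : X.Modules} (h : MulSurj M N)
    {f : Γ(M, U)} {g : Γ(N, U)} (hf : ∀ w, w ∈ good R f) (hg : ∀ w, w ∈ good R g)
    (w : Γ(CohB1.tensorMod M N, ⊤)) : w ∈ good R (Tens.tmul f g) := by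
  refine (AddSubgroup.closure_le (good R (Tens.tmul f g))).2 ?_ (h w)
  rintro _ ⟨a, b, rfl⟩
  obtain ⟨α, hα, hαe⟩ := hf a
  obtain ⟨β, hβ, hβe⟩ := hg b
  refine ⟨α * β, R.mul_mem hα hβ, ?_⟩
  have h2 : res (CohB1.tensorMod M N) (le_top : U ≤ ⊤) (Tens.tmul a b) =
    Tens.tmul (res M (le_top : U ≤ ⊤) a) (res N (le_top : U ≤ ⊤) b) := Tens.tmul_res _ _ _
  rw [h2, hαe, hβe, Tens.smul_tmul, Tens.tmul_smul, smul_smul]

theorem good_lunit {U : X.Opens} {R : NonUnitalSubring Γ(X, U)} {L : X.Modules}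
    {e : Γ(L, U)} (he : ∀ w, w ∈ good R e)
    (w : Γ(CohB1.tensorMod (Coh.structureModule X) L, ⊤)) : w ∈ good R (Tens.tmul (one U) e) := by
  have hw : Tens.tmul (sm 1) ((Tens.lunit L).hom.app ⊤ w) = w := by
    rw [← Tens.lunit_inv_app]
    exact TensPow.symm_app_app (Tens.lunit L) w
  rw [← hw]
  obtain ⟨b, hb, hbe⟩ := he ((Tens.lunit L).hom.app ⊤ w)
  refine ⟨b, hb, ?_⟩
  have h2 : res (CohB1.tensorMod (Coh.structureModule X) L) (le_top : U ≤ ⊤)
      (Tens.tmul (sm 1) ((Tens.lunit L).hom.app ⊤ w)) =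
      Tens.tmul (res (Coh.structureModule X) (le_top : U ≤ ⊤) (sm 1))
        (res L (le_top : U ≤ ⊤) ((Tens.lunit L).hom.app ⊤ w)) := Tens.tmul_res _ _ _
  have h3 : res (Coh.structureModule X) (le_top : U ≤ ⊤) (sm 1) = one U := res_one _
  rw [h2, hbe, Tens.tmul_smul, h3]

/-- Coefficients of sections of powers. -/
theorem mem_of_mulSurj {L : X.Modules} (h : ∀ m : ℕ, 1 ≤ m → MulSurj (CohB1.tensorPow L m) L)
    {U : X.Opens} (e : Γ(L, U)) (R : NonUnitalSubring Γ(X, U)) (h1 : ∀ w, w ∈ good R e)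
    (m : ℕ) (hm : 1 ≤ m) : ∀ w : Γ(CohB1.tensorPow L m, ⊤), w ∈ good R (pow e m) := by
  induction m, hm using Nat.le_induction with
  | base => exact good_lunit h1
  | succ m hm ih => exact good_tmul (h m hm) ih h1

/-- The ideal of functions vanishing at `x`, as a non-unital subring. -/
noncomputable def vanIdeal {V : X.Opens} {x : X} (hx : x ∈ V) : NonUnitalSubring Γ(X, V) where
  carrier := {b | ¬ IsUnit (X.presheaf.germ V x hx b)}
  add_mem' := by
    intro a b ha hb
    have h1 : X.presheaf.germ V x hx a ∈ IsLocalRing.maximalIdeal (X.presheaf.stalk x) :=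
      (IsLocalRing.mem_maximalIdeal _).2 ha
    have h2 : X.presheaf.germ V x hx b ∈ IsLocalRing.maximalIdeal (X.presheaf.stalk x) :=
      (IsLocalRing.mem_maximalIdeal _).2 hb
    have h3 := Ideal.add_mem _ h1 h2
    rw [← map_add] at h3
    exact (IsLocalRing.mem_maximalIdeal _).1 h3
  zero_mem' := by
    change ¬ IsUnit _
    rw [map_zero]
    exact not_isUnit_zero
  neg_mem' := by
    intro a ha
    change ¬ IsUnit _
    rw [map_neg, IsUnit.neg_iff]
    exact ha
  mul_mem' := by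
    intro a b ha hb
    change ¬ IsUnit _
    rw [map_mul]
    exact fun h => ha (isUnit_of_mul_isUnit_left h)

/-- Base-point freeness. -/
theorem exists_mem_genLocus_of_pow {L : X.Modules} (hL : PicF.IsInvertible L)
    (h : ∀ m : ℕ, 1 ≤ m → MulSurj (CohB1.tensorPow L m) L) (m : ℕ) (hm : 1 ≤ m)
    (w : Coh.structureModule X ⟶ CohB1.tensorPow L m) {x : X} (hx : x ∈ CohB1.genLocus _ w) :
    ∃ t : Coh.structureModule X ⟶ L, x ∈ CohB1.genLocus L t := by
  by_contra hcon
  push Not at hcon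
  obtain ⟨V, e, hxV, he⟩ := (isInvertible_iff L).1 hL x
  -- all sections of `L` have coefficient in the maximal ideal
  have h1 : ∀ w : Γ(L, ⊤), w ∈ good (vanIdeal hxV) e := by
    intro w
    obtain ⟨b, hb⟩ := he.exists_eq (res L le_top w)
    refine ⟨b, ?_, hb⟩
    have h2 := hcon (homOf w)
    have h3 : CohB1.genLocus L (homOf w) ⊓ V = X.basicOpen b :=
      genLocus_inf_eq (homOf w) he (by rw [sec_homOf, hb])
    intro hu
    have h4 : x ∈ X.basicOpen b := (Scheme.mem_basicOpen X b x hxV).2 hu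
    rw [← h3] at h4
    exact h2 h4.1
  obtain ⟨b, hb, hbe⟩ := mem_of_mulSurj h e (vanIdeal hxV) h1 m hm (sec w ⊤)
  rw [res_sec] at hbe
  have h3 : CohB1.genLocus _ w ⊓ V = X.basicOpen b := genLocus_inf_eq w (he.pow m) hbe
  have h4 : x ∈ X.basicOpen b := by rw [← h3]; exact ⟨hx, hxV⟩
  rw [Scheme.mem_basicOpen X b x hxV] at h4
  exact hb h4

/-- For an ample `L` and a section `s` of `L`, the open `X_s` is quasi-affine. -/
theorem isQuasiAffine_genLocus [QuasiSeparatedSpace X] {L : X.Modules} (hL : CohB1.IsAmple L)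
    (s : Coh.structureModule X ⟶ L) (U : X.Opens) (hU : U = CohB1.genLocus L s) (hc : IsCompact (U : Set X)) :
    (U : Scheme.{u}).IsQuasiAffine := by
  have : CompactSpace U := isCompact_iff_compactSpace.1 hc
  refine Scheme.IsQuasiAffine.of_forall_exists_mem_basicOpen _ fun x => ?_
  obtain ⟨n, w, hxw, hwU, haff⟩ := AmpleSec.exists_affine_genLocus_nhd hL U x.1 x.2
  have he : IsGen (sec s U) := (le_genLocus_iff s U).1 hU.le
  obtain ⟨b, hb⟩ := (he.pow (n + 1)).exists_eq (sec w U)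
  have h3 : CohB1.genLocus _ w ⊓ U = X.basicOpen b := genLocus_inf_eq w (he.pow (n + 1)) hb
  rw [inf_eq_left.2 hwU] at h3
  refine ⟨U.topIso.inv b, ?_, ?_⟩
  · rw [← U.ι.isAffineOpen_iff_of_isOpenImmersion, Scheme.Opens.ι_image_basicOpen_topIso_inv, ← h3]
    exact haff
  · have h4 : U.ι ''ᵁ ((U : Scheme.{u}).basicOpen (U.topIso.inv b)) = CohB1.genLocus _ w := by
      rw [Scheme.Opens.ι_image_basicOpen_topIso_inv, ← h3]
    have h5 : U.ι x ∈ U.ι ''ᵁ ((U : Scheme.{u}).basicOpen (U.topIso.inv b)) := by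
      rw [h4]; exact hxw
    obtain ⟨y, hy, hyx⟩ := h5
    rwa [U.ι.isOpenEmbedding.injective hyx] at hy

section Main

variable {k : Type u} [Field k] [X.Over (Spec (CommRingCat.of k))]

open Groth.Agent.VarietyB.DimSch in
/-- Spanning over the base field. -/
def Spans (k : Type u) [Field k] [X.Over (Spec (CommRingCat.of k))] {L : X.Modules} {J : Type*} [Fintype J]
    (s : J → (Coh.structureModule X ⟶ L)) : Prop :=
  ∀ w : Γ(L, ⊤), ∃ c : J → k, w = ∑ j, (toSections k X ⊤ (c j) : Γ(X, ⊤)) • sec (s j) ⊤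

open Groth.Agent.VarietyB.DimSch

theorem ores_toSections {U : X.Opens} (c : k) : ores (le_top : U ≤ ⊤) (toSections k X ⊤ c) = toSections k X U c :=
  ores_ores _ _ _

theorem Spans.good {L : X.Modules} {J : Type*} [Fintype J] {s : J → (Coh.structureModule X ⟶ L)}
    (hs : Spans k s) {U : X.Opens} (R : NonUnitalSubring Γ(X, U))
    (hR : ∀ (c : k) (b : Γ(X, U)), b ∈ R → toSections k X U c * b ∈ R) {e : Γ(L, U)}
    (he : ∀ j, sec (s j) ⊤ ∈ good R e) (w : Γ(L, ⊤)) : w ∈ VeryAmple.good R e := by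
  obtain ⟨c, rfl⟩ := hs w
  refine AddSubgroup.sum_mem _ fun j _ => ?_
  obtain ⟨b, hb, hbe⟩ := he j
  refine ⟨toSections k X U (c j) * b, hR _ _ hb, ?_⟩
  rw [res_smul, hbe, smul_smul, ores_toSections]

theorem exists_mem_genLocus_of_spans {L : X.Modules} (hL : PicF.IsInvertible L) {J : Type*} [Fintype J]
    {s : J → (Coh.structureModule X ⟶ L)} (hs : Spans k s) {t : Coh.structureModule X ⟶ L} {x : X}
    (hx : x ∈ CohB1.genLocus L t) : ∃ j, x ∈ CohB1.genLocus L (s j) := by
  by_contra hcon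
  push Not at hcon
  obtain ⟨V, e, hxV, he⟩ := (isInvertible_iff L).1 hL x
  have h1 : ∀ w : Γ(L, ⊤), w ∈ VeryAmple.good (vanIdeal hxV) e := by
    refine hs.good (vanIdeal hxV) (fun c b hb => ?_) fun j => ?_
    · change ¬ IsUnit _
      rw [map_mul]
      exact fun h => hb (isUnit_of_mul_isUnit_right h)
    · obtain ⟨b, hb⟩ := he.exists_eq (res L le_top (sec (s j) ⊤))
      refine ⟨b, ?_, hb⟩
      rw [res_sec] at hb
      have h3 : CohB1.genLocus L (s j) ⊓ V = X.basicOpen b := genLocus_inf_eq (s j) he hb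
      intro hu
      have h4 : x ∈ X.basicOpen b := (Scheme.mem_basicOpen X b x hxV).2 hu
      rw [← h3] at h4
      exact hcon j h4.1
  obtain ⟨b, hb, hbe⟩ := h1 (sec t ⊤)
  rw [res_sec] at hbe
  have h3 : CohB1.genLocus L t ⊓ V = X.basicOpen b := genLocus_inf_eq t he hbe
  have h4 : x ∈ X.basicOpen b := by rw [← h3]; exact ⟨hx, hxV⟩
  rw [Scheme.mem_basicOpen X b x hxV] at h4
  exact hb h4

/-- A proper morphism from a quasi-affine scheme to an affine scheme has affine source. -/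
theorem isAffine_of_isProper {Y Z : Scheme.{u}} (f : Y ⟶ Z) [IsProper f] [IsAffine Z] (hY : Y.IsQuasiAffine) :
    IsAffine Y := by
  have h1 : IsOpenImmersion Y.toSpecΓ := inferInstance
  have h2 : IsProper (f ≫ Z.toSpecΓ) := inferInstance
  rw [Scheme.toSpecΓ_naturality] at h2
  have h3 : IsProper Y.toSpecΓ := IsProper.of_comp Y.toSpecΓ (Spec.map f.appTop)
  have h4 : IsClosedImmersion Y.toSpecΓ := (IsClosedImmersion.iff_isProper_and_mono _).2 ⟨h3, inferInstance⟩
  exact isAffine_of_isAffineHom Y.toSpecΓ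

/-- **Very ampleness** of an ample module whose section ring is generated in degree one. -/
theorem exists_closedImmersion [IsProper (X ↘ Spec (CommRingCat.of k))] {L : X.Modules}
    (hL : CohB1.IsAmple L) {n : ℕ} (s : Fin (n + 1) → (Coh.structureModule X ⟶ L)) (hs : Spans k s)
    (h : ∀ m : ℕ, 1 ≤ m → MulSurj (CohB1.tensorPow L m) L) :
    ∃ i : X ⟶ CohB1.ProjSpace n k, IsClosedImmersion i ∧
      i ≫ CohB1.ProjSpace.toSpec n k = (X ↘ Spec (CommRingCat.of k)) ∧
      Nonempty ((Scheme.Modules.pullback i).obj (Twist.twistProjSpace n k 1) ≅ L) := by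
  have hinv : PicF.IsInvertible L := hL.1
  have hcs : CompactSpace X := hL.2.1
  have hqs : QuasiSeparatedSpace X := quasiSeparatedSpace_of_quasiSeparated (X ↘ Spec (CommRingCat.of k))
  have hcov : ⨆ i, CohB1.genLocus L (s i) = ⊤ := by
    rw [eq_top_iff]
    intro x _
    obtain ⟨m, w, hxw, -, -⟩ := AmpleSec.exists_affine_genLocus_nhd hL ⊤ x trivial
    obtain ⟨t, ht⟩ := exists_mem_genLocus_of_pow hinv h (m + 1) (by omega) w hxw
    obtain ⟨j, hj⟩ := exists_mem_genLocus_of_spans hinv hs ht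
    exact Opens.mem_iSup.2 ⟨j, hj⟩
  obtain ⟨φ, -, hφf, hφD, hφr, eφ, -⟩ := exists_morphism (X ↘ Spec (CommRingCat.of k)) L s hcov
  refine ⟨φ, ?_, hφf, ⟨eφ⟩⟩
  have hprop : IsProper (CohB1.ProjSpace.toSpec n k) := inferInstance
  have hφp : IsProper φ := by
    have : IsProper (φ ≫ CohB1.ProjSpace.toSpec n k) := by rw [hφf]; infer_instance
    exact IsProper.of_comp φ (CohB1.ProjSpace.toSpec n k)
  refine ImmCrit.isClosedImmersion_of_affine_family φ (Dp n k) (isAffineOpen_Dp n k) (fun i => ?_)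
    (iSup_Dp n k) (fun i => ?_)
  · -- the preimage is affine
    have h1 : IsProper (φ ∣_ (Dp n k i)) := inferInstance
    have h2 : IsAffine (Dp n k i) := isAffineOpen_Dp n k i
    refine isAffine_of_isProper (φ ∣_ (Dp n k i)) ?_
    refine isQuasiAffine_genLocus hL (s i) (φ ⁻¹ᵁ Dp n k i) (hφD i) ?_
    exact φ.isCompact_preimage (isAffineOpen_Dp n k i).isCompact
  · -- surjectivity on sections
    intro a
    let U := φ ⁻¹ᵁ Dp n k i
    have hU : U = CohB1.genLocus L (s i) := hφD i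
    let e : Γ(L, U) := sec (s i) U
    have he : IsGen e := (le_genLocus_iff (s i) U).1 hU.le
    let R : Subring Γ(X, U) := (φ.app (Dp n k i)).hom.range
    have hRk : ∀ c : k, toSections k X U c ∈ R := by
      intro c
      refine ⟨struct (CohB1.ProjSpace.toSpec n k) (Dp n k i) c, ?_⟩
      have h1 := φ.naturality (homOfLE (le_top : Dp n k i ≤ ⊤)).op
      have h2 := congr($h1 ((CohB1.ProjSpace.toSpec n k).appTop.hom
        ((Scheme.ΓSpecIso (CommRingCat.of k)).inv.hom c)))
      refine h2.trans ?_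
      change X.presheaf.map _ (φ.app ⊤ _) = _
      have h3 : φ.app ⊤ ((CohB1.ProjSpace.toSpec n k).appTop.hom
        ((Scheme.ΓSpecIso (CommRingCat.of k)).inv.hom c)) =
          (φ ≫ CohB1.ProjSpace.toSpec n k).appTop.hom ((Scheme.ΓSpecIso (CommRingCat.of k)).inv.hom c) := by
        rw [Scheme.Hom.comp_appTop]
        rfl
      rw [h3, hφf]
      rfl
    have hR1 : ∀ w : Γ(L, ⊤), w ∈ VeryAmple.good R.toNonUnitalSubring e := by
      refine hs.good R.toNonUnitalSubring (fun c b hb => R.mul_mem (hRk c) hb) fun j => ?_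
      refine ⟨φ.app (Dp n k i) (ratio n k i j), ⟨_, rfl⟩, ?_⟩
      rw [res_sec]
      exact (hφr i j).symm
    -- extend `a` to a section of a power of `L`
    let t : Coh.structureModule X ⟶ CohB1.tensorPow L 1 := s i ≫ (Tens.lunit L).inv
    have ht : ∀ V : X.Opens, sec t V = pow (sec (s i) V) 1 := by
      intro V
      change (Tens.lunit L).inv.app V (sec (s i) V) = _
      exact Tens.lunit_inv_app _
    have htU : CohB1.genLocus _ t = U := by
      have key : ∀ V : X.Opens, V ≤ CohB1.genLocus _ t ↔ V ≤ CohB1.genLocus L (s i) := by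
        intro V
        rw [le_genLocus_iff, le_genLocus_iff]
        constructor
        · intro h1
          have h2 := h1.app (Tens.lunit L).hom
          have h3 : (Tens.lunit L).hom.app V (sec t V) = sec (s i) V :=
            TensPow.app_symm_app (Tens.lunit L) _
          rwa [h3] at h2
        · intro h1
          exact h1.app (Tens.lunit L).inv
      rw [hU]
      exact le_antisymm ((key _).1 le_rfl) ((key _).2 le_rfl)
    obtain ⟨N₀, hN₀⟩ := SecExt.exists_extension_tensorPow hinv 1 0 t (ofFun (ores htU.le a))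
    obtain ⟨w, -, hw⟩ := hN₀ (N₀ + 1) (Nat.le_succ _)
    obtain ⟨b, hb, hb1⟩ := hw U e 1 (ores (inf_le_left : U ⊓ CohB1.genLocus _ t ≤ U) a) he
      (by rw [one_smul]; exact ht U) (by
        change res (Coh.structureModule X) _ (ofFun (ores htU.le a)) = _ • one _
        rw [res_ofFun, ores_ores, ofFun_eq_smul]
        rfl)
    rw [map_one, one_pow, mul_one] at hb1
    have hab : b = a := by
      have h1 := congrArg (ores (le_inf le_rfl htU.ge : U ≤ U ⊓ CohB1.genLocus _ t)) hb1
      rwa [ores_ores, ores_ores, ores_refl, ores_refl] at h1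
    subst hab
    obtain ⟨b', hb', hbe'⟩ := mem_of_mulSurj h e R.toNonUnitalSubring hR1 (0 + (N₀ + 1) * 1) (by omega)
      (sec w ⊤)
    rw [res_sec, hb] at hbe'
    have h1 := (he.pow _).ext hbe'
    rw [h1]
    exact hb'

end Main

end K800.VeryAmple
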