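import Groth.Agent.AdjLin.K800.KosCrit
import Groth.Agent.AdjLin.K800.Embed
import Groth.Agent.AdjLin.K800.HomDim
import Groth.Agent.AdjLin.K800.Cls
import Groth.Agent.AdjLin.K800.VeryAmple
import Groth.Agent.Ega1.GlobGenPt
import Groth.Agent.Fdesc.CurveMap
import Groth.Agent.S0002

/-!
# The Koszul criteria for classes of invertible modules
-/

set_option autoImplicit false
universe u

open CategoryTheory CategoryTheory.Limits AlgebraicGeometry Opposite TopologicalSpace

namespace K800.Crit

open K800.Tower K800.SheafTower K800.MulMap K800.Cls K800.KosCrit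
open Groth.Agent.Ega2 Groth.Agent.Ega2.Tens Groth.Agent.Fdesc.LocGen
open Groth.Agent.CurvesC

attribute [local instance] LinMod.linearModules Abelian.hasFiniteBiproducts

variable {X : Scheme.{u}} (k : Type u) [Field k] [X.Over (Spec (CommRingCat.of k))]

theorem spans_of_span {L : X.Modules} {J : Type} [Fintype J] (s : J → (Coh.structureModule X ⟶ L))
    (hs : ∀ t : Coh.structureModule X ⟶ L, t ∈ Submodule.span k (Set.range s)) : K800.VeryAmple.Spans k s := by
  intro w
  obtain ⟨c, hc⟩ := (Submodule.mem_span_range_iff_exists_fun k).1 (hs (homOf w))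
  refine ⟨c, ?_⟩
  have h1 : sec (homOf w) ⊤ = w := by rw [sec_homOf, res_refl]
  have h2 : sec (∑ j, c j • s j) ⊤ = ∑ j, (c j • s j).app ⊤ (one ⊤) := K800.Embed.sum_app _ _ _
  have h3 : sec (∑ j, c j • s j) ⊤ = sec (homOf w) ⊤ := congrArg (fun z => sec z ⊤) hc
  refine h1.symm.trans (h3.symm.trans (h2.trans (Finset.sum_congr rfl fun j _ => ?_)))
  exact K800.Embed.smul_app k (c j) (s j) ⊤ (one ⊤)

/-- A spanning family of sections of a globally generated invertible module generates. -/
theorem exists_mem_genLocus {L : X.Modules} (hL : PicF.IsInvertible L) (hg : Curv2.IsGloballyGenerated L)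
    {J : Type} [Fintype J] (s : J → (Coh.structureModule X ⟶ L))
    (hs : ∀ t : Coh.structureModule X ⟶ L, t ∈ Submodule.span k (Set.range s)) (x : X) :
    ∃ i, x ∈ CohB1.genLocus L (s i) := by
  obtain ⟨t, ht⟩ := Groth.Agent.Ega1.GlobGenPt.exists_mem_genLocus hL hg x
  exact K800.VeryAmple.exists_mem_genLocus_of_spans hL (spans_of_span k s hs) ht

/-- The terms of the tower in the Picard group. -/
theorem cl_towObj (G L' : X.Modules) (hG : PicF.IsInvertible G) (hL' : PicF.IsInvertible L')
    (n : ℕ) : cl (towObj G L' n) (isInvertible_towObj hG hL' n) = cl G hG + n • cl L' hL' := by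
  induction n with
  | zero => rw [zero_smul, add_zero]; rfl
  | succ n ih =>
    rw [succ_nsmul, ← add_assoc, ← ih]
    rfl

theorem van_towObj {a b : P X} (i p : ℕ) (h : Van (a + b - p • b) i) :
    Subsingleton (Coh.HH X (towObj (CohB1.tensorMod (rep a) (rep b)) (rep (-b)) p) i) := by
  refine (van_iff (rep_iso (hL := isInvertible_towObj (isInvertible_tensorMod (rep_inv a) (rep_inv b))
    (rep_inv (-b)) p) ?_) i).1 h
  rw [cl_towObj _ _ (isInvertible_tensorMod (rep_inv a) (rep_inv b)) (rep_inv (-b)),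
    cl_tensor (rep_inv a) (rep_inv b), cl_rep, cl_rep, cl_rep, smul_neg, sub_eq_add_neg]

theorem van_towObj_succ {a b : P X} (i : ℕ) (h : Van (a - i • b) i) :
    Subsingleton (Coh.HH X (towObj (CohB1.tensorMod (rep a) (rep b)) (rep (-b)) (i + 1)) i) := by
  refine van_towObj i (i + 1) ?_
  rw [succ_nsmul, add_sub_add_right_eq_sub]
  exact h

section Proper

variable [IsProper (X ↘ Spec (CommRingCat.of k))]

include k in
theorem isLocallyNoetherian : IsLocallyNoetherian X :=
  LocallyOfFiniteType.isLocallyNoetherian (X ↘ Spec (CommRingCat.of k))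

/-- Finiteness of cohomology. -/
theorem finite_rep (a : P X) (i : ℕ) : Module.Finite k (Coh.HH X (rep a) i) :=
  have := isLocallyNoetherian k (X := X)
  Groth.Agent.S0002.result k X (rep a) (Groth.Agent.Fdesc.CurveMap.isCoh_of_isInvertible (rep_inv a)) i

theorem finite_sections (b : P X) : Module.Finite k (Coh.structureModule X ⟶ rep b) :=
  have := finite_rep k b 0
  Module.Finite.equiv (K800.HomDim.secHom k (rep b)).symm

theorem finrank_sections (b : P X) : Module.finrank k (Coh.structureModule X ⟶ rep b) = h0 k b :=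
  (K800.HomDim.secHom k (rep b)).finrank_eq

theorem finrank_hom {A W : X.Modules} (hA : PicF.IsInvertible A) (hW : PicF.IsInvertible W) :
    Module.Finite k (A ⟶ W) ∧ Module.finrank k (A ⟶ W) = h0 k (cl W hW - cl A hA) := by
  obtain ⟨A', hA', ⟨e⟩⟩ := Groth.Agent.Grpsch.PicGrp.exists_inverse hA
  have h1 : cl A hA + cl A' hA' = 0 := by
    rw [← cl_tensor hA hA' (isInvertible_tensorMod hA hA'), ← cl_one]
    exact cl_congr e
  have h2 : Nonempty (rep (cl W hW - cl A hA) ≅ CohB1.tensorMod A' W) := by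
    refine rep_iso (hL := isInvertible_tensorMod hA' hW) ?_
    rw [cl_tensor hA' hW, eq_neg_of_add_eq_zero_right h1, sub_eq_add_neg, add_comm]
  have e2 := K800.HomDim.homEquiv k e W
  constructor
  · have h3 := finite_rep k (cl W hW - cl A hA) 0
    obtain ⟨e3⟩ := h2
    have : Module.Finite k (Coh.HH X (CohB1.tensorMod A' W) 0) := Module.Finite.equiv (HHcongr k e3 0)
    exact Module.Finite.equiv e2.symm
  · rw [h0_eq k h2]
    exact e2.finrank_eq

include k in
/-- **Criterion, vanishing form.** -/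
theorem ms_of_van (N : ℕ) (hN : ∀ F : X.Modules, Subsingleton (Coh.HH X F (N + 1))) {a b : P X}
    (hb : GG b) (h : ∀ i, 1 ≤ i → i ≤ N → Van (a - i • b) i) : MS a b := by
  obtain ⟨e⟩ := rep_neg_tensor b
  have := finite_sections k b
  let B := Module.finBasis k (Coh.structureModule X ⟶ rep b)
  refine mulSurj_of_vanishing e (rep a) (rep_inv b) (rep_inv (-b)) (fun i => B i)
    (exists_mem_genLocus k (rep_inv b) hb _ fun t => by rw [B.span_eq]; trivial) N hN
    (fun i h1 h2 => van_towObj_succ i (h i h1 h2))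

/-- **Criterion, dual form.** -/
theorem ms_of_dual [IsAlgClosed k] [IsIntegral X] (n : ℕ) (hn : 1 ≤ n)
    (hN : ∀ F : X.Modules, Subsingleton (Coh.HH X F (n + 1)))
    {κ : P X} (hκ : IsDual k n (rep κ)) {a b : P X}
    (hb : GG b) (h : ∀ i, 1 ≤ i → i < n → Van (a - i • b) i)
    (htop : h0 k (κ - a + n • b) = 0 ∨ h0 k (κ - a + n • b) + (n + 1) ≤ h0 k b) : MS a b := by
  obtain ⟨e⟩ := rep_neg_tensor b
  have := finite_sections k b
  have hcard : Module.finrank k (Coh.structureModule X ⟶ rep b) = h0 k b := finrank_sections k b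
  let B := Module.finBasis k (Coh.structureModule X ⟶ rep b)
  have hG : PicF.IsInvertible (CohB1.tensorMod (rep a) (rep b)) :=
    isInvertible_tensorMod (rep_inv a) (rep_inv b)
  have hqc : ∀ p, Coh.IsQCoh (towObj (CohB1.tensorMod (rep a) (rep b)) (rep (-b)) p) := fun p =>
    Groth.Agent.Ega2.QCohLocal.isQCoh_of_isInvertible (isInvertible_towObj hG (rep_inv (-b)) p)
  have hfin := finrank_hom k (isInvertible_towObj hG (rep_inv (-b)) (n + 1)) (rep_inv κ)
  have hcl : cl (rep κ) (rep_inv κ) - cl _ (isInvertible_towObj hG (rep_inv (-b)) (n + 1)) =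
      κ - a + n • b := by
    rw [cl_towObj _ _ hG (rep_inv (-b)), cl_tensor (rep_inv a) (rep_inv b), cl_rep, cl_rep, cl_rep, cl_rep,
      smul_neg, succ_nsmul]
    abel
  rw [hcl] at hfin
  have := hfin.1
  refine mulSurj_of_dual e (rep a) (rep_inv b) (rep_inv (-b)) (fun i => B i)
    (exists_mem_genLocus k (rep_inv b) hb _ fun t => by rw [B.span_eq]; trivial) hqc n hn hN
    (fun i h1 h2 => van_towObj_succ i (h i h1 h2)) hκ (fun ψ hψ => ?_)
  refine K800.Embed.eq_zero_of_d_comp k e hG (rep_inv b) (rep_inv (-b)) (fun i => B i)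
    B.linearIndependent (rep_inv κ) (n + 1) ψ hψ ?_
  rw [hfin.2, Fintype.card_fin, hcard]
  exact htop

end Proper

end K800.Crit
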