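import Groth.Agent.AdjLin.K800.Hopf
import Groth.Agent.AdjLin.K800.Conv
import Groth.Agent.Fga.HypSec
import Groth.Agent.Fga.DimCut
import Groth.Agent.Flat2H.FamOpen
import Groth.Agent.Ega2.WeightPull
import Groth.Agent.CohqA.ProjDim
import Groth.Agent.Flat2G.ProperDim
import Groth.Agent.VarietyA.TwistExist

/-!
# The number of sections of an ample globally generated class
-/

set_option autoImplicit false
universe u

open CategoryTheory CategoryTheory.Limits AlgebraicGeometry Opposite TopologicalSpace Module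

namespace K800.DimCount

open K800.MulMap K800.Cls K800.KosCrit K800.Crit K800.Main K800.Embed K800.Hopf
open Groth.Agent.Fdesc.LocGen Groth.Agent.CurvesC Groth.Agent.Ega2 Groth.Agent.VarietyB.DimSch
open Groth.Agent.Ega2.Weight Groth.Agent.CurvesC.ProjMap Groth.Agent.CurvesC.ProjSpaceBasic Groth.Agent

attribute [local instance] LinMod.linearModules secAlgebra

/-- A proper scheme carrying an ample module generated by `n + 1` sections has dimension at most `n`. -/
theorem dim_le_of_sections (k : Type u) [Field k] {X : Scheme.{u}} [X.Over (Spec (CommRingCat.of k))]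
    [IsProper (X ↘ Spec (CommRingCat.of k))] {L : X.Modules} (hL : CohB1.IsAmple L) {n : ℕ}
    (s : Fin (n + 1) → (Coh.structureModule X ⟶ L)) (hs : ∀ x, ∃ i, x ∈ CohB1.genLocus L (s i)) :
    topologicalKrullDim X ≤ n := by
  have hcs : CompactSpace X := hL.2.1
  have hqs : QuasiSeparatedSpace X := quasiSeparatedSpace_of_quasiSeparated (X ↘ Spec (CommRingCat.of k))
  have hcov : ⨆ i, CohB1.genLocus L (s i) = ⊤ := by
    rw [eq_top_iff]
    intro x _
    exact Opens.mem_iSup.2 (hs x)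
  obtain ⟨φ, -, hφf, hφD, -, -⟩ := exists_morphism (X ↘ Spec (CommRingCat.of k)) L s hcov
  have hprop : IsProper (CohB1.ProjSpace.toSpec n k) := inferInstance
  have hφp : IsProper φ := by
    have : IsProper (φ ≫ CohB1.ProjSpace.toSpec n k) := by rw [hφf]; infer_instance
    exact IsProper.of_comp φ (CohB1.ProjSpace.toSpec n k)
  have haff : IsAffineHom φ := by
    refine isAffineHom_of_forall_exists_isAffineOpen φ (fun x => ?_)
    have hx : x ∈ ⨆ i, Dp n k i := by rw [iSup_Dp]; trivial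
    obtain ⟨i, hi⟩ := Opens.mem_iSup.1 hx
    refine ⟨Dp n k i, hi, isAffineOpen_Dp n k i, ?_⟩
    have h1 : IsProper (φ ∣_ (Dp n k i)) := inferInstance
    have h2 : IsAffine (Dp n k i) := isAffineOpen_Dp n k i
    refine K800.VeryAmple.isAffine_of_isProper (φ ∣_ (Dp n k i)) ?_
    refine K800.VeryAmple.isQuasiAffine_genLocus hL (s i) (φ ⁻¹ᵁ Dp n k i) (hφD i) ?_
    exact φ.isCompact_preimage (isAffineOpen_Dp n k i).isCompact
  have hfin : IsFinite φ := IsFinite.iff_isProper_and_isAffineHom.2 ⟨hφp, haff⟩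
  exact (Flat2G.ProperDim.topologicalKrullDim_le_of_isIntegralHom φ).trans
    (CohqA.ProjDim.topologicalKrullDim_le k n)

section Prod

variable {X : Scheme.{u}}

theorem genLocus_prodSec_le {M N : X.Modules} (hM : PicF.IsInvertible M) (hN : PicF.IsInvertible N)
    (s : Coh.structureModule X ⟶ M) (t : Coh.structureModule X ⟶ N) :
    CohB1.genLocus _ (prodSec s t) ≤ CohB1.genLocus N t := by
  intro x hx
  obtain ⟨U₁, t₁, hx₁, ht₁⟩ := (isInvertible_iff _).1 hM x
  obtain ⟨U₂, l₂, hx₂, hl₂⟩ := (isInvertible_iff _).1 hN x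
  let U := U₁ ⊓ U₂
  have hxU : x ∈ U := ⟨hx₁, hx₂⟩
  have ht := ht₁.res (inf_le_left : U ≤ U₁)
  have hl := hl₂.res (inf_le_right : U ≤ U₂)
  obtain ⟨a, ha⟩ := ht.exists_eq (sec s U)
  obtain ⟨c, hc⟩ := hl.exists_eq (sec t U)
  have h1 : sec (prodSec s t) U = (a * c) • Tens.tmul (res M (inf_le_left : U ≤ U₁) t₁) (res N (inf_le_right : U ≤ U₂) l₂) := by
    rw [sec_prodSec, ha, hc, Tens.smul_tmul, Tens.tmul_smul, smul_smul]
  have h2 := genLocus_inf_eq (prodSec s t) (IsGen.tmul ht hl) h1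
  have h3 := genLocus_inf_eq t hl hc
  have h4 : x ∈ X.basicOpen (a * c) := by rw [← h2]; exact ⟨hx, hxU⟩
  rw [Scheme.basicOpen_mul] at h4
  have h5 : x ∈ X.basicOpen c := h4.2
  rw [← h3] at h5
  exact h5.1

end Prod

variable (k : Type u) [Field k] {X : Scheme.{u}} [X.Over (Spec (CommRingCat.of k))]
  [IsProper (X ↘ Spec (CommRingCat.of k))] [IsIntegral X]

theorem dim_zero (Z : Scheme.{u}) [Z.Over (Spec (CommRingCat.of k))] [IsProper (Z ↘ Spec (CommRingCat.of k))]
    [IsIntegral Z] {M : Z.Modules} (hM : PicF.IsInvertible M) (s : Coh.structureModule Z ⟶ M)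
    (hη : genericPoint Z ∈ CohB1.genLocus M s) {z₀ : Z} (hz₀ : z₀ ∉ CohB1.genLocus M s) (n : ℕ)
    (hZ : topologicalKrullDim Z = ((n + 1 : ℕ) : WithBot ℕ∞)) :
    topologicalKrullDim ((CohB1.genLocus M s : Set Z)ᶜ : Set Z) = n := by
  have := Fga.HypSec.isNoetherian k Z
  have hcl : IsClosed (CohB1.genLocus M s : Set Z)ᶜ := (CohB1.genLocus M s).isOpen.isClosed_compl
  apply le_antisymm
  · refine Fga.DimCut.dim_le_of_forall_not_subset _ hcl (fun W hW hsub => ?_) n hZ.le
    have h1 : W = Set.univ := by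
      have h2 : irreducibleComponents Z = {Set.univ} := irreducibleComponents_eq_singleton
      rw [h2] at hW
      exact hW
    rw [h1] at hsub
    exact hsub (Set.mem_univ (genericPoint Z)) hη
  · obtain ⟨x, hx, hxcl⟩ := IsClosed.exists_closed_singleton hcl ⟨z₀, hz₀⟩
    obtain ⟨U, hxU, e, a, he, ha, hUa, hmax⟩ := Fga.RegSec.exists_gen_of_not_mem s hM hx
    exact Fga.DimCut.le_dim_of_local_equation k Z x hxcl U hxU a
      (fun h => hx (by rw [← hUa] at h; exact h.1)) (CohB1.genLocus M s : Set Z)ᶜ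
      (fun y hy hya (hy' : y ∈ CohB1.genLocus M s) => hya (by rw [← hUa]; exact ⟨hy', hy⟩)) n hZ.ge

omit [IsProper (X ↘ Spec (CommRingCat.of k))] [IsIntegral X] [X.Over (Spec (CommRingCat.of k))] in
theorem sec_ext {M : X.Modules} {s t : Coh.structureModule X ⟶ M} (h : sec s ⊤ = sec t ⊤) : s = t := by
  rw [← homOf_sec s, h, homOf_sec]

/-- The product with a fixed section, as a linear map. -/
noncomputable def prodLin {M N : X.Modules} (t : Coh.structureModule X ⟶ N) :
    (Coh.structureModule X ⟶ M) →ₗ[k] (Coh.structureModule X ⟶ CohB1.tensorMod M N) where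
  toFun s := prodSec s t
  map_add' s s' := by
    refine sec_ext ?_
    have h1 : sec (prodSec s t + prodSec s' t) ⊤ = sec (prodSec s t) ⊤ + sec (prodSec s' t) ⊤ := rfl
    have h2 : sec (s + s') ⊤ = sec s ⊤ + sec s' ⊤ := rfl
    rw [h1, sec_prodSec, sec_prodSec, sec_prodSec, h2, Tens.add_tmul]
  map_smul' c s := by
    refine sec_ext ?_
    have h1 : sec (c • prodSec s t) ⊤ = algebraMap k Γ(X, ⊤) c • sec (prodSec s t) ⊤ := rfl
    have h2 : sec (c • s) ⊤ = algebraMap k Γ(X, ⊤) c • sec s ⊤ := rfl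
    rw [RingHom.id_apply, h1, sec_prodSec, sec_prodSec, h2, Tens.smul_tmul]


omit [IsProper (X ↘ Spec (CommRingCat.of k))] in
theorem prodLin_injective {M N : X.Modules} (hM : PicF.IsInvertible M) (hN : PicF.IsInvertible N)
    (t : Coh.structureModule X ⟶ N) (ht : t ≠ 0) : Function.Injective (prodLin k (M := M) t) := by
  rw [injective_iff_map_eq_zero]
  intro s hs
  obtain ⟨x⟩ : Nonempty X := inferInstance
  obtain ⟨U₁, t₁, hx₁, ht₁⟩ := (isInvertible_iff _).1 hM x
  obtain ⟨U₂, l₂, hx₂, hl₂⟩ := (isInvertible_iff _).1 hN x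
  let U := U₁ ⊓ U₂
  have hxU : x ∈ U := ⟨hx₁, hx₂⟩
  have hne : (U : Set X).Nonempty := ⟨x, hxU⟩
  have : Nonempty U := ⟨⟨x, hxU⟩⟩
  have ht' := ht₁.res (inf_le_left : U ≤ U₁)
  have hl := hl₂.res (inf_le_right : U ≤ U₂)
  obtain ⟨a, ha⟩ := ht'.exists_eq (sec s U)
  obtain ⟨c, hc⟩ := hl.exists_eq (sec t U)
  have h1 : sec (prodSec s t) U = (a * c) • Tens.tmul (res M (inf_le_left : U ≤ U₁) t₁) (res N (inf_le_right : U ≤ U₂) l₂) := by
    rw [sec_prodSec, ha, hc, Tens.smul_tmul, Tens.tmul_smul, smul_smul]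
  have h2 : prodSec s t = 0 := hs
  rw [h2] at h1
  have h3 : a * c = 0 := (IsGen.tmul ht' hl).ext (by rw [zero_smul]; exact h1.symm)
  rcases mul_eq_zero.1 h3 with h | h
  · rw [h, zero_smul] at ha
    exact hom_eq_zero_of_gen hM hne (isGen_one U) s ha
  · rw [h, zero_smul] at hc
    exact absurd (hom_eq_zero_of_gen hN hne (isGen_one U) t hc) ht

/-- **Counting sections.** -/
theorem h0_ge (n : ℕ) (hdim : topologicalKrullDim X = ((n + 1 : ℕ) : WithBot ℕ∞)) {κ d b : P X}
    (hd : d + κ = b) (hb : Amp b) (hg : GG b) (s : Coh.structureModule X ⟶ rep d) (hs : s ≠ 0) (hs' : ¬ IsIso s) :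
    n + 1 + h0 k κ ≤ h0 k b := by
  have hn := Fga.HypSec.isNoetherian k X
  -- the zero locus
  let T : Closeds X := ⟨(CohB1.genLocus _ s : Set X)ᶜ, (CohB1.genLocus _ s).isOpen.isClosed_compl⟩
  have hη : genericPoint X ∈ CohB1.genLocus _ s :=
    (genericPoint_spec X).mem_open_set_iff (CohB1.genLocus _ s).isOpen |>.mpr
      (by simpa using VarietyA.TwistExist.genLocus_nonempty (rep_inv d) s hs)
  obtain ⟨z₀, hz₀⟩ : ∃ z₀, z₀ ∉ CohB1.genLocus _ s := by
    by_contra hcon
    push Not at hcon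
    apply hs'
    rw [isIso_iff_isGen]
    exact (le_genLocus_iff s ⊤).1 (fun x _ => hcon x)
  have hT : topologicalKrullDim (T : Set X) = n := dim_zero k X (rep_inv d) s hη hz₀ n hdim
  let I := Scheme.IdealSheafData.vanishingIdeal T
  let ι := I.subschemeι
  have hrange : Set.range ι = (T : Set X) := by
    rw [Scheme.IdealSheafData.range_subschemeι]
    exact Scheme.IdealSheafData.coe_support_vanishingIdeal T
  have hdimZ : topologicalKrullDim I.subscheme = n := by
    rw [← hT, ← hrange]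
    exact IsHomeomorph.topologicalKrullDim_eq _ ι.isClosedEmbedding.isEmbedding.toHomeomorph.isHomeomorph
  -- multiplication by `s`
  have e0 : Nonempty (rep b ≅ CohB1.tensorMod (rep κ) (rep d)) := by
    have := rep_add κ d
    rwa [add_comm, hd] at this
  obtain ⟨e⟩ := e0
  let Φ : (Coh.structureModule X ⟶ rep κ) →ₗ[k] (Coh.structureModule X ⟶ rep b) :=
    (Linear.rightComp k _ e.inv) ∘ₗ prodLin k s
  have hΦ : ∀ u, Φ u = prodSec u s ≫ e.inv := fun u => rfl
  have hΦi : Function.Injective Φ := by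
    intro u v huv
    refine prodLin_injective k (rep_inv κ) (rep_inv d) s hs ?_
    have h1 : prodSec u s ≫ e.inv = prodSec v s ≫ e.inv := huv
    exact (cancel_mono e.inv).1 h1
  have := finite_sections k κ
  have := finite_sections k b
  let R := LinearMap.range Φ
  let B := Module.finBasis k (Coh.structureModule X ⟶ rep κ)
  let C := Module.finBasis k ((Coh.structureModule X ⟶ rep b) ⧸ R)
  have ht : ∀ i, ∃ t : (Coh.structureModule X ⟶ rep b), R.mkQ t = C i := fun i => R.mkQ_surjective (C i)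
  choose t ht using ht
  have hspan : ∀ w : Coh.structureModule X ⟶ rep b,
      w ∈ Submodule.span k (Set.range (Sum.elim t (fun j => Φ (B j)))) := by
    intro w
    have h1 : R.mkQ (w - ∑ i, C.repr (R.mkQ w) i • t i) = 0 := by
      rw [map_sub, map_sum, sub_eq_zero]
      conv_lhs => rw [← C.sum_repr (R.mkQ w)]
      exact Finset.sum_congr rfl fun i _ => by rw [map_smul, ht]
    rw [Submodule.mkQ_apply, Submodule.Quotient.mk_eq_zero] at h1
    obtain ⟨u, hu⟩ := h1
    have h2 : w = (∑ i, C.repr (R.mkQ w) i • t i) + Φ u := by rw [hu]; abel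
    rw [h2]
    refine Submodule.add_mem _ (Submodule.sum_mem _ fun i _ => Submodule.smul_mem _ _
      (Submodule.subset_span ⟨Sum.inl i, rfl⟩)) ?_
    rw [← B.sum_repr u, map_sum]
    refine Submodule.sum_mem _ fun i _ => ?_
    rw [map_smul]
    exact Submodule.smul_mem _ _ (Submodule.subset_span ⟨Sum.inr i, rfl⟩)
  have hgen : ∀ x, x ∉ CohB1.genLocus _ s → ∃ i, x ∈ CohB1.genLocus (rep b) (t i) := by
    intro x hx
    obtain ⟨j, hj⟩ := exists_mem_genLocus k (rep_inv b) hg _ hspan x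
    rcases j with i | j
    · exact ⟨i, hj⟩
    · exfalso
      apply hx
      have h1 : x ∈ CohB1.genLocus (rep b) (prodSec (B j) s ≫ e.symm.hom) := hj
      rw [genLocus_comp_iso] at h1
      exact genLocus_prodSec_le (rep_inv κ) (rep_inv d) _ _ h1
  have hr := Submodule.finrank_quotient_add_finrank R
  have hR : finrank k R = finrank k (Coh.structureModule X ⟶ rep κ) := LinearMap.finrank_range_of_inj hΦi
  rw [hR, finrank_sections, finrank_sections] at hr
  obtain ⟨i₀, -⟩ := hgen z₀ hz₀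
  obtain ⟨r, hr'⟩ : ∃ r, finrank k ((Coh.structureModule X ⟶ rep b) ⧸ R) = r + 1 :=
    ⟨finrank k ((Coh.structureModule X ⟶ rep b) ⧸ R) - 1, by have := i₀.pos; omega⟩
  let _ : I.subscheme.Over (Spec (CommRingCat.of k)) := ⟨ι ≫ (X ↘ Spec (CommRingCat.of k))⟩
  have hprop : IsProper (I.subscheme ↘ Spec (CommRingCat.of k)) :=
    inferInstanceAs (IsProper (ι ≫ (X ↘ Spec (CommRingCat.of k))))
  have hAmp : CohB1.IsAmple ((Scheme.Modules.pullback ι).obj (rep b)) :=
    Flat2H.FamOpen.isAmple_pullback_of_isAffineHom ι hb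
  have key := dim_le_of_sections k hAmp (n := r) (fun i => Weight.pullHom ι (t (finCongr hr'.symm i))) (fun z => ?_)
  · rw [hdimZ] at key
    have h3 : n ≤ r := by exact_mod_cast key
    omega
  · have h1 : ι z ∉ CohB1.genLocus _ s := by
      have h2 : ι z ∈ Set.range ι := ⟨z, rfl⟩
      rw [hrange] at h2
      exact h2
    obtain ⟨i, hi⟩ := hgen _ h1
    refine ⟨finCongr hr' i, ?_⟩
    rw [Weight.genLocus_pullHom ι (rep_inv b)]
    have h2 : finCongr hr'.symm (finCongr hr' i) = i := rfl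
    rw [h2]
    exact hi

end K800.DimCount
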