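import Groth.Agent.AdjLin.K800.Stat
import Groth.Agent.AdjLin.K800.DimCount

/-!
# The case of geometric genus at least two
-/

set_option autoImplicit false
universe u

open CategoryTheory CategoryTheory.Limits AlgebraicGeometry Opposite TopologicalSpace Module

namespace K800.Stat

open Groth.Agent Groth.Agent.CurvesB Groth.Agent.Ega2
open K800.MulMap K800.Cls K800.KosCrit K800.Crit K800.Main K800.Setup K800.Arith K800.Hopf K800.DimCount

theorem eff_of_pos (k : Type u) [Field k] {X : Scheme.{u}} [X.Over (Spec (CommRingCat.of k))]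
    [IsProper (X ↘ Spec (CommRingCat.of k))] {a : P X} (h : 0 < h0 k a) : Eff a := by
  by_contra hcon
  have h1 : ∀ s : Coh.structureModule X ⟶ rep a, s = 0 := fun s => by
    by_contra hs
    exact hcon ⟨s, hs⟩
  have h2 : Subsingleton (Coh.structureModule X ⟶ rep a) := ⟨fun s t => by rw [h1 s, h1 t]⟩
  have h3 := (K800.HomDim.secHom k (rep a)).toEquiv.subsingleton_congr.1 h2
  have h4 : h0 k a = 0 := finrank_zero_of_subsingleton
  omega

variable (k : Type u) [Field k] [IsAlgClosed k] {X : Scheme.{u}} [X.Over (Spec (CommRingCat.of k))]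
  [IsProper (X ↘ Spec (CommRingCat.of k))] [IsIntegral X] (n : ℕ)
  [SmoothOfRelativeDimension n (X ↘ Spec (CommRingCat.of k))]

theorem s59 (hkod : Kod X n) (hnef : NefAmple k X) (K : X.Modules)
    (hK : Canon.IsTopDiff (X ↘ Spec (CommRingCat.of k)) n K)
    (hn : 2 ≤ n) (hpg : 2 ≤ Module.finrank k (Coh.HH X K 0))
    (B : X.Modules) (hBa : CohB1.IsAmple B) (hBg : Curv2.IsGloballyGenerated B)
    (hKnef : ∀ (Y : Scheme.{u}) (i : Y ⟶ X) [IsClosedImmersion i], IsIntegral Y → topologicalKrullDim Y = 1 →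
      0 ≤ Pic13.curveDeg k (i ≫ (X ↘ Spec (CommRingCat.of k))) ((Scheme.Modules.pullback i).obj K))
    (D : X.Modules) (hD : Nonempty (CohB1.tensorMod D K ≅ B))
    (hDnef : ∀ (Y : Scheme.{u}) (i : Y ⟶ X) [IsClosedImmersion i], IsIntegral Y → topologicalKrullDim Y = 1 →
      0 ≤ Pic13.curveDeg k (i ≫ (X ↘ Spec (CommRingCat.of k))) ((Scheme.Modules.pullback i).obj D))
    (hDeff : ∃ s : Coh.structureModule X ⟶ D, s ≠ 0 ∧ ¬ IsIso s)
    (hKBg : Curv2.IsGloballyGenerated (CohB1.tensorMod K B))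
    (L : X.Modules) (hL : Nonempty (L ≅ CohB1.tensorMod K (CohB1.tensorPow B n))) :
    VAPN k X L := by
  have hKi := isInvertible_canon k n hK
  have rK := rep_cl hKi
  have rB := rep_cl hBa.1
  have rD := rep_of_tensor rK rB hD
  have rKB := rep_T rK rB
  obtain ⟨s, hs, hs'⟩ := hDeff
  obtain ⟨eD⟩ := rD
  obtain ⟨m, rfl⟩ : ∃ m, n = m + 1 := ⟨n - 1, by omega⟩
  have hdim := topologicalKrullDim_eq k (X ↘ Spec (CommRingCat.of k)) (m + 1)
  rw [← h0_eq k rK] at hpg
  have h1 := h0_ge k m hdim (κ := cl K hKi) (d := cl B hBa.1 - cl K hKi) (b := cl B hBa.1) (sub_add_cancel _ _)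
    ((amp_iff rB).2 hBa) ((gg_iff rB).2 hBg) (s ≫ eD.inv)
    (fun h => hs (by rw [← cancel_mono eD.inv, h, zero_comp]))
    (fun h => hs' ((isIso_comp_right_iff s eD.inv).1 h))
  have h2 := h0_add_le k (cl K hKi) (cl B hBa.1) (eff_of_pos k (by omega)) (eff_of_pos k (by omega))
  refine s51 k (m + 1) hkod hnef K hK hn B hBa hBg hKnef hKBg ?_ ?_ D hD hDnef ⟨s, hs⟩ (m + 1) le_rfl L hL
  · rw [← h0_eq k rB]
    omega
  · rw [← h0_eq k rK, ← h0_eq k rKB]
    omega

end K800.Stat
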