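import Groth.Agent.Pic13.H11.Amp
import Groth.Agent.AdjLin.K800.Stat2

/-!
# Euler characteristics of multiples of an ample class

`chi k a` the Euler characteristic of a class `a`; `D k c j a` its `j`-th difference in the direction `c`:
`D_pos` (positive for `j = dim X`, `c` ample), `D_zero` (zero for `j = dim X + 1`), `chi_dual` (Serre duality).
-/

set_option autoImplicit false
universe u

open CategoryTheory CategoryTheory.Limits AlgebraicGeometry Opposite TopologicalSpace Module

namespace K800.Diff

open Groth.Agent Groth.Agent.Ega2 Groth.Agent.Fga.PicMon Groth.Agent.Fdesc.LocGen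
open K800.MulMap K800.Cls K800.KosCrit K800.Crit K800.Main K800.Setup K800.Arith
open Groth.Agent.Pic13.H11

variable {X : Scheme.{u}}

/-- the class in the monoid of isomorphism classes -/
noncomputable def m (a : P X) : MC X := mc (rep a)

theorem m_eq {a : P X} {L : X.Modules} (h : Nonempty (rep a ≅ L)) : m a = mc L := by
  obtain ⟨e⟩ := h
  exact mc_eq e

theorem m_add (a b : P X) : m (a + b) = m a * m b := by
  obtain ⟨e⟩ := rep_add a b
  rw [m, mc_eq e, mc_tensor]
  rfl

theorem m_zero : m (0 : P X) = 1 := by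
  obtain ⟨e⟩ := rep_zero (X := X)
  rw [m, mc_eq e, mc_one]

section
variable (k : Type u) [Field k] [X.Over (Spec (CommRingCat.of k))]

/-- the Euler characteristic of a class -/
noncomputable def chi (a : P X) : ℤ := Cls.chi k (m a)

/-- iterated differences -/
noncomputable def D (c : P X) : ℕ → P X → ℤ
  | 0, a => chi k a
  | j + 1, a => D c j a - D c j (a - c)

theorem D_eq (c : P X) (j : ℕ) (a : P X) : D k c j a = Amp.G k (m (-c)) j (m a) := by
  induction j generalizing a with
  | zero => rfl
  | succ j ih =>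
    change D k c j a - D k c j (a - c) = Amp.G k (m (-c)) j (m a) - Amp.G k (m (-c)) j (m (-c) * m a)
    rw [ih, ih, ← m_add]
    congr 3
    abel

variable [IsProper (X ↘ Spec (CommRingCat.of k))]

omit [X.Over (Spec (CommRingCat.of k))] [IsProper (X ↘ Spec (CommRingCat.of k))] in
theorem supp_m {X : Scheme.{u}} (a : P X) : Cls.supp (m a) = Set.univ := by
  obtain ⟨u, hu⟩ := Cls.isUnit_mc (rep_inv a)
  have : m a = (u : MC X) := hu.symm
  rw [this]
  exact Amp.supp_unit u

include k in
theorem co_m (a : P X) : Cls.Co (m a) := by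
  obtain ⟨u, hu⟩ := Cls.isUnit_mc (rep_inv a)
  have : m a = (u : MC X) := hu.symm
  rw [this]
  have := Fga.IntAdd.isNoetherian k X
  exact Amp.co_unit u

omit [X.Over (Spec (CommRingCat.of k))] [IsProper (X ↘ Spec (CommRingCat.of k))] in
theorem dim_univ {X : Scheme.{u}} : topologicalKrullDim (Set.univ : Set X) = topologicalKrullDim X :=
  (Homeomorph.Set.univ X).isHomeomorph.topologicalKrullDim_eq

theorem D_pos (n : ℕ) (hd : topologicalKrullDim X = n) (c : P X) (hc : K800.Cls.Amp c) (a : P X) :
    0 < D k c n a := by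
  rw [D_eq]
  have h1 := Amp.G_pos k (H := rep c) hc n hd.le (co_m k a) n (by rw [supp_m, dim_univ, hd])
  have h2 : m (-c) = (((Cls.unit hc.1)⁻¹ : (MC X)ˣ) : MC X) := by
    have h3 : m (-c) * (Cls.unit hc.1 : MC X) = 1 := by
      rw [Cls.unit_val]
      change m (-c) * m c = 1
      rw [← m_add, neg_add_cancel, m_zero]
    exact Units.eq_inv_of_mul_eq_one_left ((mul_comm _ _).trans h3)
  rw [h2]
  exact h1

theorem D_zero (n : ℕ) (hd : topologicalKrullDim X = n) (c a : P X) : D k c (n + 1) a = 0 := by
  rw [D_eq, m, m, Amp.G_eq k n hd.le]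
  refine S3231.result k X n hd.le _ (fun _ => rep_inv _) _ ?_ ?_
  · exact co_m k a
  · have : topologicalKrullDim (CohB1.support (rep a)) = n := by
      have := supp_m a
      change CohB1.support (rep a) = Set.univ at this
      rw [this, dim_univ, hd]
    rw [this]
    exact_mod_cast Nat.lt_succ_self n

/-- **Serre duality** for Euler characteristics. -/
theorem chi_dual (n : ℕ) [SmoothOfRelativeDimension n (X ↘ Spec (CommRingCat.of k))]
    (hd : topologicalKrullDim X = n) {K : X.Modules}
    (hK : Canon.IsTopDiff (X ↘ Spec (CommRingCat.of k)) n K) (hKi : PicF.IsInvertible K) (a : P X) :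
    chi k (cl K hKi - a) = (-1) ^ n * chi k a := by
  have key : ∀ p i : ℕ, i + p = n → Cls.h k i (m (cl K hKi - a)) = Cls.h k p (m a) := by
    intro p i hpi
    have h1 := K461.SerreDual.finrank_eq k n hK (L := rep a) (L' := rep (-a)) (by
      obtain ⟨e⟩ := rep_neg_tensor (-a)
      rw [neg_neg] at e
      exact ⟨e⟩) (Groth.Agent.Ega2.QCohLocal.isQCoh_of_isInvertible (rep_inv a)) i p hpi
    have h2 : m (cl K hKi - a) = mc (CohB1.tensorMod K (rep (-a))) := by
      rw [sub_eq_add_neg, m_add, mc_tensor, m_eq (rep_iso (a := cl K hKi) rfl)]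
      rfl
    rw [h2]
    exact h1.symm
  have hV : ∀ b : P X, ∀ i, n < i → Cls.V i (m b) := fun b i hi =>
    Cls.V_of_dim k (co_m k b) (by rw [supp_m, dim_univ, hd]) hi
  unfold chi
  rw [Cls.chi_eq_sum k _ n (hV _), Cls.chi_eq_sum k _ n (hV _), ← Finset.sum_range_reflect, Finset.mul_sum]
  refine Finset.sum_congr rfl fun i hi => ?_
  rw [Finset.mem_range] at hi
  rw [key i (n + 1 - 1 - i) (by omega), ← mul_assoc, ← pow_add]
  congr 1
  rw [show n + i = (n + 1 - 1 - i) + 2 * i by omega, pow_add, pow_mul]
  simp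

theorem chi_eq_h0 {a : P X} (h : ∀ i, 1 ≤ i → Van a i) : chi k a = h0 k a :=
  Cls.chi_eq_h_zero k (c := m a) h

end

end K800.Diff
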