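import Groth.Agent.AdjLin.K800.FinOrd
import Groth.Agent.AdjLin.K680.End
import Groth.Agent.AdjLin.K369.Loc
import Groth.Agent.AdjLin.K134.JacStalk
import Groth.Agent.AdjLin.K699.KVInv
import Groth.Agent.AdjLin.K800.Setup
import Groth.Agent.Ega2.SmoothBdry
import Groth.Agent.GIT.K98.SmGeom
import Groth.Agent.Resolve.K588.Step
import Groth.Agent.Surf.K457.BlowMult

/-!
# The nodes NEnd and NFin of the Fujita freeness plan
-/

set_option autoImplicit false
universe u

open CategoryTheory CategoryTheory.Limits AlgebraicGeometry TopologicalSpace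

namespace K800.Fin

open K633.Fuj Groth.Agent Groth.Agent.Divis.CartierBasic K800.FinOrd

variable {k : Type u} [Field k] {X : Scheme.{u}} {p : X ⟶ Spec (CommRingCat.of k)} {n : ℕ} {L : X.Modules}

/-! ### A model is smooth of relative dimension `n` -/

theorem relDim [SmoothOfRelativeDimension n p] (M : Model p) : SmoothOfRelativeDimension n (M.μ ≫ p) := by
  obtain ⟨V, ⟨v, hv⟩, hiso⟩ := M.bir
  have hsm := M.smooth
  obtain ⟨y, rfl⟩ := K588.Bir.exists_of_isIso_restrict M.μ hiso hv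
  have h1 : (M.μ ⁻¹ᵁ V).ι ≫ M.μ ≫ p = (M.μ ∣_ V ≫ V.ι) ≫ p := by
    rw [morphismRestrict_ι, Category.assoc]
  have h2 : SmoothOfRelativeDimension n ((M.μ ⁻¹ᵁ V).ι ≫ M.μ ≫ p) := by
    rw [h1]
    have h3 : SmoothOfRelativeDimension (0 + n) ((M.μ ∣_ V ≫ V.ι) ≫ p) := inferInstance
    rwa [zero_add] at h3
  refine Ega2.SmoothBdry.smoothOfRelativeDimension_of_dense (M.μ ⁻¹ᵁ V).ι (M.μ ≫ p) n ?_
  have h3 : Set.range (M.μ ⁻¹ᵁ V).ι.base = (M.μ ⁻¹ᵁ V : Set M.Y) := (M.μ ⁻¹ᵁ V).range_ι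
  rw [h3]
  exact (M.μ ⁻¹ᵁ V).2.dense ⟨y, hv⟩

theorem isProper (M : Model p) (hp : RelProj.IsHProjective p) : IsProper M.μ := by
  have h1 : IsProper (M.μ ≫ p) := K588.Step.isProper_of_isHProjective M.proj
  have h2 : IsProper p := K588.Step.isProper_of_isHProjective hp
  exact IsProper.of_comp M.μ p

/-! ### Orders -/

theorem stalkIdeal_E_gp (M : Model p) (i : Fin M.r) :
    stalkIdeal (M.E i) (M.gp i) = IsLocalRing.maximalIdeal (M.Y.presheaf.stalk (M.gp i)) := by
  have h := K457.BlowMult.stalkIdeal_generic (M.E i).subschemeι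
  rw [Scheme.IdealSheafData.ker_subschemeι] at h
  exact h

theorem le_pow_idOrd {R : Type u} [CommRing R] [IsLocalRing R] (I : Ideal R) :
    I ≤ IsLocalRing.maximalIdeal R ^ idOrd I := by
  by_cases h : BddAbove {m : ℕ | I ≤ IsLocalRing.maximalIdeal R ^ m}
  · exact Nat.sSup_mem ⟨0, by simp⟩ h
  · rw [idOrd, csSup_of_not_bddAbove h]
    simp

theorem not_le_pow_idOrd {R : Type u} [CommRing R] [IsLocalRing R] [IsNoetherianRing R] (I : Ideal R) (hI : I ≠ ⊥) :
    ¬ I ≤ IsLocalRing.maximalIdeal R ^ (1 + idOrd I) := by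
  intro h
  by_cases hb : BddAbove {m : ℕ | I ≤ IsLocalRing.maximalIdeal R ^ m}
  · have h1 : 1 + idOrd I ≤ idOrd I := le_csSup hb h
    omega
  · apply hI
    rw [eq_bot_iff]
    intro a ha
    have h2 : a ∈ (⨅ i : ℕ, IsLocalRing.maximalIdeal R ^ i : Ideal R) := by
      rw [Ideal.mem_iInf]
      intro i
      rw [not_bddAbove_iff] at hb
      obtain ⟨m, hm, hi⟩ := hb i
      exact Ideal.pow_le_pow_right hi.le (hm ha)
    rwa [Ideal.iInf_pow_eq_bot_of_isLocalRing _ (IsLocalRing.maximalIdeal.isMaximal R).ne_top] at h2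

/-! ### NEnd -/

theorem nEnd (C : Ctx p n L) : NEnd p n L := by
  classical
  intro M x hx ω ω' hω hω' e l h1 h2 h3 hH
  have hint := C.int
  have hsm := C.smooth
  have hpp : IsProper p := K588.Step.isProper_of_isHProjective C.proj
  have hμ := isProper M C.proj
  have hrd : SmoothOfRelativeDimension n (M.μ ≫ p) := relDim M
  have hsY := M.smooth
  have hsX : Smooth p := SmoothOfRelativeDimension.smooth n p
  have hN : IsLocallyNoetherian X := LocallyOfFiniteType.isLocallyNoetherian p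
  have hNY : IsLocallyNoetherian M.Y := LocallyOfFiniteType.isLocallyNoetherian (M.μ ≫ p)
  have hnorm : ∀ x : X, IsIntegrallyClosed (X.presheaf.stalk x) := fun x => K98.SmGeom.normal_stalk p x
  have hE : BlowUp.IsEffCartierIdeal (M.mon e) := K699.KV.isEff_ncd M.snc e
  have hEi : ∀ i, BlowUp.IsEffCartierIdeal (M.E i) := fun i => K911.Ncd.isEff_of_isNCD M.snc i
  have hJ : BlowUp.IsEffCartierIdeal M.J := K134.JacCart.isEff_jac_of_isBir n M.μ p M.bir
  have hη : Function.Surjective (M.μ.stalkMap (genericPoint M.Y)) :=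
    ((ConcreteCategory.isIso_iff_bijective _).1 (K134.JacRat.isIso_stalkMap_generic M.bir)).2
  have hiso := K134.JacStalk.exists_iso n M.μ p hη hω hω'
  -- the good open
  let U : X.Opens := ⟨(⋃ i : {i : Fin M.r // ¬ M.c i ⤳ x}, closure {M.c i.1})ᶜ,
    (isClosed_iUnion_of_finite fun _ => isClosed_closure).isOpen_compl⟩
  have hxU : x ∈ U := by
    change x ∈ (_ : Set X)ᶜ
    rw [Set.mem_compl_iff, Set.mem_iUnion]
    rintro ⟨i, hi⟩
    exact i.2 (specializes_iff_mem_closure.2 hi)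
  have hU : ∀ i (z : X), z ∈ U → M.c i ⤳ z → M.c i ⤳ x := by
    intro i z hz hi
    by_contra hn
    exact hz (Set.mem_iUnion.2 ⟨⟨i, hn⟩, specializes_iff_mem_closure.1 hi⟩)
  refine K680.End.exists_gen hnorm M.μ M.bir (K455.Canon.isInvertible p n hω)
    (K455.Canon.isInvertible (M.μ ≫ p) n hω') (Fdesc.LocGen.isInvertible_tensorPow C.ample.1 l) hE hJ
    (fun V hV y hy => K134.JacCart.notMem_support_of_isIso M.μ V y hy) hiso hH x hx U hxU ?_ ?_
  · intro y hyU hyx
    refine le_prod_pow M.E hEi M.inj M.J e y fun i hi => ?_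
    have hs : M.c i ⤳ M.μ y := (gpt_specializes (M.E i) hi).map M.μ.continuous
    have hcx : M.c i ⤳ x := hU i _ hyU hs
    have hne : M.c i ≠ x := by
      intro h
      rw [h] at hs
      exact hyx (hs.mem_closed hx rfl)
    have hle : e i ≤ ord M.J (M.gp i) := by
      have h4 := h1 i hcx
      have h5 : e i ≠ M.A i := fun h => hne (h2 i hcx h)
      have h6 : M.A i = 1 + ord M.J (M.gp i) := rfl
      omega
    have h7 := le_pow_idOrd (stalkIdeal M.J (M.gp i))
    have h8 := stalkIdeal_E_gp M i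
    change stalkIdeal M.J (M.gp i) ≤ stalkIdeal (M.E i) (M.gp i) ^ e i
    rw [h8]
    exact h7.trans (Ideal.pow_le_pow_right hle)
  · obtain ⟨i, hci, hei⟩ := h3
    refine ⟨M.gp i, hci, fun hle => ?_⟩
    have hne : stalkIdeal M.J (M.gp i) ≠ ⊥ := by
      obtain ⟨g, hg, hgJ⟩ := exists_stalkIdeal_eq_span hJ (M.gp i)
      rw [hgJ, Ne, Ideal.span_singleton_eq_bot]
      exact nonZeroDivisors.ne_zero hg
    apply not_le_pow_idOrd (stalkIdeal M.J (M.gp i)) hne
    refine hle.trans ?_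
    rw [Model.mon, ← Finset.prod_erase_mul _ _ (Finset.mem_univ i), stalkIdeal_mul, stalkIdeal_pow,
      stalkIdeal_E_gp, hei]
    exact Ideal.mul_le_right

/-! ### NFin -/

theorem nFin (C : Ctx p n L) (hV : NVanG p n L) : NFin p n L := by
  intro M B x hx hmon hnn hc h0 ω hω l hl
  have hsm := C.smooth
  have hpp : IsProper p := K588.Step.isProper_of_isHProjective C.proj
  have hμ := isProper M C.proj
  have hrd : SmoothOfRelativeDimension n (M.μ ≫ p) := relDim M
  obtain ⟨ω', hω', -⟩ := K455.Canon.exists_canonical (M.μ ≫ p) n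
  have hB : ∀ i, 0 ≤ B.o M i := fun i =>
    Finset.sum_nonneg fun j _ => mul_nonneg (B.nonneg j) (Nat.cast_nonneg _)
  refine nEnd C M x hx ω ω' hω hω' (fun i => ⌊B.o M i⌋₊) l ?_ ?_ ?_
    (hV M B hmon _ (fun _ => rfl) ω' hω' l hl 1 le_rfl)
  · intro i hi
    refine Nat.floor_le_of_le ?_
    have := hnn i hi
    rw [Bd.ld] at this
    linarith
  · intro i hi he
    refine hc i hi (le_antisymm ?_ (hnn i hi))
    rw [Bd.ld, ← he]
    have := Nat.floor_le (hB i)
    linarith
  · obtain ⟨i, hi, h⟩ := h0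
    refine ⟨i, hi, ?_⟩
    rw [Bd.ld, sub_eq_zero] at h
    rw [← h, Nat.floor_natCast]

end K800.Fin
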