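import Groth.Agent.AdjLin.K633.Plan
import Groth.Agent.Divis.StalkPrime
import Groth.Agent.Divis.StalkAssoc
import Groth.Agent.CurvesC.TailUnion
import Groth.Agent.Vanish.K911.Ncd
import Groth.Agent.AdjLin.K134.JacCart

/-!
# Divisibility by a monomial ideal is checked at the generic points of the components

`E_i` different prime divisors (integral effective Cartier ideals), `I` an effective Cartier ideal, `y` a point: if
`I ≤ E_i ^ (e i)` at the generic point of `E_i` for all `i` with `y ∈ E_i`, then `I_y ≤ (∏ E_i ^ (e i))_y`.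
-/

set_option autoImplicit false
universe u
open CategoryTheory CategoryTheory.Limits AlgebraicGeometry TopologicalSpace

namespace K800.FinOrd

open Groth.Agent.Divis.CartierBasic Groth.Agent.Divis.StalkPrime Groth.Agent.Divis.StalkAssoc
open Groth.Agent.CycB.LocQuot

variable {Y : Scheme.{u}}

/-- the generic point of an integral closed subscheme -/
noncomputable abbrev gpt (E : Y.IdealSheafData) [IsIntegral E.subscheme] : Y :=
  E.subschemeι (genericPoint E.subscheme)

theorem gpt_specializes (E : Y.IdealSheafData) [IsIntegral E.subscheme] {y : Y} (hy : y ∈ E.support) :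
    gpt E ⤳ y := by
  have hy' : y ∈ Set.range E.subschemeι := by rw [E.range_subschemeι]; exact hy
  obtain ⟨z, rfl⟩ := hy'
  exact (genericPoint_specializes z).map E.subschemeι.continuous

theorem gpt_mem (E : Y.IdealSheafData) [IsIntegral E.subscheme] : gpt E ∈ E.support := by
  have : gpt E ∈ Set.range E.subschemeι := ⟨_, rfl⟩
  rwa [E.range_subschemeι] at this

theorem support_eq (E : Y.IdealSheafData) [IsIntegral E.subscheme] : (E.support : Set Y) = closure {gpt E} := by
  refine Set.Subset.antisymm (fun y hy => (gpt_specializes E hy).mem_closure) ?_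
  exact closure_minimal (Set.singleton_subset_iff.2 (gpt_mem E)) E.support.isClosed

/-- integral closed subschemes with the same generic point are equal -/
theorem eq_of_gpt (E E' : Y.IdealSheafData) [IsIntegral E.subscheme] [IsIntegral E'.subscheme]
    (h : gpt E = gpt E') : E = E' := by
  rw [Groth.Agent.CurvesC.TailUnion.eq_vanishingIdeal E, Groth.Agent.CurvesC.TailUnion.eq_vanishingIdeal E']
  congr 1
  ext1
  rw [support_eq, support_eq, h]

theorem ker_specMap (E : Y.IdealSheafData) [IsIntegral E.subscheme] {y : Y} (hy : y ∈ E.support) (h : gpt E ⤳ y) :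
    RingHom.ker (Cyc.specMap y (gpt E) h) = stalkIdeal E y := by
  have key : ∀ (ξ : Y) (h : ξ ⤳ y), ξ = ptOf ⟨stalkIdeal E y, isPrime_stalkIdeal E hy⟩ →
      RingHom.ker (Cyc.specMap y ξ h) = stalkIdeal E y := by
    rintro _ h rfl
    have h1 := primeOf_ptOf (X := Y) (x := y) ⟨stalkIdeal E y, isPrime_stalkIdeal E hy⟩
    exact (primeOf_asIdeal h).symm.trans (congrArg PrimeSpectrum.asIdeal h1)
  exact key _ h (ptOf_stalkIdeal E hy).symm

/-- divisibility by a power of a prime divisor is checked at its generic point -/
theorem le_pow_of_gpt (E : Y.IdealSheafData) [IsIntegral E.subscheme] (I : Y.IdealSheafData) {y : Y}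
    [IsDomain (Y.presheaf.stalk y)] (hy : y ∈ E.support) {f : Y.presheaf.stalk y} (hf : stalkIdeal E y = Ideal.span {f})
    (hp : Prime f) (a : ℕ) (h : stalkIdeal I (gpt E) ≤ stalkIdeal E (gpt E) ^ a) :
    ∀ j ∈ stalkIdeal I y, f ^ a ∣ j := by
  intro j hj
  have hs := gpt_specializes E hy
  let := (Y.presheaf.stalkSpecializes hs).hom.toAlgebra
  have hloc := isLocalization_stalkSpecializes hs
  have h1 : algebraMap (Y.presheaf.stalk y) (Y.presheaf.stalk (gpt E)) j ∈
      (stalkIdeal E y ^ a).map (algebraMap (Y.presheaf.stalk y) (Y.presheaf.stalk (gpt E))) := by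
    rw [Ideal.map_pow]
    have h2 : (stalkIdeal E y).map (algebraMap (Y.presheaf.stalk y) (Y.presheaf.stalk (gpt E))) =
      stalkIdeal E (gpt E) := stalkIdeal_map_stalkSpecializes E hs
    rw [h2]
    refine h ?_
    rw [← stalkIdeal_map_stalkSpecializes I hs]
    exact Ideal.mem_map_of_mem _ hj
  rw [IsLocalization.algebraMap_mem_map_algebraMap_iff (RingHom.ker (Cyc.specMap y (gpt E) hs)).primeCompl] at h1
  obtain ⟨s, hs', h3⟩ := h1
  have hs'' : s ∉ stalkIdeal E y := by
    have := hs'
    rw [← ker_specMap E hy hs]
    exact this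
  rw [hf, Ideal.span_singleton_pow, Ideal.mem_span_singleton] at h3
  rw [hf, Ideal.mem_span_singleton] at hs''
  exact hp.pow_dvd_of_dvd_mul_left a hs'' h3

/-- **Divisibility by a monomial.** -/
theorem le_prod_pow [IsIntegral Y] {r : ℕ} (E : Fin r → Y.IdealSheafData) (hE : ∀ i, BlowUp.IsEffCartierIdeal (E i))
    [∀ i, IsIntegral (E i).subscheme] (hinj : Function.Injective E) (I : Y.IdealSheafData) (e : Fin r → ℕ) (y : Y)
    (h : ∀ i, y ∈ (E i).support → stalkIdeal I (gpt (E i)) ≤ stalkIdeal (E i) (gpt (E i)) ^ e i) :
    stalkIdeal I y ≤ stalkIdeal (∏ i, E i ^ e i) y := by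
  choose g hg hgE using fun i => exists_stalkIdeal_eq_span (hE i) y
  have hprime : ∀ i, y ∈ (E i).support → Prime (g i) := by
    intro i hi
    have h1 := isPrime_stalkIdeal (E i) hi
    rw [hgE i] at h1
    exact (Ideal.span_singleton_prime (nonZeroDivisors.ne_zero (hg i))).1 h1
  have hunit : ∀ i, y ∉ (E i).support → IsUnit (g i) := by
    intro i hi
    rw [notMem_support_iff_stalkIdeal_eq_top, hgE i, Ideal.span_singleton_eq_top] at hi
    exact hi
  have key : ∀ (s : Finset (Fin r)) (j : Y.presheaf.stalk y), j ∈ stalkIdeal I y → (∏ i ∈ s, g i ^ e i) ∣ j := by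
    intro s
    induction s using Finset.induction_on with
    | empty => intro j _; simp
    | insert a s ha ih =>
      intro j hj
      rw [Finset.prod_insert ha]
      by_cases hy : y ∈ (E a).support
      · obtain ⟨c, hc⟩ := ih j hj
        have h1 := le_pow_of_gpt (E a) I hy (hgE a) (hprime a hy) (e a) (h a hy) j hj
        rw [hc] at h1
        have h2 : ¬ g a ∣ ∏ i ∈ s, g i ^ e i := by
          rw [(hprime a hy).dvd_finsetProd_iff]
          rintro ⟨b, hb, hd⟩
          have h3 := (hprime a hy).dvd_of_dvd_pow hd
          by_cases hyb : y ∈ (E b).support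
          · have h4 := ((hprime a hy).dvd_prime_iff_associated (hprime b hyb)).1 h3
            have h5 : stalkIdeal (E a) y = stalkIdeal (E b) y := by
              rw [hgE a, hgE b]
              exact Ideal.span_singleton_eq_span_singleton.2 h4
            have h6 : gpt (E a) = gpt (E b) := by
              rw [gpt, gpt, ← ptOf_stalkIdeal (E a) hy, ← ptOf_stalkIdeal (E b) hyb]
              congr 1
              exact PrimeSpectrum.ext h5
            have h7 := hinj (eq_of_gpt _ _ h6)
            exact ha (h7 ▸ hb)
          · exact (hprime a hy).not_isUnit (isUnit_of_dvd_unit h3 (hunit b hyb))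
        have h3 := (hprime a hy).pow_dvd_of_dvd_mul_left (e a) h2 h1
        rw [hc, mul_comm (g a ^ e a)]
        exact mul_dvd_mul_left _ h3
      · have h1 : IsUnit (g a ^ e a) := (hunit a hy).pow _
        rw [h1.mul_left_dvd]
        exact ih j hj
  intro j hj
  have h1 : stalkIdeal (∏ i, E i ^ e i) y = Ideal.span {∏ i, g i ^ e i} := by
    have : ∀ s : Finset (Fin r), stalkIdeal (∏ i ∈ s, E i ^ e i) y = Ideal.span {∏ i ∈ s, g i ^ e i} := by
      intro s
      induction s using Finset.induction_on with
      | empty =>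
        rw [Finset.prod_empty, Finset.prod_empty, Ideal.span_singleton_one]
        exact stalkIdeal_top y
      | insert a s ha ih =>
        rw [Finset.prod_insert ha, Finset.prod_insert ha, stalkIdeal_mul, stalkIdeal_pow, ih, hgE a,
          Ideal.span_singleton_pow, Ideal.span_singleton_mul_span_singleton]
    exact this _
  rw [h1, Ideal.mem_span_singleton]
  exact key _ j hj

end K800.FinOrd
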