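import Groth.Agent.AdjLin.K800.Main

/-!
# Hopf's lemma: `h⁰(a) + h⁰(b) ≤ h⁰(a + b) + 1` for effective classes
-/

set_option autoImplicit false
universe u

open CategoryTheory CategoryTheory.Limits AlgebraicGeometry Opposite TopologicalSpace Module

namespace K800.Hopf

section Alg

variable {k : Type*} [Field k] {A : Type*} [CommRing A] [IsDomain A] [Algebra k A]

theorem finrank_add_le (hpt : ∀ a : A, a ≠ 0 → ∃ χ : A →ₐ[k] k, χ a ≠ 0)
    {V W U : Type*} [AddCommGroup V] [Module k V] [FiniteDimensional k V] [AddCommGroup W] [Module k W]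
    [FiniteDimensional k W] [AddCommGroup U] [Module k U] [FiniteDimensional k U]
    (jV : V →ₗ[k] A) (hjV : Function.Injective jV) (jW : W →ₗ[k] A) (hjW : Function.Injective jW)
    (jU : U →ₗ[k] A) (hjU : Function.Injective jU) (μ : V → W → U)
    (hμ : ∀ v w, jU (μ v w) = jV v * jW w) [Nontrivial V] [Nontrivial W] :
    finrank k V + finrank k W ≤ finrank k U + 1 := by
  classical
  obtain ⟨w0, hw0⟩ := exists_ne (0 : W)
  have ha0 : jW w0 ≠ 0 := fun h => hw0 (hjW (by rw [h, map_zero]))
  let jF : k →ₗ[k] A := LinearMap.toSpanSingleton k A (jW w0)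
  have hjF : Function.Injective jF := by
    rw [injective_iff_map_eq_zero]
    intro c hc
    have h1 : c • jW w0 = 0 := hc
    rcases smul_eq_zero.1 h1 with h | h
    · exact h
    · exact absurd h ha0
  have hspan := K800.Green.span_points hpt jV hjV jF hjF
  obtain ⟨s, hs, hspan', hli⟩ := exists_linearIndependent k
    {e : Dual k V | ∃ χ : A →ₐ[k] k, (∃ f, χ (jF f) ≠ 0) ∧ e = χ.toLinearMap ∘ₗ jV}
  rw [hspan] at hspan'
  let B : Basis s k (Dual k V) := Basis.mk hli (by rw [Subtype.range_coe, hspan'])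
  have : Finite s := hli.finite_of_isNoetherian
  have : Fintype s := Fintype.ofFinite s
  let b : Basis s k V := B.dualBasis.map (evalEquiv k V).symm
  have hb : ∀ i j : s, (i : Dual k V) (b j) = if i = j then 1 else 0 := by
    intro i j
    have h1 : (i : Dual k V) = B i := by simp [B]
    rw [h1]
    have h2 : b j = (evalEquiv k V).symm (B.dualBasis j) := by simp [b]
    rw [h2]
    have h3 : (B i) ((evalEquiv k V).symm (B.dualBasis j)) = (B.dualBasis j) (B i) := by
      have := Module.apply_evalEquiv_symm_apply (R := k) (M := V) (B i) (B.dualBasis j)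
      exact this
    rw [h3, Basis.dualBasis_apply_self]
  have hcard : Fintype.card s = finrank k V := by
    rw [Module.finrank_eq_card_basis b]
  have hχ : ∀ i : s, ∃ χ : A →ₐ[k] k, χ (jW w0) ≠ 0 ∧ (∀ v, (i : Dual k V) v = χ (jV v)) := by
    intro i
    obtain ⟨χ, ⟨f, hf⟩, he⟩ := hs i.2
    refine ⟨χ, ?_, fun v => by rw [he]; rfl⟩
    intro h0
    apply hf
    change χ (f • jW w0) = 0
    rw [map_smul, h0, smul_zero]
  choose χ hχ0 hχ1 using hχ
  have hpos : 0 < Fintype.card s := by rw [hcard]; exact finrank_pos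
  obtain ⟨i0⟩ : Nonempty s := Fintype.card_pos_iff.1 hpos
  let s' := {i : s // i ≠ i0}
  have hcard' : Fintype.card s' + 1 = finrank k V := by
    have : Fintype.card s' = Fintype.card s - 1 := by
      simp only [s', ne_eq, Fintype.card_subtype_compl, Fintype.card_unique]
    omega
  let ev : U →ₗ[k] (s' → k) := LinearMap.pi (fun i => (χ i.1).toLinearMap ∘ₗ jU)
  have hev : Function.Surjective ev := by
    rw [← LinearMap.range_eq_top, eq_top_iff, ← (Pi.basisFun k s').span_eq, Submodule.span_le]
    rintro _ ⟨i, rfl⟩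
    refine ⟨(χ i.1 (jW w0))⁻¹ • μ (b i.1) w0, ?_⟩
    ext j
    change χ j.1 (jU ((χ i.1 (jW w0))⁻¹ • μ (b i.1) w0)) = _
    rw [map_smul, hμ, map_smul, map_mul, ← hχ1, hb, Pi.basisFun_apply]
    by_cases hij : j = i
    · subst hij
      rw [if_pos rfl, one_mul, Pi.single_eq_same, smul_eq_mul, inv_mul_cancel₀ (hχ0 _)]
    · rw [if_neg (fun h => hij (Subtype.ext h)), zero_mul, smul_zero, Pi.single_eq_of_ne hij]
  have hv0 : jV (b i0) ≠ 0 := fun h => b.ne_zero i0 (hjV (by rw [h, map_zero]))
  let g : W →ₗ[k] U := (LinearEquiv.ofInjective jU hjU).symm.toLinearMap ∘ₗ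
    LinearMap.codRestrict (LinearMap.range jU) (LinearMap.mulLeft k (jV (b i0)) ∘ₗ jW)
      (fun w => ⟨μ (b i0) w, hμ _ _⟩)
  have hg : ∀ w, jU (g w) = jV (b i0) * jW w := by
    intro w
    have h1 : (LinearEquiv.ofInjective jU hjU) (g w) =
      LinearMap.codRestrict (LinearMap.range jU) (LinearMap.mulLeft k (jV (b i0)) ∘ₗ jW)
      (fun w => ⟨μ (b i0) w, hμ _ _⟩) w := LinearEquiv.apply_symm_apply _ _
    exact congrArg Subtype.val h1
  have hgi : Function.Injective g := by
    rw [injective_iff_map_eq_zero]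
    intro w hw
    have h1 := hg w
    rw [hw, map_zero] at h1
    rcases mul_eq_zero.1 h1.symm with h | h
    · exact absurd h hv0
    · exact hjW (by rw [h, map_zero])
  have hgk : ∀ w, g w ∈ LinearMap.ker ev := by
    intro w
    rw [LinearMap.mem_ker]
    ext j
    change χ j.1 (jU (g w)) = 0
    rw [hg, map_mul, ← hχ1, hb, if_neg j.2, zero_mul]
  have h1 : finrank k W ≤ finrank k (LinearMap.ker ev) :=
    LinearMap.finrank_le_finrank_of_injective (f := LinearMap.codRestrict (LinearMap.ker ev) g hgk)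
      (fun x y hxy => hgi (congrArg Subtype.val hxy))
  have h2 := LinearMap.finrank_range_add_finrank_ker ev
  rw [LinearMap.range_eq_top.2 hev, finrank_top, finrank_fintype_fun_eq_card] at h2
  omega

end Alg

open K800.MulMap K800.Cls K800.KosCrit K800.Crit K800.Main K800.Embed
open Groth.Agent.Fdesc.LocGen Groth.Agent.CurvesC Groth.Agent.Ega2 Groth.Agent.VarietyB.DimSch

attribute [local instance] LinMod.linearModules secAlgebra

section

variable {X : Scheme.{u}}

/-- The product of two sections. -/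
noncomputable def prodSec {M N : X.Modules} (s : Coh.structureModule X ⟶ M) (t : Coh.structureModule X ⟶ N) :
    Coh.structureModule X ⟶ CohB1.tensorMod M N :=
  (Tens.runit (Coh.structureModule X)).inv ≫ Tens.mapT s t

theorem sec_prodSec {M N : X.Modules} (s : Coh.structureModule X ⟶ M) (t : Coh.structureModule X ⟶ N)
    (U : X.Opens) : sec (prodSec s t) U = Tens.tmul (sec s U) (sec t U) := by
  have h1 : sec (prodSec s t) U = (Tens.mapT s t).app U ((Tens.runit (Coh.structureModule X)).inv.app U (one U)) := rfl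
  rw [h1, Tens.runit_inv_app, Tens.mapT_tmul]
  rfl

end

variable {X : Scheme.{u}} (k : Type u) [Field k] [IsAlgClosed k] [X.Over (Spec (CommRingCat.of k))]
  [IsProper (X ↘ Spec (CommRingCat.of k))] [IsIntegral X]

omit [IsIntegral X] in
theorem finrank_pos_of_eff {a : P X} (ha : Eff a) : Nontrivial (Coh.structureModule X ⟶ rep a) := by
  obtain ⟨s, hs⟩ := ha
  exact ⟨s, 0, hs⟩

theorem h0_add_le (a b : P X) (ha : Eff a) (hb : Eff b) : h0 k a + h0 k b ≤ h0 k (a + b) + 1 := by
  obtain ⟨x⟩ : Nonempty X := inferInstance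
  obtain ⟨U₁, t₁, hx₁, ht₁⟩ := (isInvertible_iff _).1 (rep_inv a) x
  obtain ⟨U₂, l₂, hx₂, hl₂⟩ := (isInvertible_iff _).1 (rep_inv b) x
  obtain ⟨U, hU, hxU, hUle⟩ := exists_isAffineOpen_mem_and_subset (U := U₁ ⊓ U₂) (x := x) ⟨hx₁, hx₂⟩
  have le₁ : U ≤ U₁ := fun y hy => (hUle hy).1
  have le₂ : U ≤ U₂ := fun y hy => (hUle hy).2
  have hne : (U : Set X).Nonempty := ⟨x, hxU⟩
  have : Nonempty U := ⟨⟨x, hxU⟩⟩
  have : Algebra.FiniteType k Γ(X, U) := toSections_finiteType k X hU
  have ht := ht₁.res le₁
  have hl := hl₂.res le₂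
  have htl := IsGen.tmul ht hl
  have : Nontrivial (Coh.structureModule X ⟶ rep a) := finrank_pos_of_eff ha
  have : Nontrivial (Coh.structureModule X ⟶ rep b) := finrank_pos_of_eff hb
  have := finite_sections k a
  have := finite_sections k b
  have hTi : PicF.IsInvertible (CohB1.tensorMod (rep a) (rep b)) := isInvertible_tensorMod (rep_inv a) (rep_inv b)
  have hsw : Module.Finite k (Coh.HH X (CohB1.tensorMod (rep a) (rep b)) 0) := by
    have := finite_rep k (a + b) 0
    obtain ⟨e⟩ := rep_add a b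
    exact Module.Finite.equiv (HHcongr k e 0)
  have hfU : Module.Finite k (Coh.structureModule X ⟶ CohB1.tensorMod (rep a) (rep b)) :=
    Module.Finite.equiv (K800.HomDim.secHom k (CohB1.tensorMod (rep a) (rep b))).symm
  have key := finrank_add_le (k := k) (A := Γ(X, U)) (fun a ha => K800.Green.exists_point a ha)
    (jF k (one U) ht (M := Coh.structureModule X)) (jF_injective k (rep_inv a) hne (isGen_one U) ht)
    (jF k (one U) hl (M := Coh.structureModule X)) (jF_injective k (rep_inv b) hne (isGen_one U) hl)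
    (jF k (one U) htl (M := Coh.structureModule X)) (jF_injective k hTi hne (isGen_one U) htl)
    (fun s t => prodSec s t) (fun s t => ?_)
  · rw [finrank_sections, finrank_sections] at key
    rw [h0_eq k (rep_add a b), ← (K800.HomDim.secHom k (CohB1.tensorMod (rep a) (rep b))).finrank_eq]
    exact key
  · change coef htl (sec (prodSec s t) U) = coef ht (sec s U) * coef hl (sec t U)
    rw [sec_prodSec]
    conv_lhs => rw [← coef_smul_self ht (sec s U), ← coef_smul_self hl (sec t U)]
    rw [Tens.smul_tmul, Tens.tmul_smul, smul_smul, map_smul]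
    have h1 : coef htl (Tens.tmul (res (rep a) le₁ t₁) (res (rep b) le₂ l₂)) = 1 := by
      apply htl.ext
      rw [coef_smul_self, one_smul]
      rfl
    rw [h1, smul_eq_mul, mul_one]

end K800.Hopf
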