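import Groth.Agent.AdjLin.K800.NefIn
import Groth.Agent.S16888

/-!
# Kodaira vanishing
-/

set_option autoImplicit false
universe u

open CategoryTheory CategoryTheory.Limits AlgebraicGeometry Opposite TopologicalSpace Module

namespace K800.Inputs

open Groth.Agent K800.Setup K800.Stat Groth.Agent.Ega2

variable (k : Type u) [Field k] [IsAlgClosed k] (X : Scheme.{u}) [X.Over (Spec (CommRingCat.of k))]
  [IsProper (X ↘ Spec (CommRingCat.of k))] [IsIntegral X] (n : ℕ)
  [SmoothOfRelativeDimension n (X ↘ Spec (CommRingCat.of k))]

theorem kod [CharZero k] : Kod X n := by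
  intro L Linv hL hinv b hb
  have : Smooth (X ↘ Spec (CommRingCat.of k)) := SmoothOfRelativeDimension.smooth n _
  exact S16888.result k X n (topologicalKrullDim_eq k (X ↘ Spec (CommRingCat.of k)) n) L Linv hL hinv b hb

end K800.Inputs
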