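import Groth.Agent.AdjLin.K800.KosExact
import Groth.Agent.Ega3B.SectExact

/-!
# Surjectivity on global sections from the ordered Koszul complex
-/

set_option autoImplicit false
universe u

open CategoryTheory CategoryTheory.Limits AlgebraicGeometry Opposite TopologicalSpace

namespace K800.KosCoh

open K800.Tower Groth.Agent.CohqB.HSeqMod Groth.Agent.Ega3B.SectExact

attribute [local instance] Abelian.hasFiniteBiproducts

section General

variable {X : Scheme.{u}}

/-- The short exact sequence `0 → ker f → X₁ → ker g → 0` of an exact sequence `X₁ → X₂ → X₃`. -/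
noncomputable def kerSes (C : ShortComplex X.Modules) : ShortComplex X.Modules :=
  ShortComplex.mk (kernel.ι C.f) (kernel.lift C.g C.f C.zero)
    (by rw [← cancel_mono (kernel.ι C.g)]; simp)

theorem kerSes_shortExact {C : ShortComplex X.Modules} (hC : C.Exact) : (kerSes C).ShortExact := by
  have hepi : Epi (kernel.lift C.g C.f C.zero) := hC.epi_kernelLift
  have : Mono (kerSes C).f := inferInstanceAs (Mono (kernel.ι C.f))
  have : Epi (kerSes C).g := hepi
  refine ShortComplex.ShortExact.mk (ShortComplex.exact_of_f_is_kernel _ ?_)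
  exact KernelFork.IsLimit.ofι' _ _ (fun {W} k hk => ⟨kernel.lift C.f k (by
    have h1 : k ≫ kernel.lift C.g C.f C.zero ≫ kernel.ι C.g = 0 := by
      rw [← Category.assoc]
      change (k ≫ (kerSes C).g) ≫ _ = 0
      rw [hk, zero_comp]
    rw [kernel.lift_ι] at h1
    exact h1), kernel.lift_ι _ _ _⟩)

/-- The short exact sequence `0 → ker f → A → B → 0` of an epimorphism. -/
noncomputable def epiSes {A B : X.Modules} (f : A ⟶ B) : ShortComplex X.Modules :=
  ShortComplex.mk (kernel.ι f) f (kernel.condition f)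

theorem epiSes_shortExact {A B : X.Modules} (f : A ⟶ B) [Epi f] : (epiSes f).ShortExact := by
  have : Mono (epiSes f).f := inferInstanceAs (Mono (kernel.ι f))
  have : Epi (epiSes f).g := inferInstanceAs (Epi f)
  exact ShortComplex.ShortExact.mk (ShortComplex.exact_of_f_is_kernel _ (kernelIsKernel f))

variable (E : ℕ → X.Modules) (δ' : ∀ p, E (p + 1) ⟶ E p) (w : ∀ p, δ' (p + 1) ≫ δ' p = 0)
  (hex : ∀ p, (ShortComplex.mk (δ' (p + 1)) (δ' p) (w p)).Exact)

include hex

/-- Vanishing of the cohomology of the syzygy modules: step down. -/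
theorem subsingleton_ker_step (i p : ℕ) (h : Subsingleton (Coh.HH X (E (p + 2)) i))
    (h' : Subsingleton (Coh.HH X (kernel (δ' (p + 1))) (i + 1))) :
    Subsingleton (Coh.HH X (kernel (δ' p)) i) := by
  refine ⟨fun a b => ?_⟩
  have key : ∀ z : Coh.HH X (kernel (δ' p)) i, z = 0 := by
    intro z
    obtain ⟨y, hy⟩ := exact₃ (kerSes_shortExact (hex p)) i z (Subsingleton.elim (α := Coh.HH X (kernel (δ' (p + 1))) (i + 1)) _ _)
    have hy0 : y = 0 := Subsingleton.elim (α := Coh.HH X (E (p + 2)) i) y 0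
    rw [← hy, hy0]
    exact map_zero _
  rw [key a, key b]

/-- The top step. -/
theorem subsingleton_ker_top (i p : ℕ)
    (h : Function.Surjective (hmap (δ' (p + 2)) i : Coh.HH X (E (p + 3)) i → Coh.HH X (E (p + 2)) i))
    (h' : Subsingleton (Coh.HH X (kernel (δ' (p + 1))) (i + 1))) :
    Subsingleton (Coh.HH X (kernel (δ' p)) i) := by
  have key : ∀ z : Coh.HH X (kernel (δ' p)) i, z = 0 := by
    intro z
    obtain ⟨y, hy⟩ := exact₃ (kerSes_shortExact (hex p)) i z (Subsingleton.elim (α := Coh.HH X (kernel (δ' (p + 1))) (i + 1)) _ _)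
    obtain ⟨t, ht⟩ := h y
    rw [← hy, ← ht]
    have h0 : δ' (p + 2) ≫ kernel.lift (δ' p) (δ' (p + 1)) (w p) = 0 := by
      rw [← cancel_mono (kernel.ι (δ' p)), Category.assoc, kernel.lift_ι, zero_comp]
      exact w (p + 1)
    have h1 : hmap (kerSes (ShortComplex.mk (δ' (p + 1)) (δ' p) (w p))).g i (hmap (δ' (p + 2)) i t) =
        hmap (δ' (p + 2) ≫ kernel.lift (δ' p) (δ' (p + 1)) (w p)) i t := (hmap_comp_apply _ _ _ _).symm
    rw [h1, h0, hmap_zero_apply]
  exact ⟨fun a b => by rw [key a, key b]⟩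

/-- The chase: from vanishing in degrees `1, …, n - 1` and surjectivity in degree `n` at the top. -/
theorem subsingleton_ker (n : ℕ) (hn : 1 ≤ n)
    (h1 : ∀ i, 1 ≤ i → i < n → Subsingleton (Coh.HH X (E (i + 1)) i))
    (h2 : Function.Surjective (hmap (δ' (n + 1)) n : Coh.HH X (E (n + 2)) n → Coh.HH X (E (n + 1)) n))
    (h3 : Subsingleton (Coh.HH X (kernel (δ' n)) (n + 1))) :
    Subsingleton (Coh.HH X (kernel (δ' 0)) 1) := by
  obtain ⟨m, rfl⟩ : ∃ m, n = m + 1 := ⟨n - 1, by omega⟩
  -- downward induction on `j`: `H^{j+1}(ker δ' j) = 0` for `j ≤ m`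
  have key : ∀ k, k ≤ m → Subsingleton (Coh.HH X (kernel (δ' (m - k))) (m - k + 1)) := by
    intro k
    induction k with
    | zero =>
      intro _
      exact subsingleton_ker_top E δ' w hex (m + 1) m h2 h3
    | succ k ih =>
      intro hk
      have ih' := ih (by omega)
      have e : m - k = m - (k + 1) + 1 := by omega
      rw [e] at ih'
      exact subsingleton_ker_step E δ' w hex (m - (k + 1) + 1) (m - (k + 1))
        (h1 (m - (k + 1) + 1) (by omega) (by omega)) ih'
  have := key m le_rfl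
  rw [Nat.sub_self] at this
  exact this

/-- The version with vanishing in all degrees. -/
theorem subsingleton_ker_of_vanishing (N : ℕ)
    (h1 : ∀ i, 1 ≤ i → i ≤ N → Subsingleton (Coh.HH X (E (i + 1)) i))
    (h3 : Subsingleton (Coh.HH X (kernel (δ' N)) (N + 1))) :
    Subsingleton (Coh.HH X (kernel (δ' 0)) 1) := by
  have key : ∀ k, k ≤ N → Subsingleton (Coh.HH X (kernel (δ' (N - k))) (N - k + 1)) := by
    intro k
    induction k with
    | zero => intro _; exact h3
    | succ k ih =>
      intro hk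
      have ih' := ih (by omega)
      have e : N - k = N - (k + 1) + 1 := by omega
      rw [e] at ih'
      exact subsingleton_ker_step E δ' w hex (N - (k + 1) + 1) (N - (k + 1))
        (h1 (N - (k + 1) + 1) (by omega) (by omega)) ih'
  have := key N le_rfl
  rw [Nat.sub_self] at this
  exact this

omit hex in
/-- Conclusion on global sections. -/
theorem surjective_sections [Epi (δ' 0)] (h : Subsingleton (Coh.HH X (kernel (δ' 0)) 1)) (s : Γ(E 0, ⊤)) :
    ∃ t : Γ(E 1, ⊤), (δ' 0).app ⊤ t = s :=
  surjective_of_H1 (epiSes_shortExact (δ' 0)) h s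

end General

section Tow

variable {X : Scheme.{u}} {ι : Type} [Fintype ι]

/-- Cohomology of the terms of the Koszul complex. -/
theorem subsingleton_HH_K (q : ℕ) (p : ℕ) : ∀ (T : Tow X.Modules ι),
    Subsingleton (Coh.HH X (T.obj p) q) → Subsingleton (Coh.HH X (K p T) q) := by
  induction p with
  | zero => intro T h; exact h
  | succ p ih =>
    intro T h
    have h' := ih T.shift h
    have key : ∀ x : Coh.HH X (K (p + 1) T) q, x = 0 := by
      intro x
      have h1 : hmap (∑ i, prj p T i ≫ inc p T i) q x = x := by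
        rw [total, hmap_id_apply]
      rw [← h1, hmap_sum_apply]
      refine Finset.sum_eq_zero fun i _ => ?_
      rw [hmap_comp_apply, Subsingleton.elim (hmap (prj p T i) q x) 0, map_zero]
    exact ⟨fun a b => by rw [key a, key b]⟩

/-- Sections of `K 1 T = ⨁ T 1` mapping to `T 0`: the image consists of the sums `∑ᵢ sᵢ(tᵢ)`. -/
theorem exists_of_K (T : Tow X.Modules ι) (s : Γ(T.obj 0, ⊤)) (h : ∃ t : Γ(K 1 T, ⊤), (d 0 T).app ⊤ t = s) :
    ∃ t : ι → Γ(T.obj 1, ⊤), s = ∑ i, (T.map 0 i).app ⊤ (t i) := by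
  obtain ⟨t, ht⟩ := h
  refine ⟨fun i => (prj 0 T i).app ⊤ t, ?_⟩
  have h1 : (∑ i, prj 0 T i ≫ inc 0 T i) ≫ d 0 T = d 0 T := by rw [total, Category.id_comp]
  rw [Preadditive.sum_comp] at h1
  have h2 : ∑ i, prj 0 T i ≫ T.map 0 i = d 0 T := by
    rw [← h1]
    refine Finset.sum_congr rfl fun i _ => ?_
    rw [Category.assoc, inc_d_zero]
    rfl
  have h3 : ∀ (f : ι → (K 1 T ⟶ T.obj 0)) (z : Γ(K 1 T, ⊤)),
      (∑ i, f i : K 1 T ⟶ T.obj 0).app ⊤ z = ∑ i, (f i).app ⊤ z := by
    intro f z
    classical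
    induction (Finset.univ : Finset ι) using Finset.induction_on with
    | empty => simp
    | insert a s ha ih =>
      rw [Finset.sum_insert ha, Finset.sum_insert ha, ← ih]
      rfl
  rw [← ht, ← h2]
  exact h3 (fun i => prj 0 T i ≫ T.map 0 i) t

end Tow

end K800.KosCoh
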