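import Groth.Agent.AdjLin.K800.SheafTower
import Groth.Agent.AdjLin.K800.Incv
import Groth.Agent.CohqA.HBiprod
import Groth.Agent.FormalB.HHLes

/-!
# Koszul criteria for the surjectivity of multiplication maps
-/

set_option autoImplicit false
universe u

open CategoryTheory CategoryTheory.Limits AlgebraicGeometry Opposite TopologicalSpace

namespace K800.KosCrit

open K800.Tower K800.MulMap K800.SheafTower K800.KosCoh K800.KosExact
open Groth.Agent.Ega2 Groth.Agent.Ega2.Tens Groth.Agent.Fdesc.LocGen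
open Groth.Agent.Dcoh.Stalk Groth.Agent.CohqB.HSeqMod

attribute [local instance] Abelian.hasFiniteBiproducts

variable {X : Scheme.{u}}

theorem isIso_stalkF_of_bijective {M N : X.Modules} (φ : M ⟶ N) (U : X.Opens)
    (h : ∀ V : X.Opens, V ≤ U → Function.Bijective (φ.app V)) {x : X} (hx : x ∈ U) :
    IsIso ((stalkF x).map φ) := by
  have h1 := Groth.Agent.Fga.RegSec.isIso_stalk_of_bijective φ U h hx
  have h2 : IsIso ((Scheme.Modules.toPresheaf X ⋙ TopCat.Presheaf.stalkFunctor AddCommGrpCat.{u} x).map φ) := h1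
  rw [← NatIso.isIso_map_iff (stalkFForget x)] at h2
  have h3 : IsIso ((forget₂ (ModuleCat.{u} (X.presheaf.stalk x)) AddCommGrpCat.{u}).map
      ((stalkF x).map φ)) := h2
  exact isIso_of_reflects_iso _ (forget₂ (ModuleCat.{u} (X.presheaf.stalk x)) AddCommGrpCat.{u})

theorem mulBy_bijective (G : X.Modules) {L' : X.Modules} (σ : L' ⟶ Coh.structureModule X) (U : X.Opens)
    (h : ∀ V : X.Opens, V ≤ U → Function.Bijective (σ.app V)) (V : X.Opens) (hV : V ≤ U) :
    Function.Bijective ((mulBy G σ).app V) := by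
  have h1 : Function.Bijective ((mapT (𝟙 G) σ).app V) :=
    Groth.Agent.Ega3B.TensorIso.mapT_app_bijective (F := G) σ U h V hV
  have h2 : Function.Bijective ((runit G).hom.app V) := ConcreteCategory.bijective_of_isIso _
  exact h2.comp h1

variable {L L' : X.Modules} (e : CohB1.tensorMod L' L ≅ Coh.structureModule X)

theorem isIso_stalk_tow (G : X.Modules) (hL' : PicF.IsInvertible L') {ι : Type}
    (s : ι → (Coh.structureModule X ⟶ L)) {x : X} {i : ι} (hx : x ∈ CohB1.genLocus L (s i)) (n : ℕ) :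
    IsIso ((stalkF x).map ((tow G hL' (fun i => sig e (s i))).map n i)) :=
  isIso_stalkF_of_bijective _ (CohB1.genLocus L (s i))
    (mulBy_bijective _ _ _ fun _ hV => sig_bijective e (s i) hV) hx

section Finite

variable {ι : Type} [Fintype ι]

theorem isQCoh_K (p : ℕ) : ∀ (T : Tow X.Modules ι) (_ : ∀ n, Coh.IsQCoh (T.obj n)), Coh.IsQCoh (K p T) := by
  induction p with
  | zero => intro T h; exact h 0
  | succ p ih =>
    intro T h
    exact Groth.Agent.CohqA.HBiprod.isQCoh_biproduct (fun _ : ι => K p T.shift)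
      (fun _ => ih T.shift fun n => h (n + 1))

include e in
/-- **Koszul criterion, vanishing form.** -/
theorem mulSurj_of_vanishing (M : X.Modules) (hL : PicF.IsInvertible L) (hL' : PicF.IsInvertible L')
    (s : ι → (Coh.structureModule X ⟶ L)) (hs : ∀ x : X, ∃ i, x ∈ CohB1.genLocus L (s i))
    (N : ℕ) (hN : ∀ F : X.Modules, Subsingleton (Coh.HH X F (N + 1)))
    (h : ∀ i, 1 ≤ i → i ≤ N →
      Subsingleton (Coh.HH X (towObj (CohB1.tensorMod M L) L' (i + 1)) i)) :
    MulSurj M L := by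
  let T := tow (CohB1.tensorMod M L) hL' (fun i => sig e (s i))
  have hT : ∀ x : X, ∃ i, ∀ n, IsIso ((stalkF x).map (T.map n i)) := fun x => by
    obtain ⟨i, hi⟩ := hs x
    exact ⟨i, isIso_stalk_tow e _ hL' s hi⟩
  refine mulSurj_of_sum e hL hL' M s fun z => exists_of_K T z ?_
  have : Epi (d 0 T) := epi_d hT
  refine surjective_sections (fun p => K p T) (fun p => d p T) ?_ z
  refine subsingleton_ker_of_vanishing (fun p => K p T) (fun p => d p T) (fun p => d_comp_d p T)
    (fun p => exact_d hT p) N (fun i h1 h2 => ?_) (hN _)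
  exact subsingleton_HH_K i (i + 1) T (h i h1 h2)

end Finite

/-! ### Duality -/

variable (k : Type u) [Field k] [X.Over (Spec (CommRingCat.of k))]

/-- `ω` represents `F ↦ Hom_k(H^n(X, F), k)` on quasi-coherent modules. -/
def IsDual (n : ℕ) (ω : X.Modules) : Prop :=
  ∃ t : Coh.HH X ω n →ₗ[k] k, ∀ (F : X.Modules), Coh.IsQCoh F → ∀ ψ : Coh.HH X F n →ₗ[k] k,
    ∃! φ : F ⟶ ω, ∀ x : Coh.HH X F n,
      ψ x = t (Sheaf.H.map ((SheafOfModules.toSheaf X.ringCatSheaf).map φ) n x)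

variable {k}

theorem surjective_of_dual {n : ℕ} {ω : X.Modules} (hω : IsDual k n ω) {A B : X.Modules}
    (hA : Coh.IsQCoh A) (hB : Coh.IsQCoh B) (δ : A ⟶ B) (h : ∀ φ : B ⟶ ω, δ ≫ φ = 0 → φ = 0) :
    Function.Surjective (hmap δ n : Coh.HH X A n → Coh.HH X B n) := by
  obtain ⟨t, ht⟩ := hω
  by_contra hns
  let f : Coh.HH X A n →ₗ[k] Coh.HH X B n := Groth.Agent.FormalA.HHLin.HHmap k δ n
  have hf : LinearMap.range f ≠ ⊤ := fun h1 => hns (LinearMap.range_eq_top.1 h1)
  obtain ⟨ψ, hψ0, hψ⟩ := Submodule.exists_le_ker_of_lt_top _ (lt_top_iff_ne_top.2 hf)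
  obtain ⟨φ, hφ, -⟩ := ht B hB ψ
  obtain ⟨φ₀, hφ₀, huniq⟩ := ht A hA 0
  have h1 : δ ≫ φ = 0 := by
    have e1 : δ ≫ φ = φ₀ := huniq _ fun x => by
      have h2 : ψ (hmap δ n x) = 0 := hψ ⟨x, rfl⟩
      have h3 := hφ (hmap δ n x)
      rw [h2] at h3
      have h4 : hmap (δ ≫ φ) n x = hmap φ n (hmap δ n x) := hmap_comp_apply _ _ _ _
      change (0 : k) = t (hmap (δ ≫ φ) n x)
      rw [h4]
      exact h3
    have e2 : (0 : A ⟶ ω) = φ₀ := huniq _ fun x => by
      change (0 : k) = t (hmap (0 : A ⟶ ω) n x)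
      rw [hmap_zero_apply, map_zero]
    rw [e1, ← e2]
  have h5 := h φ h1
  apply hψ0
  refine LinearMap.ext fun x => ?_
  rw [hφ x, h5]
  change t (hmap (0 : B ⟶ ω) n x) = 0
  rw [hmap_zero_apply, map_zero]

/-- **Koszul criterion, dual form.** -/
theorem mulSurj_of_dual {ι : Type} [Fintype ι] (M : X.Modules)
    (hL : PicF.IsInvertible L) (hL' : PicF.IsInvertible L')
    (s : ι → (Coh.structureModule X ⟶ L)) (hs : ∀ x : X, ∃ i, x ∈ CohB1.genLocus L (s i))
    (hqc : ∀ n, Coh.IsQCoh (towObj (CohB1.tensorMod M L) L' n))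
    (n : ℕ) (hn : 1 ≤ n) (hN : ∀ F : X.Modules, Subsingleton (Coh.HH X F (n + 1)))
    (h : ∀ i, 1 ≤ i → i < n →
      Subsingleton (Coh.HH X (towObj (CohB1.tensorMod M L) L' (i + 1)) i))
    {ω : X.Modules} (hω : IsDual k n ω)
    (hψ : ∀ ψ : K (n + 1) (tow (CohB1.tensorMod M L) hL' (fun i => sig e (s i))) ⟶ ω,
      d (n + 1) _ ≫ ψ = 0 → ψ = 0) :
    MulSurj M L := by
  let T := tow (CohB1.tensorMod M L) hL' (fun i => sig e (s i))
  have hT : ∀ x : X, ∃ i, ∀ n, IsIso ((stalkF x).map (T.map n i)) := fun x => by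
    obtain ⟨i, hi⟩ := hs x
    exact ⟨i, isIso_stalk_tow e _ hL' s hi⟩
  refine mulSurj_of_sum e hL hL' M s fun z => exists_of_K T z ?_
  have : Epi (d 0 T) := epi_d hT
  refine surjective_sections (fun p => K p T) (fun p => d p T) ?_ z
  refine subsingleton_ker (fun p => K p T) (fun p => d p T) (fun p => d_comp_d p T)
    (fun p => exact_d hT p) n hn (fun i h1 h2 => ?_) ?_ (hN _)
  · exact subsingleton_HH_K i (i + 1) T (h i h1 h2)
  · exact surjective_of_dual hω (isQCoh_K _ T hqc) (isQCoh_K _ T hqc) _ hψ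

end K800.KosCrit
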