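import Groth.Agent.AdjLin.K800.Tower
import Groth.Agent.Dcoh.FlatTor

/-!
# Exactness of the ordered Koszul complex of a tower of O_X-modules

If at each point one of the maps of the tower is an isomorphism on stalks at all levels, the ordered Koszul
complex is exact.
-/

set_option autoImplicit false
universe u

open CategoryTheory CategoryTheory.Limits AlgebraicGeometry

namespace K800.KosExact

open K800.Tower Groth.Agent.Dcoh.Stalk Groth.Agent.Dcoh.FlatTor ZeroObject

attribute [local instance] Abelian.hasFiniteBiproducts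

variable {X : Scheme.{u}} {ι : Type} [Fintype ι]

theorem exact_stalk {T : Tow X.Modules ι} (x : X) (i : ι)
    (h : ∀ n, IsIso ((stalkF x).map (T.map n i))) (p : ℕ) :
    ((ShortComplex.mk (d (p + 1) T) (d p T) (d_comp_d p T)).map (stalkF x)).Exact := by
  obtain ⟨H, h0, hs⟩ := exists_homotopy (F := stalkF x) i h
  rw [ShortComplex.moduleCat_exact_iff]
  intro y hy
  let y' : (stalkF x).obj (K (p + 1) T) := y
  have hy' : ((stalkF x).map (d p T)).hom y' = 0 := hy
  refine ⟨(H (p + 1)).hom y', ?_⟩
  have h1 : ((H (p + 1) ≫ (stalkF x).map (d (p + 1) T)).hom y') =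
      y' - (H p).hom (((stalkF x).map (d p T)).hom y') := congr(($(hs p)).hom y')
  rw [hy', map_zero, sub_zero] at h1
  exact h1

theorem epi_stalk {T : Tow X.Modules ι} (x : X) (i : ι)
    (h : ∀ n, IsIso ((stalkF x).map (T.map n i))) : Epi ((stalkF x).map (d 0 T)) := by
  obtain ⟨H, h0, hs⟩ := exists_homotopy (F := stalkF x) i h
  exact (SplitEpi.mk _ h0).epi

theorem exact_d {T : Tow X.Modules ι}
    (h : ∀ x : X, ∃ i, ∀ n, IsIso ((stalkF x).map (T.map n i))) (p : ℕ) :
    (ShortComplex.mk (d (p + 1) T) (d p T) (d_comp_d p T)).Exact := by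
  rw [exact_map_stalkF_iff]
  intro x
  obtain ⟨i, hi⟩ := h x
  exact exact_stalk x i hi p

theorem epi_d {T : Tow X.Modules ι}
    (h : ∀ x : X, ∃ i, ∀ n, IsIso ((stalkF x).map (T.map n i))) : Epi (d 0 T) := by
  let S : ShortComplex X.Modules := ShortComplex.mk (d 0 T) (0 : K 0 T ⟶ 0) comp_zero
  have hS : S.Exact := by
    rw [exact_map_stalkF_iff]
    intro x
    obtain ⟨i, hi⟩ := h x
    have := epi_stalk x i hi
    have h0 : (S.map (stalkF x)).g = 0 := (stalkF x).map_zero _ _
    rw [ShortComplex.exact_iff_epi _ h0]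
    exact this
  exact (ShortComplex.exact_iff_epi S rfl).1 hS

end K800.KosExact
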