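import Groth.Agent.AdjLin.K800.Crit
import Groth.Agent.AdjLin.K800.AmpCls

/-!
# Surjectivity of multiplication maps of adjoint classes, from Kodaira vanishing and duality
-/

set_option autoImplicit false
universe u

open CategoryTheory CategoryTheory.Limits AlgebraicGeometry Opposite TopologicalSpace

namespace K800.Main

open K800.MulMap K800.Cls K800.KosCrit K800.Crit
open Groth.Agent.Fdesc.LocGen Groth.Agent.CurvesC Groth.Agent.Ega2

attribute [local instance] LinMod.linearModules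

variable {X : Scheme.{u}} (k : Type u) [Field k] [X.Over (Spec (CommRingCat.of k))]

/-- The geometric input: `κ` is dualizing in degree `n`, Kodaira vanishing, ampleness of nef plus ample. -/
structure Geo (n : ℕ) (κ : P X) : Prop where
  hN : ∀ F : X.Modules, Subsingleton (Coh.HH X F (n + 1))
  dual : IsDual k n (rep κ)
  kod : ∀ a : P X, Amp a → ∀ i, 1 ≤ i → i ≤ n → Van (κ + a) i
  nef : ∀ a c : P X, Nef k a → Amp c → Amp (a + c)
  h0_zero : h0 k (0 : P X) = 1

/-- Multiplication by a section of an effective class is injective on sections. -/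
theorem h0_sub_le [IsProper (X ↘ Spec (CommRingCat.of k))] [IsIntegral X] (a d : P X) (hd : Eff d) :
    h0 k (a - d) ≤ h0 k a := by
  obtain ⟨s, hs⟩ := hd
  have e1 : Nonempty (rep a ≅ CohB1.tensorMod (rep (a - d)) (rep d)) := by
    have := rep_add (a - d) d
    rwa [sub_add_cancel] at this
  obtain ⟨e⟩ := e1
  rw [h0_eq k ⟨e⟩]
  have hf : Module.Finite k (Coh.HH X (CohB1.tensorMod (rep (a - d)) (rep d)) 0) :=
    have := finite_rep k a 0
    Module.Finite.equiv (HHcongr k e 0)
  let φ : rep (a - d) ⟶ CohB1.tensorMod (rep (a - d)) (rep d) :=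
    (Tens.runit (rep (a - d))).inv ≫ Tens.mapT (𝟙 _) s
  have hφ : ∀ (U : X.Opens) (m : Γ(rep (a - d), U)), φ.app U m = Tens.tmul m (sec s U) := by
    intro U m
    have h1 : φ.app U m = (Tens.mapT (𝟙 (rep (a - d))) s).app U ((Tens.runit (rep (a - d))).inv.app U m) := rfl
    rw [h1, Tens.runit_inv_app, Tens.mapT_tmul]
    rfl
  refine LinearMap.finrank_le_finrank_of_injective (f := Groth.Agent.FormalA.HHLin.HHmap k φ 0) ?_
  rw [injective_iff_map_eq_zero]
  intro x hx
  have h1 : φ.app ⊤ (Groth.Agent.Ega3B.SectExact.secEquiv (rep (a - d)) x) = 0 := by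
    rw [← Groth.Agent.Ega3B.SectExact.secEquiv_hmap]
    have h2 : Groth.Agent.CohqB.HSeqMod.hmap φ 0 x = 0 := hx
    rw [h2, map_zero]
  rw [hφ] at h1
  refine (map_eq_zero_iff _ (Groth.Agent.Ega3B.SectExact.secEquiv (rep (a - d))).injective).1 ?_
  generalize Groth.Agent.Ega3B.SectExact.secEquiv (rep (a - d)) x = t at h1 ⊢
  obtain ⟨y⟩ : Nonempty X := inferInstance
  obtain ⟨U₁, e₁, hy₁, he₁⟩ := (isInvertible_iff _).1 (rep_inv (a - d)) y
  obtain ⟨U₂, e₂, hy₂, he₂⟩ := (isInvertible_iff _).1 (rep_inv d) y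
  let U := U₁ ⊓ U₂
  have hU : (U : Set X).Nonempty := ⟨y, hy₁, hy₂⟩
  have hne : Nonempty U := ⟨⟨y, hy₁, hy₂⟩⟩
  have g₁ := he₁.res (inf_le_left : U ≤ U₁)
  have g₂ := he₂.res (inf_le_right : U ≤ U₂)
  obtain ⟨α, hα⟩ := g₁.exists_eq (res _ (le_top : U ≤ ⊤) t)
  obtain ⟨c, hc⟩ := g₂.exists_eq (sec s U)
  have h3 : Tens.tmul (res _ (le_top : U ≤ ⊤) t) (sec s U) = 0 := by
    have h4 : res (CohB1.tensorMod (rep (a - d)) (rep d)) (le_top : U ≤ ⊤) (Tens.tmul t (sec s ⊤)) =
      Tens.tmul (res _ (le_top : U ≤ ⊤) t) (res _ (le_top : U ≤ ⊤) (sec s ⊤)) := Tens.tmul_res _ _ _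
    rw [h1, map_zero, res_sec] at h4
    exact h4.symm
  rw [hα, hc, Tens.smul_tmul, Tens.tmul_smul, smul_smul] at h3
  have h5 : α * c = 0 := (IsGen.tmul g₁ g₂).ext (by rw [zero_smul]; exact h3)
  rcases mul_eq_zero.1 h5 with h6 | h6
  · rw [h6, zero_smul] at hα
    exact InvSec.eq_zero_of_res_eq_zero (rep_inv (a - d)) (le_top : U ≤ ⊤) hU t hα
  · rw [h6, zero_smul] at hc
    exact absurd (K800.Embed.hom_eq_zero_of_gen (rep_inv d) hU (isGen_one U) s hc) hs

section Final

variable {k} [IsProper (X ↘ Spec (CommRingCat.of k))]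

/-- **End step**: very ampleness and projective normality. -/
theorem veryAmple_and_projNormal {L : X.Modules} (hL : PicF.IsInvertible L) (hA : CohB1.IsAmple L)
    (h : ∀ m : ℕ, 1 ≤ m → MS (m • cl L hL) (cl L hL)) :
    (∃ (N : ℕ) (i : X ⟶ CohB1.ProjSpace N k), IsClosedImmersion i ∧
        i ≫ CohB1.ProjSpace.toSpec N k = (X ↘ Spec (CommRingCat.of k)) ∧
        Nonempty ((Scheme.Modules.pullback i).obj (Twist.twistProjSpace N k 1) ≅ L)) ∧
      (∀ m : ℕ, 1 ≤ m → Function.Surjective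
      ((toSheafify (Opens.grothendieckTopology X) (CohB1.tensorPre (CohB1.tensorPow L m) L).presheaf).app
        (Opposite.op ⊤))) := by
  have h1 : ∀ m : ℕ, 1 ≤ m → MulSurj (CohB1.tensorPow L m) L := by
    intro m hm
    refine (ms_iff ?_ (rep_iso rfl)).1 (h m hm)
    exact rep_iso (hL := isInvertible_tensorPow hL m) (cl_pow hL m _).symm
  refine ⟨?_, fun m hm => mulSurj_iff.1 (h1 m hm)⟩
  have e0 : Nonempty (rep (cl L hL) ≅ L) := rep_iso rfl
  obtain ⟨e⟩ := e0
  have hfin0 := finite_rep k (cl L hL) 0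
  have hfin1 : Module.Finite k (Coh.HH X L 0) := Module.Finite.equiv (HHcongr k e 0)
  have hfin : Module.Finite k (Coh.structureModule X ⟶ L) :=
    Module.Finite.equiv (K800.HomDim.secHom k L).symm
  let B := Module.finBasis k (Coh.structureModule X ⟶ L)
  let s : Fin (Module.finrank k (Coh.structureModule X ⟶ L) + 1) → (Coh.structureModule X ⟶ L) :=
    Fin.cons 0 (fun i => B i)
  have hs : K800.VeryAmple.Spans k s := by
    refine spans_of_span k s fun t => ?_
    have h2 : Submodule.span k (Set.range s) = ⊤ := by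
      rw [eq_top_iff, ← B.span_eq, Submodule.span_le]
      rintro _ ⟨i, rfl⟩
      exact Submodule.subset_span ⟨i.succ, by simp [s]⟩
    rw [h2]
    trivial
  obtain ⟨i, hi⟩ := K800.VeryAmple.exists_closedImmersion hA s hs h1
  exact ⟨_, i, hi⟩

end Final

end K800.Main
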