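import Groth.Agent.AdjLin.K800.Stat
import Groth.Agent.Vanish.K909.NefIff
import Groth.Agent.Variety.K424.NakMain

/-!
# Nef ⊗ ample is ample, in the form used by `K800`
-/

set_option autoImplicit false
universe u

open CategoryTheory CategoryTheory.Limits AlgebraicGeometry Opposite TopologicalSpace Module

namespace K800.Inputs

open Groth.Agent K800.Setup K800.Stat Groth.Agent.Ega2

variable (k : Type u) [Field k] [IsAlgClosed k] (X : Scheme.{u}) [X.Over (Spec (CommRingCat.of k))]
  [IsProper (X ↘ Spec (CommRingCat.of k))] [IsIntegral X] (n : ℕ)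
  [SmoothOfRelativeDimension n (X ↘ Spec (CommRingCat.of k))]

include n in
theorem nefAmple : NefAmple k X := by
  intro A L hA hL hn
  have h := K909.Kleiman.isAmple_tensorPow_tensor k (K424.NakMain.nak k) X n
    (topologicalKrullDim_eq k (X ↘ Spec (CommRingCat.of k)) n).le L A hn hL hA 1
  exact Groth.Agent.Ega2.Weight.isAmple_of_iso (Tens.mapTIso (Tens.lunit L) (Iso.refl A)) h

end K800.Inputs
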