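import Groth.Agent.AdjLin.K800.MulMap
import Groth.Agent.Dcoh.TensRestr
import Groth.Agent.Dcoh.StalkT
import Groth.Agent.Sga2.LefPow644
import Groth.Agent.Ega3B.SectExact
import Groth.Agent.PerfB.ModExact

/-!
# Multiplication maps and restriction to a divisor
-/

set_option autoImplicit false
universe u
open CategoryTheory CategoryTheory.Limits AlgebraicGeometry Opposite TopologicalSpace

namespace K800.Restr

open K800.MulMap Groth.Agent.Ega2 Groth.Agent.Ega2.Tens Groth.Agent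

variable {X : Scheme.{u}} (I : X.IdealSheafData)

/-- The sequence `0 → I → O → O/I → 0`. -/
noncomputable abbrev S₀ : ShortComplex X.Modules :=
  ShortComplex.mk (ClSub.idealModι I) (ClSub.toSubscheme I) (kernel.condition _)

theorem S₀_shortExact : (S₀ I).ShortExact := Sga2.LefPow644.shortExact_idealMod I

theorem shortExact_tens {E : X.Modules} (hE : FlatMod.IsFlat E) {S : ShortComplex X.Modules} (hS : S.ShortExact) :
    (S.map (DCoh.tensorBi.obj E)).ShortExact := by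
  have := Dcoh.Stalk.preservesFiniteLimits_tensorBi_obj E hE
  exact hS.map_of_exact (DCoh.tensorBi.obj E)

/-- The unit section of `O/I`. -/
noncomputable def oneQ : Γ(ClSub.quotMod I, ⊤) := (ClSub.toSubscheme I).app ⊤ (sm 1)

/-- A section of `M` goes to its restriction. -/
noncomputable def u (M : X.Modules) : M ⟶ CohB1.tensorMod M (ClSub.quotMod I) :=
  (runit M).inv ≫ mapT (𝟙 M) (ClSub.toSubscheme I)

theorem lift_section {E : X.Modules} (hE : FlatMod.IsFlat E)
    (h : Subsingleton (Coh.HH X (CohB1.tensorMod E (ClSub.idealMod I)) 1))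
    (s : Γ(CohB1.tensorMod E (ClSub.quotMod I), ⊤)) : ∃ t : Γ(E, ⊤), (u I E).app ⊤ t = s := by
  obtain ⟨t, ht⟩ := Ega3B.SectExact.surjective_of_H1 (shortExact_tens hE (S₀_shortExact I)) h s
  refine ⟨(runit E).hom.app ⊤ t, ?_⟩
  have h1 : (runit E).inv.app ⊤ ((runit E).hom.app ⊤ t) = t := TensPow.symm_app_app _ t
  have h2 : (u I E).app ⊤ ((runit E).hom.app ⊤ t) =
    (mapT (𝟙 E) (ClSub.toSubscheme I)).app ⊤ ((runit E).inv.app ⊤ ((runit E).hom.app ⊤ t)) := rfl
  rw [h2, h1, ← Dcoh.TensRestr.tensorBi_obj_map_eq]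
  exact ht


open Groth.Agent.CohqB.HSeqMod in
theorem subsingleton_of_isZero {M : X.Modules} (h : IsZero M) (q : ℕ) : Subsingleton (Coh.HH X M q) := by
  refine ⟨fun x y => ?_⟩
  have key : ∀ z : Coh.HH X M q, z = 0 := fun z => by
    rw [← hmap_id_apply (M := M) q z, (h.eq_of_src (𝟙 M) 0), hmap_zero_apply]
  rw [key x, key y]

/-- Left exactness of global sections. -/
theorem exists_of_g_eq_zero {S : ShortComplex X.Modules} (hS : S.ShortExact) (s : Γ(S.X₂, ⊤))
    (h : S.g.app ⊤ s = 0) : ∃ t : Γ(S.X₁, ⊤), S.f.app ⊤ t = s := by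
  have := hS.mono_f
  refine Ega3B.SectExact.exact_of_H1 hS.exact (subsingleton_of_isZero ?_ 1) s h
  exact isZero_kernel_of_mono S.f

/-- A function acting by zero on `N` acts by zero on `M ⊗ N`. -/
theorem smul_tens_eq_zero {M N : X.Modules} {U : X.Opens} (r : Γ(X, U))
    (h : ∀ (V : X.Opens) (i : V ⟶ U) (n : Γ(N, V)), X.presheaf.map i.op r • n = 0)
    (t : Γ(CohB1.tensorMod M N, U)) : r • t = 0 := by
  refine eq_of_locally_eq _ _ _ fun x hx => ?_
  obtain ⟨V, i, hxV, n, m, m', hs⟩ := exists_sum_tmul t hx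
  refine ⟨V, i, hxV, ?_⟩
  rw [Scheme.Modules.map_smul, hs, map_zero, Finset.smul_sum]
  refine Finset.sum_eq_zero fun j _ => ?_
  rw [← tmul_smul, h V i, tmul_zero]

/-- Functions of `I` act by zero on `O/I`. -/
theorem smul_quot_eq_zero {U : X.Opens} (a : Γ(ClSub.idealMod I, U)) (V : X.Opens) (i : V ⟶ U)
    (n : Γ(ClSub.quotMod I, V)) :
    X.presheaf.map i.op (show Γ(X, U) from (ClSub.idealModι I).app U a) • n = 0 := by
  have h1 : ClSub.idealModι I ≫ ClSub.toSubscheme I = 0 := kernel.condition _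
  have h2 : (ClSub.toSubscheme I).app V ((ClSub.idealModι I).app V ((ClSub.idealMod I).presheaf.map i.op a)) = 0 :=
    congr(($h1).app V ((ClSub.idealMod I).presheaf.map i.op a))
  rw [← Tens.app_res] at h2
  have h3 : ∀ r : Γ(X, V), (ClSub.toSubscheme I).app V (sm r) = 0 → ∀ m : Γ(ClSub.quotMod I, V), r • m = 0 := by
    intro r hr m
    have h4 : I.subschemeι.app V r = 0 := hr
    have h5 : ∀ m : Γ(I.subscheme, I.subschemeι ⁻¹ᵁ V), I.subschemeι.app V r * m = 0 := fun m => by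
      rw [h4, zero_mul]
    exact h5 m
  exact h3 _ h2 n

theorem mapT_ideal_eq_zero (E L : X.Modules) :
    mapT (mapT (𝟙 E) (ClSub.idealModι I)) (𝟙 (CohB1.tensorMod L (ClSub.quotMod I))) = 0 := by
  refine hom_ext₃ _ _ fun U m n p => ?_
  rw [mapT_tmul, mapT_tmul]
  change tmul (tmul m (sm (show Γ(X, U) from (ClSub.idealModι I).app U n))) p = 0
  rw [sm_eq_smul, tmul_smul, smul_tmul, ← tmul_smul,
    smul_tens_eq_zero _ (fun V i q => smul_quot_eq_zero I n V i q) p, tmul_zero]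

/-- `E ⊗ F → (E ⊗ O/I) ⊗ F` is a monomorphism for `F = L ⊗ O/I`. -/
theorem mono_quot {E : X.Modules} (hE : FlatMod.IsFlat E) (L : X.Modules) :
    Mono (mapT (u I E) (𝟙 (CohB1.tensorMod L (ClSub.quotMod I)))) := by
  let F := CohB1.tensorMod L (ClSub.quotMod I)
  have hS := shortExact_tens hE (S₀_shortExact I)
  have h1 : PreservesColimitsOfSize.{0, 0} (DCoh.tensorBi.flip.obj F) :=
    preservesColimitsOfSize_shrink.{0, u, 0, u} _
  have := hS.epi_g
  have h2 : (((S₀ I).map (DCoh.tensorBi.obj E)).map (DCoh.tensorBi.flip.obj F)).Exact :=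
    hS.exact.map_of_epi_of_preservesCokernel _ inferInstance inferInstance
  have h3 : (((S₀ I).map (DCoh.tensorBi.obj E)).map (DCoh.tensorBi.flip.obj F)).f = 0 := by
    change (DCoh.tensorBi.map ((DCoh.tensorBi.obj E).map (ClSub.idealModι I))).app F = 0
    rw [Dcoh.TensRestr.tensorBi_obj_map_eq, Dcoh.TensRestr.tensorBi_map_eq]
    exact mapT_ideal_eq_zero I E L
  have h4 : Mono ((DCoh.tensorBi.map ((DCoh.tensorBi.obj E).map (ClSub.toSubscheme I))).app F) := h2.mono_g h3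
  rw [Dcoh.TensRestr.tensorBi_obj_map_eq, Dcoh.TensRestr.tensorBi_map_eq] at h4
  have h5 : mapT (u I E) (𝟙 F) = (mapTIso (runit E) (Iso.refl F)).inv ≫
      mapT (mapT (𝟙 E) (ClSub.toSubscheme I)) (𝟙 F) := by
    have h6 : (mapTIso (runit E) (Iso.refl F)).inv = mapT (runit E).inv (𝟙 F) := rfl
    rw [h6, ← mapT_comp, Category.comp_id]
    rfl
  have h7 : Mono (mapT (mapT (𝟙 E) (ClSub.toSubscheme I)) (𝟙 F)) := h4
  rw [h5]
  exact mono_comp _ _

/-- **Sections of `E ⊗ L` restricting to zero are multiples of a section of `L`.** -/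
theorem exists_of_zero {E L : X.Modules} (hE : FlatMod.IsFlat E) (hL : FlatMod.IsFlat L)
    (e : CohB1.tensorMod L (ClSub.idealMod I) ≅ Coh.structureModule X) (w : Γ(CohB1.tensorMod E L, ⊤))
    (hw : (mapT (u I E) (u I L)).app ⊤ w = 0) :
    ∃ (t : Γ(E, ⊤)) (s : Γ(L, ⊤)), w = tmul t s := by
  have h1 : mapT (u I E) (u I L) = mapT (𝟙 E) (u I L) ≫ mapT (u I E) (𝟙 _) := by
    rw [← mapT_comp, Category.id_comp, Category.comp_id]
  have h2 : (mapT (𝟙 E) (u I L)).app ⊤ w = 0 := by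
    have h3 := mono_quot I hE L
    refine PerfB.ModExact.app_injective_of_mono (mapT (u I E) (𝟙 (CohB1.tensorMod L (ClSub.quotMod I)))) ⊤ ?_
    rw [map_zero, ← hw, h1]
    rfl
  have h3 : mapT (𝟙 E) (u I L) = mapT (𝟙 E) (runit L).inv ≫ mapT (𝟙 E) (mapT (𝟙 L) (ClSub.toSubscheme I)) := by
    rw [← mapT_comp, Category.comp_id]
    rfl
  rw [h3] at h2
  have hS := shortExact_tens hE (shortExact_tens hL (S₀_shortExact I))
  have h4 : (((S₀ I).map (DCoh.tensorBi.obj L)).map (DCoh.tensorBi.obj E)).g.app ⊤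
      ((mapT (𝟙 E) (runit L).inv).app ⊤ w) = 0 := by
    have h5 : (((S₀ I).map (DCoh.tensorBi.obj L)).map (DCoh.tensorBi.obj E)).g =
        mapT (𝟙 E) (mapT (𝟙 L) (ClSub.toSubscheme I)) := by
      change (DCoh.tensorBi.obj E).map ((DCoh.tensorBi.obj L).map (ClSub.toSubscheme I)) = _
      rw [Dcoh.TensRestr.tensorBi_obj_map_eq, Dcoh.TensRestr.tensorBi_obj_map_eq]
      rfl
    rw [h5]
    exact h2
  obtain ⟨z, hz⟩ := exists_of_g_eq_zero hS _ h4
  have h5 : (((S₀ I).map (DCoh.tensorBi.obj L)).map (DCoh.tensorBi.obj E)).f =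
        mapT (𝟙 E) (mapT (𝟙 L) (ClSub.idealModι I)) := by
    change (DCoh.tensorBi.obj E).map ((DCoh.tensorBi.obj L).map (ClSub.idealModι I)) = _
    rw [Dcoh.TensRestr.tensorBi_obj_map_eq, Dcoh.TensRestr.tensorBi_obj_map_eq]
    rfl
  have hz' : (mapT (𝟙 E) (mapT (𝟙 L) (ClSub.idealModι I))).app ⊤ z = (mapT (𝟙 E) (runit L).inv).app ⊤ w := by
    rw [← hz, h5]
    rfl
  obtain ⟨t, ht⟩ : ∃ t : Γ(E, ⊤), z = tmul t (e.inv.app ⊤ (sm 1)) := by
    let z' : Γ(CohB1.tensorMod E (Coh.structureModule X), ⊤) := (mapTIso (Iso.refl E) e).hom.app ⊤ z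
    refine ⟨(runit E).hom.app ⊤ z', ?_⟩
    have h6 : tmul ((runit E).hom.app ⊤ z') (sm 1) = z' := by
      rw [← runit_inv_app]
      exact TensPow.symm_app_app (runit E) z'
    have h7 : (mapTIso (Iso.refl E) e).inv.app ⊤ z' = z := TensPow.symm_app_app _ _
    rw [← h7]
    conv_lhs => rw [← h6]
    exact mapT_tmul (𝟙 E) e.inv _ _
  refine ⟨t, (runit L).hom.app ⊤ ((mapT (𝟙 L) (ClSub.idealModι I)).app ⊤ (e.inv.app ⊤ (sm 1))), ?_⟩
  have h8 : (mapTIso (Iso.refl E) (runit L)).hom.app ⊤ ((mapTIso (Iso.refl E) (runit L)).inv.app ⊤ w) = w :=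
    TensPow.app_symm_app _ w
  have h9 : (mapTIso (Iso.refl E) (runit L)).inv.app ⊤ w = (mapT (𝟙 E) (runit L).inv).app ⊤ w := rfl
  rw [← h8, h9, ← hz', ht, mapT_tmul]
  exact mapT_tmul (𝟙 E) (runit L).hom _ _

/-- **Restriction criterion.** -/
theorem mulSurj_of_restrict {E L : X.Modules} (hE : FlatMod.IsFlat E) (hL : FlatMod.IsFlat L)
    (e : CohB1.tensorMod L (ClSub.idealMod I) ≅ Coh.structureModule X)
    (h0 : Subsingleton (Coh.HH X (CohB1.tensorMod L (ClSub.idealMod I)) 1))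
    (h1 : Subsingleton (Coh.HH X (CohB1.tensorMod E (ClSub.idealMod I)) 1))
    (hD : MulSurj (CohB1.tensorMod E (ClSub.quotMod I)) (CohB1.tensorMod L (ClSub.quotMod I))) :
    MulSurj E L := by
  intro w
  have key : ∀ z ∈ prods (CohB1.tensorMod E (ClSub.quotMod I)) (CohB1.tensorMod L (ClSub.quotMod I)),
      ∃ w' ∈ prods E L, (mapT (u I E) (u I L)).app ⊤ w' = z := by
    intro z hz
    induction hz using AddSubgroup.closure_induction with
    | mem x hx =>
      obtain ⟨m, n, rfl⟩ := hx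
      obtain ⟨m', rfl⟩ := lift_section I hE h1 m
      obtain ⟨n', rfl⟩ := lift_section I hL h0 n
      exact ⟨tmul m' n', tmul_mem_prods _ _, mapT_tmul _ _ _ _⟩
    | zero => exact ⟨0, AddSubgroup.zero_mem _, map_zero _⟩
    | add x y _ _ hx hy =>
      obtain ⟨a, ha, ha'⟩ := hx
      obtain ⟨b, hb, hb'⟩ := hy
      exact ⟨a + b, AddSubgroup.add_mem _ ha hb, by rw [map_add, ha', hb']⟩
    | neg x _ hx =>
      obtain ⟨a, ha, ha'⟩ := hx
      exact ⟨-a, AddSubgroup.neg_mem _ ha, by rw [map_neg, ha']⟩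
  obtain ⟨w', hw', he⟩ := key _ (hD ((mapT (u I E) (u I L)).app ⊤ w))
  obtain ⟨t, s, hts⟩ := exists_of_zero I hE hL e (w - w') (by rw [map_sub, he, sub_self])
  have h2 : w = w' + tmul t s := by rw [← hts]; abel
  rw [h2]
  exact AddSubgroup.add_mem _ hw' (tmul_mem_prods _ _)

end K800.Restr
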