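import Groth.Agent.AdjLin.K800.KosCoh
import Groth.Agent.AdjLin.K800.MulMap
import Groth.Agent.Ega3B.TensorIso
import Groth.Agent.Fga.RegSec

/-!
# The tower of an invertible module and the Koszul criterion

For an invertible module `L'` with morphisms `σ i : L' ⟶ O_X` and a module `G`, the tower
`T n = G ⊗ L'^{⊗ n}`.
-/

set_option autoImplicit false
universe u

open CategoryTheory CategoryTheory.Limits AlgebraicGeometry Opposite TopologicalSpace

namespace K800.SheafTower

open K800.Tower K800.MulMap Groth.Agent.Ega2 Groth.Agent.Ega2.Tens Groth.Agent.Fdesc.LocGen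

variable {X : Scheme.{u}}

/-! ### Scalars -/

/-- The function `σ(a)`. -/
noncomputable def ev {L' : X.Modules} (σ : L' ⟶ Coh.structureModule X) {U : X.Opens} (a : Γ(L', U)) :
    Γ(X, U) := ofFun.symm (σ.app U a)

theorem sm_ev {L' : X.Modules} (σ : L' ⟶ Coh.structureModule X) {U : X.Opens} (a : Γ(L', U)) :
    sm (ev σ a) = σ.app U a := rfl

theorem ev_smul {L' : X.Modules} (σ : L' ⟶ Coh.structureModule X) {U : X.Opens} (r : Γ(X, U))
    (a : Γ(L', U)) : ev σ (r • a) = r * ev σ a := by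
  unfold ev
  rw [Scheme.Modules.Hom.app_smul]
  rfl

theorem ores_ev {L' : X.Modules} (σ : L' ⟶ Coh.structureModule X) {U V : X.Opens} (h : V ≤ U)
    (a : Γ(L', U)) : ores h (ev σ a) = ev σ (res L' h a) := by
  unfold ev
  rw [Groth.Agent.Fdesc.LocGen.app_res]
  rfl

/-- Symmetry of the pairing of an invertible module with its dual. -/
theorem ev_mul_ev {L' : X.Modules} (hL' : PicF.IsInvertible L') (σ τ : L' ⟶ Coh.structureModule X)
    {U : X.Opens} (a b : Γ(L', U)) : ev σ a * ev τ b = ev σ b * ev τ a := by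
  choose W e hW he using (isInvertible_iff L').1 hL'
  refine ores_ext (V := U) (fun x : U => U ⊓ W x.1) (fun x => inf_le_left)
    (fun x hx => Opens.mem_iSup.mpr ⟨⟨x, hx⟩, hx, hW x⟩) (fun x => ?_)
  simp only [map_mul, ores_ev]
  have hg := (he x.1).res (inf_le_right : U ⊓ W x.1 ≤ W x.1)
  obtain ⟨r, hr⟩ := hg.exists_eq (res L' (inf_le_left : U ⊓ W x.1 ≤ U) a)
  obtain ⟨r', hr'⟩ := hg.exists_eq (res L' (inf_le_left : U ⊓ W x.1 ≤ U) b)
  rw [hr, hr']
  simp only [ev_smul]
  ring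

/-- The morphism `G ⊗ L' ⟶ G`. -/
noncomputable def mulBy (G : X.Modules) {L' : X.Modules} (σ : L' ⟶ Coh.structureModule X) :
    CohB1.tensorMod G L' ⟶ G :=
  mapT (𝟙 G) σ ≫ (runit G).hom

theorem mulBy_tmul (G : X.Modules) {L' : X.Modules} (σ : L' ⟶ Coh.structureModule X) {U : X.Opens}
    (g : Γ(G, U)) (a : Γ(L', U)) : (mulBy G σ).app U (Tens.tmul g a) = ev σ a • g := by
  have h1 : (mulBy G σ).app U (Tens.tmul g a) =
      (runit G).hom.app U ((mapT (𝟙 G) σ).app U (Tens.tmul g a)) := rfl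
  rw [h1, mapT_tmul, ← sm_ev, runit_hom_tmul]
  rfl

/-- The modules `G ⊗ L'^{⊗ n}`. -/
noncomputable def towObj (G L' : X.Modules) : ℕ → X.Modules
  | 0 => G
  | n + 1 => CohB1.tensorMod (towObj G L' n) L'

/-- The tower. -/
noncomputable def tow (G : X.Modules) {L' : X.Modules} (hL' : PicF.IsInvertible L') {ι : Type}
    (σ : ι → (L' ⟶ Coh.structureModule X)) : Tow X.Modules ι where
  obj := towObj G L'
  map n i := mulBy (towObj G L' n) (σ i)
  comm n i j := by
    refine hom_ext₃ _ _ fun U g a b => ?_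
    change (mulBy (towObj G L' n) (σ j)).app U ((mulBy (CohB1.tensorMod (towObj G L' n) L') (σ i)).app U
        (Tens.tmul (Tens.tmul g a) b)) =
      (mulBy (towObj G L' n) (σ i)).app U ((mulBy (CohB1.tensorMod (towObj G L' n) L') (σ j)).app U
        (Tens.tmul (Tens.tmul g a) b))
    rw [mulBy_tmul, mulBy_tmul, Scheme.Modules.Hom.app_smul, Scheme.Modules.Hom.app_smul, mulBy_tmul,
      mulBy_tmul, smul_smul, smul_smul, ev_mul_ev hL', mul_comm]

theorem isInvertible_towObj {G L' : X.Modules} (hG : PicF.IsInvertible G) (hL' : PicF.IsInvertible L')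
    (n : ℕ) : PicF.IsInvertible (towObj G L' n) := by
  induction n with
  | zero => exact hG
  | succ n ih => exact isInvertible_tensorMod ih hL'

/-! ### The morphisms `L' ⟶ O` given by sections of the inverse -/

variable {L L' : X.Modules} (e : CohB1.tensorMod L' L ≅ Coh.structureModule X)

/-- Pairing with a global section. -/
noncomputable def sig (s : Coh.structureModule X ⟶ L) : L' ⟶ Coh.structureModule X :=
  (runit L').inv ≫ mapT (𝟙 L') s ≫ e.hom

theorem sig_app (s : Coh.structureModule X ⟶ L) {U : X.Opens} (a : Γ(L', U)) :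
    (sig e s).app U a = e.hom.app U (Tens.tmul a (sec s U)) := by
  have h1 : (sig e s).app U a =
      e.hom.app U ((mapT (𝟙 L') s).app U ((runit L').inv.app U a)) := rfl
  rw [h1, runit_inv_app, mapT_tmul]
  rfl

theorem sig_bijective (s : Coh.structureModule X ⟶ L) {V : X.Opens} (hV : V ≤ CohB1.genLocus L s) :
    Function.Bijective ((sig e s).app V) := by
  have h1 : Function.Bijective ((mapT (𝟙 L') s).app V) := by
    refine Groth.Agent.Ega3B.TensorIso.mapT_app_bijective (F := L') s (CohB1.genLocus L s) (fun W hW => ?_) V hV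
    have h2 := (isGen_sec_genLocus s) W hW
    rw [← (ofFun (X := X) (U := W)).bijective.of_comp_iff]
    convert h2 using 2 with a
    change s.app W (ofFun a) = _
    rw [app_ofFun, res_sec]
  have h2 : Function.Bijective ((runit L').inv.app V) := ConcreteCategory.bijective_of_isIso _
  have h3 : Function.Bijective (e.hom.app V) := ConcreteCategory.bijective_of_isIso _
  exact h3.comp (h1.comp h2)

/-- `σ_s ⊗ id` for `L`: on pure tensors, `e(a ⊗ l) s = e(a ⊗ s) l`. -/
theorem ev_smul_comm (hL : PicF.IsInvertible L) (s : Coh.structureModule X ⟶ L) {U : X.Opens}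
    (a : Γ(L', U)) (l : Γ(L, U)) :
    (ofFun.symm (e.hom.app U (Tens.tmul a l)) : Γ(X, U)) • sec s U = ev (sig e s) a • l := by
  choose W g hW hg using (isInvertible_iff L).1 hL
  refine res_ext L (V := U) (fun x : U => U ⊓ W x.1) (fun x => inf_le_left)
    (fun x hx => Opens.mem_iSup.mpr ⟨⟨x, hx⟩, hx, hW x⟩) (fun x => ?_)
  have hgen := (hg x.1).res (inf_le_right : U ⊓ W x.1 ≤ W x.1)
  obtain ⟨r, hr⟩ := hgen.exists_eq (res L (inf_le_left : U ⊓ W x.1 ≤ U) l)
  obtain ⟨r', hr'⟩ := hgen.exists_eq (sec s (U ⊓ W x.1))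
  rw [res_smul, res_smul, res_sec, ores_ev]
  have h1 : ores (inf_le_left : U ⊓ W x.1 ≤ U) (ofFun.symm (e.hom.app U (Tens.tmul a l))) =
      ofFun.symm (e.hom.app (U ⊓ W x.1) (Tens.tmul (res L' (inf_le_left : U ⊓ W x.1 ≤ U) a)
        (res L (inf_le_left : U ⊓ W x.1 ≤ U) l))) := by
    have h2 := Groth.Agent.Fdesc.LocGen.app_res e.hom (inf_le_left : U ⊓ W x.1 ≤ U) (Tens.tmul a l)
    have h3 : res (CohB1.tensorMod L' L) (inf_le_left : U ⊓ W x.1 ≤ U) (Tens.tmul a l) =
      Tens.tmul (res L' (inf_le_left : U ⊓ W x.1 ≤ U) a) (res L (inf_le_left : U ⊓ W x.1 ≤ U) l) :=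
      Tens.tmul_res _ _ _
    rw [h3] at h2
    rw [h2]
    rfl
  rw [h1, hr, hr']
  unfold ev
  rw [sig_app, hr', Tens.tmul_smul, Tens.tmul_smul, Scheme.Modules.Hom.app_smul,
    Scheme.Modules.Hom.app_smul]
  have h4 : ∀ (c : Γ(X, U ⊓ W x.1)) (z : Γ(Coh.structureModule X, U ⊓ W x.1)),
      (ofFun.symm (c • z) : Γ(X, U ⊓ W x.1)) = c * ofFun.symm z := fun _ _ => rfl
  rw [h4, h4, smul_smul, smul_smul]
  congr 1
  ring

/-- Contraction `(M ⊗ L) ⊗ L' ⟶ M`. -/
noncomputable def contr (M : X.Modules) :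
    CohB1.tensorMod (CohB1.tensorMod M L) L' ⟶ M :=
  (Tens.assoc M L L').hom ≫ mapT (𝟙 M) ((Tens.swap L L').hom ≫ e.hom) ≫ (runit M).hom

theorem contr_tmul (M : X.Modules) {U : X.Opens} (m : Γ(M, U)) (l : Γ(L, U)) (a : Γ(L', U)) :
    (contr e M).app U (Tens.tmul (Tens.tmul m l) a) =
      (ofFun.symm (e.hom.app U (Tens.tmul a l)) : Γ(X, U)) • m := by
  have h1 : (contr e M).app U (Tens.tmul (Tens.tmul m l) a) =
      (runit M).hom.app U ((mapT (𝟙 M) ((Tens.swap L L').hom ≫ e.hom)).app U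
        ((Tens.assoc M L L').hom.app U (Tens.tmul (Tens.tmul m l) a))) := rfl
  have h2 : (Tens.assoc M L L').hom.app U (Tens.tmul (Tens.tmul m l) a) =
      Tens.tmul m (Tens.tmul l a) := assocHom_tmul m l a
  have h3 : ((Tens.swap L L').hom ≫ e.hom).app U (Tens.tmul l a) = e.hom.app U (Tens.tmul a l) := by
    have : (Tens.swap L L').hom.app U (Tens.tmul l a) = Tens.tmul a l := swapHom_tmul l a
    change e.hom.app U ((Tens.swap L L').hom.app U (Tens.tmul l a)) = _
    rw [this]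
  rw [h1, h2, mapT_tmul, h3]
  exact runit_hom_tmul (ofFun.symm (e.hom.app U (Tens.tmul a l))) _

/-- The key factorisation. -/
theorem mulBy_sig (hL : PicF.IsInvertible L) (M : X.Modules) (s : Coh.structureModule X ⟶ L) :
    mulBy (CohB1.tensorMod M L) (sig e s) =
      contr e M ≫ (runit M).inv ≫ mapT (𝟙 M) s := by
  refine hom_ext₃ _ _ fun U m l a => ?_
  rw [mulBy_tmul]
  have h1 : (contr e M ≫ (runit M).inv ≫ mapT (𝟙 M) s).app U (Tens.tmul (Tens.tmul m l) a) =
      (mapT (𝟙 M) s).app U ((runit M).inv.app U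
        ((contr e M).app U (Tens.tmul (Tens.tmul m l) a))) := rfl
  rw [h1, contr_tmul, runit_inv_app, mapT_tmul]
  have h2 : s.app U (sm 1) = sec s U := rfl
  rw [h2]
  change _ = Tens.tmul ((ofFun.symm (e.hom.app U (Tens.tmul a l)) : Γ(X, U)) • m) (sec s U)
  rw [Tens.smul_tmul, ← Tens.tmul_smul, ← Tens.tmul_smul, ← ev_smul_comm e hL]

/-- Conclusion for multiplication maps. -/
theorem mulSurj_of_sum (hL : PicF.IsInvertible L) (hL' : PicF.IsInvertible L') (M : X.Modules)
    {ι : Type} [Fintype ι] (s : ι → (Coh.structureModule X ⟶ L))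
    (h : ∀ z : Γ(CohB1.tensorMod M L, ⊤), ∃ t : ι → Γ((tow (CohB1.tensorMod M L) hL' (fun i => sig e (s i))).obj 1, ⊤),
      z = ∑ i, ((tow (CohB1.tensorMod M L) hL' (fun i => sig e (s i))).map 0 i).app ⊤ (t i)) :
    MulSurj M L := by
  intro z
  obtain ⟨t, ht⟩ := h z
  rw [ht]
  refine AddSubgroup.sum_mem _ fun i _ => ?_
  have h1 : ((tow (CohB1.tensorMod M L) hL' (fun i => sig e (s i))).map 0 i).app ⊤ (t i) =
      (mulBy (CohB1.tensorMod M L) (sig e (s i))).app ⊤ (t i) := rfl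
  rw [h1, mulBy_sig e hL]
  change (mapT (𝟙 M) (s i)).app ⊤ ((runit M).inv.app ⊤ ((contr e M).app ⊤ (t i))) ∈ _
  rw [runit_inv_app, mapT_tmul]
  exact tmul_mem_prods _ _

end K800.SheafTower
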