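import Groth.Agent.AdjLin.K800.Setup
import Groth.Agent.AdjLin.K800.Conv

/-!
# Butler's statements relative to Kodaira vanishing and ampleness of nef ⊗ ample
-/

set_option autoImplicit false
universe u

open CategoryTheory CategoryTheory.Limits AlgebraicGeometry Opposite TopologicalSpace Module

namespace K800.Stat

open Groth.Agent Groth.Agent.CurvesB Groth.Agent.Ega2
open K800.MulMap K800.Cls K800.KosCrit K800.Crit K800.Main K800.Setup K800.Arith

variable (k : Type u) [Field k] [IsAlgClosed k] (X : Scheme.{u}) [X.Over (Spec (CommRingCat.of k))]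
  [IsProper (X ↘ Spec (CommRingCat.of k))] [IsIntegral X] (n : ℕ)
  [SmoothOfRelativeDimension n (X ↘ Spec (CommRingCat.of k))]

/-- `M` is very ample and normally generated. -/
def VAPN (L : X.Modules) : Prop :=
    (∃ (N : ℕ) (i : X ⟶ CohB1.ProjSpace N k), IsClosedImmersion i ∧
        i ≫ CohB1.ProjSpace.toSpec N k = (X ↘ Spec (CommRingCat.of k)) ∧
        Nonempty ((Scheme.Modules.pullback i).obj (Twist.twistProjSpace N k 1) ≅ L)) ∧
      (∀ m : ℕ, 1 ≤ m → Function.Surjective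
      ((toSheafify (Opens.grothendieckTopology X) (CohB1.tensorPre (CohB1.tensorPow L m) L).presheaf).app
        (Opposite.op ⊤)))

variable {X}
variable (hkod : Kod X n) (hnef : NefAmple k X) (K : X.Modules)
  (hK : Canon.IsTopDiff (X ↘ Spec (CommRingCat.of k)) n K)

include hkod hnef hK

theorem s49 (hn : 1 ≤ n) (B : X.Modules) (hBa : CohB1.IsAmple B) (hBg : Curv2.IsGloballyGenerated B)
    (hb : n + 2 ≤ Module.finrank k (Coh.HH X B 0)) :
    MulSurj (CohB1.tensorMod K (CohB1.tensorPow B n)) B := by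
  have hKi := isInvertible_canon k n hK
  have G := geo k n hkod hnef hK hKi
  have rK := rep_cl hKi
  have rB := rep_cl hBa.1
  refine (ms_iff (rep_T rK (rep_P rB n)) rB).1 (ms49 G hn ((amp_iff rB).2 hBa) ((gg_iff rB).2 hBg) ?_)
  rwa [h0_eq k rB]

theorem s50 (hn : 1 ≤ n) (B : X.Modules) (hBa : CohB1.IsAmple B)
    (hKBg : Curv2.IsGloballyGenerated (CohB1.tensorMod K B))
    (hc : Module.finrank k (Coh.HH X K 0) + n + 1 ≤ Module.finrank k (Coh.HH X (CohB1.tensorMod K B) 0))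
    (D : X.Modules) (hD : Nonempty (CohB1.tensorMod D K ≅ B))
    (hDnef : ∀ (Y : Scheme.{u}) (i : Y ⟶ X) [IsClosedImmersion i], IsIntegral Y → topologicalKrullDim Y = 1 →
      0 ≤ Pic13.curveDeg k (i ≫ (X ↘ Spec (CommRingCat.of k))) ((Scheme.Modules.pullback i).obj D))
    (hDeff : ∃ s : Coh.structureModule X ⟶ D, s ≠ 0) :
    MulSurj (CohB1.tensorMod K (CohB1.tensorPow B (2 * n - 1))) (CohB1.tensorMod K B) := by
  have hKi := isInvertible_canon k n hK
  have G := geo k n hkod hnef hK hKi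
  have rK := rep_cl hKi
  have rB := rep_cl hBa.1
  have rD := rep_of_tensor rK rB hD
  have rKB := rep_T rK rB
  refine (ms_iff (rep_T rK (rep_P rB _)) rKB).1 (ms50 G hn ((amp_iff rB).2 hBa) ((gg_iff rKB).2 hKBg) ?_
    (sub_add_cancel _ _) ((nef_iff k rD).2 hDnef) ((eff_iff rD).2 hDeff))
  rwa [h0_eq k rK, h0_eq k rKB]

theorem s52 (hn : 2 ≤ n) (B : X.Modules) (hBa : CohB1.IsAmple B)
    (hKBg : Curv2.IsGloballyGenerated (CohB1.tensorMod K B))
    (hc : Module.finrank k (Coh.HH X K 0) + n + 1 ≤ Module.finrank k (Coh.HH X (CohB1.tensorMod K B) 0))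
    (D : X.Modules) (hD : Nonempty (CohB1.tensorMod D (CohB1.tensorPow K (n - 1)) ≅ CohB1.tensorPow B (n - 2)))
    (hDnef : ∀ (Y : Scheme.{u}) (i : Y ⟶ X) [IsClosedImmersion i], IsIntegral Y → topologicalKrullDim Y = 1 →
      0 ≤ Pic13.curveDeg k (i ≫ (X ↘ Spec (CommRingCat.of k))) ((Scheme.Modules.pullback i).obj D))
    (hDeff : ∃ s : Coh.structureModule X ⟶ D, s ≠ 0) :
    MulSurj (CohB1.tensorMod K (CohB1.tensorPow B (2 * n - 2))) (CohB1.tensorMod K B) := by
  have hKi := isInvertible_canon k n hK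
  have G := geo k n hkod hnef hK hKi
  have rK := rep_cl hKi
  have rB := rep_cl hBa.1
  have rD := rep_of_tensor (rep_P rK (n - 1)) (rep_P rB (n - 2)) hD
  have rKB := rep_T rK rB
  refine (ms_iff (rep_T rK (rep_P rB _)) rKB).1 (ms52 G hn ((amp_iff rB).2 hBa) ((gg_iff rKB).2 hKBg) ?_
    (sub_add_cancel _ _) ((nef_iff k rD).2 hDnef) ((eff_iff rD).2 hDeff))
  rwa [h0_eq k rK, h0_eq k rKB]

theorem s51 (hn : 2 ≤ n) (B : X.Modules) (hBa : CohB1.IsAmple B) (hBg : Curv2.IsGloballyGenerated B)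
    (hKnef : ∀ (Y : Scheme.{u}) (i : Y ⟶ X) [IsClosedImmersion i], IsIntegral Y → topologicalKrullDim Y = 1 →
      0 ≤ Pic13.curveDeg k (i ≫ (X ↘ Spec (CommRingCat.of k))) ((Scheme.Modules.pullback i).obj K))
    (hKBg : Curv2.IsGloballyGenerated (CohB1.tensorMod K B))
    (hb : n + 2 ≤ Module.finrank k (Coh.HH X B 0))
    (hc : Module.finrank k (Coh.HH X K 0) + n + 1 ≤ Module.finrank k (Coh.HH X (CohB1.tensorMod K B) 0))
    (D : X.Modules) (hD : Nonempty (CohB1.tensorMod D K ≅ B))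
    (hDnef : ∀ (Y : Scheme.{u}) (i : Y ⟶ X) [IsClosedImmersion i], IsIntegral Y → topologicalKrullDim Y = 1 →
      0 ≤ Pic13.curveDeg k (i ≫ (X ↘ Spec (CommRingCat.of k))) ((Scheme.Modules.pullback i).obj D))
    (hDeff : ∃ s : Coh.structureModule X ⟶ D, s ≠ 0)
    (l : ℕ) (hl : n ≤ l) (L : X.Modules) (hL : Nonempty (L ≅ CohB1.tensorMod K (CohB1.tensorPow B l))) :
    VAPN k X L := by
  have hKi := isInvertible_canon k n hK
  have G := geo k n hkod hnef hK hKi
  have rK := rep_cl hKi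
  have rB := rep_cl hBa.1
  have rD := rep_of_tensor rK rB hD
  have rKB := rep_T rK rB
  have rL' := rep_T rK (rep_P rB l)
  have rL : Nonempty (rep (cl K hKi + l • cl B hBa.1) ≅ L) := by
    obtain ⟨e⟩ := rL'
    obtain ⟨f⟩ := hL
    exact ⟨e ≪≫ f.symm⟩
  have hLi := inv_of_rep rL
  have hB := (amp_iff rB).2 hBa
  have hLA : CohB1.IsAmple L := by
    rw [← amp_iff rL, add_comm]
    have := ampComb G hB ((nef_iff k rK).2 hKnef) (show 0 < l by omega) 1
    rwa [one_smul] at this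
  refine veryAmple_and_projNormal hLi hLA fun m hm => ?_
  rw [cl_eq_of hLi rL ⟨Iso.refl _⟩]
  refine ms51 G hn hB ((gg_iff rB).2 hBg) ((nef_iff k rK).2 hKnef) ((gg_iff rKB).2 hKBg) ?_ ?_
    (sub_add_cancel _ _) ((nef_iff k rD).2 hDnef) ((eff_iff rD).2 hDeff) l hl m hm
  · rwa [h0_eq k rB]
  · rwa [h0_eq k rK, h0_eq k rKB]

theorem s55 (hn : 2 ≤ n) (B : X.Modules) (hBa : CohB1.IsAmple B) (hBg : Curv2.IsGloballyGenerated B)
    (L : X.Modules) (hLi : PicF.IsInvertible L)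
    (hLnef : ∀ (Y : Scheme.{u}) (i : Y ⟶ X) [IsClosedImmersion i], IsIntegral Y → topologicalKrullDim Y = 1 →
      0 ≤ Pic13.curveDeg k (i ≫ (X ↘ Spec (CommRingCat.of k))) ((Scheme.Modules.pullback i).obj L))
    (E : X.Modules)
    (hE : Nonempty (CohB1.tensorMod (CohB1.tensorMod E K) (CohB1.tensorPow L (n - 1)) ≅ CohB1.tensorPow B (n - 1)))
    (hEa : CohB1.IsAmple E)
    (F : X.Modules) (hF : Nonempty (CohB1.tensorMod F K ≅ B)) (hFa : CohB1.IsAmple F)
    (hBLg : Curv2.IsGloballyGenerated (CohB1.tensorMod B L))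
    (G : X.Modules) (hG : Nonempty (CohB1.tensorMod G L ≅ K))
    (hd : Module.finrank k (Coh.HH X G 0) + n + 1 ≤ Module.finrank k (Coh.HH X B 0))
    (M : X.Modules) (hM : Nonempty (M ≅ CohB1.tensorMod (CohB1.tensorPow B n) L)) :
    VAPN k X M := by
  have hKi := isInvertible_canon k n hK
  have G' := geo k n hkod hnef hK hKi
  have rK := rep_cl hKi
  have rB := rep_cl hBa.1
  have rL := rep_cl hLi
  have rE := rep_of_tensor rK (rep_of_tensor (rep_P rL (n - 1)) (rep_P rB (n - 1)) hE) ⟨Iso.refl _⟩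
  have rF := rep_of_tensor rK rB hF
  have rG := rep_of_tensor rL rK hG
  have rBL := rep_T rB rL
  have rM : Nonempty (rep (n • cl B hBa.1 + cl L hLi) ≅ M) := by
    obtain ⟨e⟩ := rep_T (rep_P rB n) rL
    obtain ⟨f⟩ := hM
    exact ⟨e ≪≫ f.symm⟩
  have hMi := inv_of_rep rM
  have hB := (amp_iff rB).2 hBa
  have hL' := (nef_iff k rL).2 hLnef
  have hMA : CohB1.IsAmple M := by
    rw [← amp_iff rM]
    have := ampComb G' hB hL' (show 0 < n by omega) 1
    rwa [one_smul] at this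
  refine veryAmple_and_projNormal hMi hMA fun m hm => ?_
  rw [cl_eq_of hMi rM ⟨Iso.refl _⟩]
  refine ms55 G' hn hB ((gg_iff rB).2 hBg) hL' ?_ ((amp_iff rE).2 hEa) (sub_add_cancel _ _) ((amp_iff rF).2 hFa)
    ((gg_iff rBL).2 hBLg) (sub_add_cancel _ _) ?_ m hm
  · abel
  · rwa [h0_eq k rB, h0_eq k rG]

theorem s39 (hn : 3 ≤ n) (hKa : CohB1.IsAmple K)
    (hKg : ∀ l : ℕ, n + 2 ≤ l → Curv2.IsGloballyGenerated (CohB1.tensorPow K l))
    (m : ℕ) (hm : 2 ≤ m) (L : X.Modules) (hL : Nonempty (L ≅ CohB1.tensorPow K (n * (n + 2) + m))) :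
    VAPN k X L := by
  have hKi := isInvertible_canon k n hK
  have G := geo k n hkod hnef hK hKi
  have rK := rep_cl hKi
  have rL : Nonempty (rep ((n * (n + 2) + m) • cl K hKi) ≅ L) := by
    obtain ⟨e⟩ := rep_P rK (n * (n + 2) + m)
    obtain ⟨f⟩ := hL
    exact ⟨e ≪≫ f.symm⟩
  have hLi := inv_of_rep rL
  have hκ := (amp_iff rK).2 hKa
  have hLA : CohB1.IsAmple L := by
    rw [← amp_iff rL]
    exact ampMul k hκ (by omega)
  refine veryAmple_and_projNormal hLi hLA fun t ht => ?_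
  rw [cl_eq_of hLi rL ⟨Iso.refl _⟩]
  exact ms39 G hn hκ (fun l hl => (gg_iff (rep_P rK l)).2 (hKg l hl)) m hm t ht

end K800.Stat
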