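import Mathlib.CategoryTheory.Preadditive.Biproducts
import Mathlib.CategoryTheory.Preadditive.AdditiveFunctor
import Mathlib.Tactic

/-!
# Ordered Koszul complexes of a tower

A tower in an additive category `C` indexed by a finite type `ι`: objects `T n` and commuting families of
maps `T (n+1) ⟶ T n` indexed by `ι`.  The ordered Koszul complex `K p T = ⨁_{ι^p} T p` with the differential
`d p T : K (p+1) T ⟶ K p T`; it is contractible under any additive functor inverting one of the maps at all levels.
-/

set_option autoImplicit false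
universe w v v' u u'

open CategoryTheory CategoryTheory.Limits

namespace K800.Tower

variable {C : Type u} [Category.{v} C] [Preadditive C] [HasFiniteBiproducts C]
variable {ι : Type} [Fintype ι]

/-- A tower. -/
structure Tow (C : Type u) [Category.{v} C] (ι : Type) where
  obj : ℕ → C
  map : ∀ n, ι → (obj (n + 1) ⟶ obj n)
  comm : ∀ n i j, map (n + 1) i ≫ map n j = map (n + 1) j ≫ map n i

/-- A morphism of towers. -/
@[ext]
structure THom {C : Type u} [Category.{v} C] {ι : Type} (T U : Tow C ι) where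
  app : ∀ n, T.obj n ⟶ U.obj n
  nat : ∀ n i, T.map n i ≫ app n = app (n + 1) ≫ U.map n i

section Basic

omit [Preadditive C] [HasFiniteBiproducts C] [Fintype ι]

/-- Composition. -/
@[simps]
def THom.comp {T U V : Tow C ι} (f : THom T U) (g : THom U V) : THom T V where
  app n := f.app n ≫ g.app n
  nat n i := by rw [← Category.assoc, f.nat, Category.assoc, g.nat, Category.assoc]

/-- The shifted tower. -/
@[simps]
def Tow.shift (T : Tow C ι) : Tow C ι where
  obj n := T.obj (n + 1)
  map n i := T.map (n + 1) i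
  comm n i j := T.comm (n + 1) i j

/-- The map `T.shift ⟶ T` given by `i : ι`. -/
@[simps]
def Tow.shiftHom (T : Tow C ι) (i : ι) : THom T.shift T where
  app n := T.map n i
  nat n j := T.comm n j i

/-- Functoriality of the shift. -/
@[simps]
def THom.shift {T U : Tow C ι} (f : THom T U) : THom T.shift U.shift where
  app n := f.app (n + 1)
  nat n i := f.nat (n + 1) i

theorem shift_comp_shiftHom {T U : Tow C ι} (f : THom T U) (i : ι) :
    f.shift.comp (U.shiftHom i) = (T.shiftHom i).comp f := by
  ext n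
  simp only [THom.comp_app, THom.shift_app, Tow.shiftHom_app]
  exact (f.nat n i).symm

end Basic

/-- The terms of the ordered Koszul complex. -/
noncomputable def K : ℕ → Tow C ι → C
  | 0, T => T.obj 0
  | p + 1, T => ⨁ fun _ : ι => K p T.shift

/-- Functoriality of `K`. -/
noncomputable def Kmap : (p : ℕ) → {T U : Tow C ι} → THom T U → (K p T ⟶ K p U)
  | 0, _, _, f => f.app 0
  | p + 1, _, _, f => biproduct.map fun _ => Kmap p f.shift

theorem Kmap_succ (p : ℕ) {T U : Tow C ι} (f : THom T U) :
    Kmap (p + 1) f = biproduct.map (fun _ : ι => Kmap p f.shift) := rfl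

/-- The inclusion of the `i`-th summand. -/
noncomputable def inc (p : ℕ) (T : Tow C ι) (i : ι) : K p T.shift ⟶ K (p + 1) T :=
  biproduct.ι (fun _ : ι => K p T.shift) i

/-- The projection to the `i`-th summand. -/
noncomputable def prj (p : ℕ) (T : Tow C ι) (i : ι) : K (p + 1) T ⟶ K p T.shift :=
  biproduct.π (fun _ : ι => K p T.shift) i

theorem inc_Kmap (p : ℕ) {T U : Tow C ι} (f : THom T U) (i : ι) :
    inc p T i ≫ Kmap (p + 1) f = Kmap p f.shift ≫ inc p U i :=
  biproduct.ι_map (fun _ : ι => Kmap p f.shift) i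

theorem Kmap_prj (p : ℕ) {T U : Tow C ι} (f : THom T U) (i : ι) :
    Kmap (p + 1) f ≫ prj p U i = prj p T i ≫ Kmap p f.shift :=
  biproduct.map_π (fun _ : ι => Kmap p f.shift) i

theorem K_hom_ext (p : ℕ) {T : Tow C ι} {Z : C} (f g : K (p + 1) T ⟶ Z)
    (h : ∀ i, inc p T i ≫ f = inc p T i ≫ g) : f = g :=
  biproduct.hom_ext' _ _ h

theorem Kmap_comp (p : ℕ) : ∀ {T U V : Tow C ι} (f : THom T U) (g : THom U V),
    Kmap p (f.comp g) = Kmap p f ≫ Kmap p g := by
  induction p with
  | zero => intro T U V f g; rfl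
  | succ p ih =>
    intro T U V f g
    apply K_hom_ext
    intro i
    rw [inc_Kmap, ← Category.assoc, inc_Kmap, Category.assoc, inc_Kmap, ← Category.assoc, ← ih]
    rfl

theorem total (p : ℕ) (T : Tow C ι) : ∑ i, prj p T i ≫ inc p T i = 𝟙 (K (p + 1) T) := by
  classical exact biproduct.total

theorem inc_prj_self (p : ℕ) (T : Tow C ι) (i : ι) : inc p T i ≫ prj p T i = 𝟙 _ :=
  biproduct.ι_π_self _ _

/-- The differential of the ordered Koszul complex. -/
noncomputable def d : (p : ℕ) → (T : Tow C ι) → (K (p + 1) T ⟶ K p T)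
  | 0, T => biproduct.desc fun i => T.map 0 i
  | p + 1, T => biproduct.desc fun i => Kmap (p + 1) (T.shiftHom i) - d p T.shift ≫ inc p T i

theorem inc_d_zero (T : Tow C ι) (i : ι) : inc 0 T i ≫ d 0 T = T.map 0 i :=
  biproduct.ι_desc _ _

theorem inc_d_succ (p : ℕ) (T : Tow C ι) (i : ι) :
    inc (p + 1) T i ≫ d (p + 1) T = Kmap (p + 1) (T.shiftHom i) - d p T.shift ≫ inc p T i :=
  biproduct.ι_desc _ _

theorem Kmap_d (p : ℕ) : ∀ {T U : Tow C ι} (f : THom T U),
    Kmap (p + 1) f ≫ d p U = d p T ≫ Kmap p f := by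
  induction p with
  | zero =>
    intro T U f
    apply K_hom_ext
    intro i
    rw [← Category.assoc, inc_Kmap, Category.assoc, inc_d_zero, ← Category.assoc, inc_d_zero]
    exact (f.nat 0 i).symm
  | succ p ih =>
    intro T U f
    apply K_hom_ext
    intro i
    rw [← Category.assoc, inc_Kmap, Category.assoc, inc_d_succ, ← Category.assoc, inc_d_succ,
      Preadditive.comp_sub, Preadditive.sub_comp, ← Kmap_comp, ← Kmap_comp, shift_comp_shiftHom,
      ← Category.assoc, ih f.shift, Category.assoc, Category.assoc, inc_Kmap]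

theorem d_comp_d (p : ℕ) : ∀ (T : Tow C ι), d (p + 1) T ≫ d p T = 0 := by
  induction p with
  | zero =>
    intro T
    apply K_hom_ext
    intro i
    rw [← Category.assoc, inc_d_succ, Preadditive.sub_comp, Kmap_d, Category.assoc, inc_d_zero,
      comp_zero]
    exact sub_self _
  | succ p ih =>
    intro T
    apply K_hom_ext
    intro i
    rw [← Category.assoc, inc_d_succ, Preadditive.sub_comp, Kmap_d, Category.assoc, inc_d_succ,
      Preadditive.comp_sub, ← Category.assoc (d (p + 1) T.shift), ih T.shift, zero_comp, sub_zero,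
      sub_self, comp_zero]

section Contraction

variable {D : Type u'} [Category.{v'} D] [Preadditive D] (F : C ⥤ D) [F.Additive]

theorem isIso_map_Kmap (p : ℕ) : ∀ {T U : Tow C ι} (f : THom T U) (_ : ∀ n, IsIso (F.map (f.app n))),
    IsIso (F.map (Kmap p f)) := by
  induction p with
  | zero => intro T U f h; exact h 0
  | succ p ih =>
    intro T U f h
    have h' : IsIso (F.map (Kmap p f.shift)) := ih f.shift fun n => h (n + 1)
    refine ⟨⟨∑ i, F.map (prj p U i) ≫ inv (F.map (Kmap p f.shift)) ≫ F.map (inc p T i), ?_, ?_⟩⟩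
    · rw [Preadditive.comp_sum, ← F.map_id, ← total, Functor.map_sum]
      refine Finset.sum_congr rfl fun i _ => ?_
      rw [← Category.assoc, ← F.map_comp, Kmap_prj, F.map_comp, Category.assoc,
        IsIso.hom_inv_id_assoc, ← F.map_comp]
    · rw [Preadditive.sum_comp, ← F.map_id, ← total, Functor.map_sum]
      refine Finset.sum_congr rfl fun i _ => ?_
      rw [Category.assoc, Category.assoc, ← F.map_comp (inc p T i), inc_Kmap, F.map_comp,
        IsIso.inv_hom_id_assoc, ← F.map_comp]

variable {F} {T : Tow C ι} (i₀ : ι) (h : ∀ n, IsIso (F.map (T.map n i₀)))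

include h

/-- Contracting homotopy: every `F(K (p+1))`-identity is `d ∘ h + h ∘ d`. -/
theorem exists_homotopy : ∃ H : ∀ p, F.obj (K p T) ⟶ F.obj (K (p + 1) T),
    H 0 ≫ F.map (d 0 T) = 𝟙 _ ∧
    ∀ p, H (p + 1) ≫ F.map (d (p + 1) T) = 𝟙 _ - F.map (d p T) ≫ H p := by
  have hu : ∀ p, IsIso (F.map (Kmap p (T.shiftHom i₀))) := fun p =>
    isIso_map_Kmap F p (T.shiftHom i₀) h
  refine ⟨fun p => inv (F.map (Kmap p (T.shiftHom i₀))) ≫ F.map (inc p T i₀), ?_, fun p => ?_⟩
  · rw [Category.assoc, ← F.map_comp, inc_d_zero]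
    exact IsIso.inv_hom_id _
  · rw [Category.assoc, ← F.map_comp, inc_d_succ, Functor.map_sub, Preadditive.comp_sub,
      IsIso.inv_hom_id, F.map_comp]
    congr 1
    have hn : F.map (Kmap (p + 1) (T.shiftHom i₀)) ≫ F.map (d p T) =
        F.map (d p T.shift) ≫ F.map (Kmap p (T.shiftHom i₀)) := by
      rw [← F.map_comp, Kmap_d, F.map_comp]
    rw [IsIso.inv_comp_eq, ← Category.assoc, ← Category.assoc, hn,
      Category.assoc, Category.assoc, IsIso.hom_inv_id_assoc]

end Contraction

end K800.Tower
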